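import Groth.Agent.RegFS6.Field

/-!
# Formal smoothness and derivations
-/

set_option linter.style.haveILetI false

namespace Groth.Agent.RegFS6

universe u

open IsLocalRing TensorProduct

attribute [local instance 10000] Ring.toIntAlgebra

/-- Derivations of the base field into the residue field extend to a formally smooth algebra. -/
theorem exists_derivation_residue_of_fs {k A : Type u} [Field k] [CommRing A] [IsLocalRing A] [Algebra k A]
    (hfs : CAlgX.IsAdicFormallySmooth k A (maximalIdeal A)) (δ : Derivation ℤ k (ResidueField A)) :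
    ∃ D : Derivation ℤ A (ResidueField A), ∀ c, D (algebraMap k A c) = δ c := by
  let K := ResidueField A
  have hsm : ∀ (c : k) (y : K), c • y = algebraMap k K c * y := fun c y => Algebra.smul_def c y
  let ι : k →+* (TrivSqZeroExt K K) :=
    { toFun := fun c => TrivSqZeroExt.inl (algebraMap k K c) + TrivSqZeroExt.inr (δ c)
      map_one' := by ext <;> simp [TrivSqZeroExt.fst_add, TrivSqZeroExt.snd_add, TrivSqZeroExt.fst_mul, TrivSqZeroExt.snd_mul, TrivSqZeroExt.fst_inl, TrivSqZeroExt.snd_inl, TrivSqZeroExt.fst_inr, TrivSqZeroExt.snd_inr]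
      map_zero' := by ext <;> simp [TrivSqZeroExt.fst_add, TrivSqZeroExt.snd_add, TrivSqZeroExt.fst_mul, TrivSqZeroExt.snd_mul, TrivSqZeroExt.fst_inl, TrivSqZeroExt.snd_inl, TrivSqZeroExt.fst_inr, TrivSqZeroExt.snd_inr]
      map_mul' := fun a b => by
        refine TrivSqZeroExt.ext ?_ ?_
        · simp only [TrivSqZeroExt.fst_add, TrivSqZeroExt.snd_add, TrivSqZeroExt.fst_mul, TrivSqZeroExt.snd_mul, TrivSqZeroExt.fst_inl, TrivSqZeroExt.snd_inl, TrivSqZeroExt.fst_inr, TrivSqZeroExt.snd_inr, map_mul, add_zero]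
        · simp only [TrivSqZeroExt.fst_add, TrivSqZeroExt.snd_add, TrivSqZeroExt.fst_mul, TrivSqZeroExt.snd_mul, TrivSqZeroExt.fst_inl, TrivSqZeroExt.snd_inl, TrivSqZeroExt.fst_inr, TrivSqZeroExt.snd_inr, Derivation.leibniz, zero_add, add_zero, smul_eq_mul, MulOpposite.smul_eq_mul_unop,
            MulOpposite.unop_op, hsm]
          ring
      map_add' := fun a b => by
        refine TrivSqZeroExt.ext ?_ ?_
        · simp only [TrivSqZeroExt.fst_add, TrivSqZeroExt.snd_add, TrivSqZeroExt.fst_mul, TrivSqZeroExt.snd_mul, TrivSqZeroExt.fst_inl, TrivSqZeroExt.snd_inl, TrivSqZeroExt.fst_inr, TrivSqZeroExt.snd_inr, map_add, add_zero]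
        · simp only [TrivSqZeroExt.fst_add, TrivSqZeroExt.snd_add, TrivSqZeroExt.fst_mul, TrivSqZeroExt.snd_mul, TrivSqZeroExt.fst_inl, TrivSqZeroExt.snd_inl, TrivSqZeroExt.fst_inr, TrivSqZeroExt.snd_inr, map_add, zero_add] }
  letI : Algebra k (TrivSqZeroExt K K) := ι.toAlgebra
  let π₀ : (TrivSqZeroExt K K) →+* K := (TrivSqZeroExt.fstHom K K K).toRingHom
  have hπc : ∀ c, π₀ (ι c) = algebraMap k K c := fun c => by
    change TrivSqZeroExt.fst (ι c) = _
    simp [ι]
  let π : (TrivSqZeroExt K K) →ₐ[k] K := { π₀ with commutes' := hπc }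
  have hπ : Function.Surjective π := fun y => ⟨TrivSqZeroExt.inl y, rfl⟩
  let e := Ideal.quotientKerAlgEquivOfSurjective hπ
  have hJ : (RingHom.ker π.toRingHom) ^ 2 = ⊥ := by
    rw [eq_bot_iff, sq, Ideal.mul_le]
    intro a ha b hb
    rw [Ideal.mem_bot]
    have ha' : TrivSqZeroExt.fst a = 0 := ha
    have hb' : TrivSqZeroExt.fst b = 0 := hb
    ext <;> simp [ha', hb']
  obtain ⟨χ, hχ⟩ := hfs (TrivSqZeroExt K K) _ hJ (e.symm.toAlgHom.comp (IsScalarTower.toAlgHom k A K)) ⟨1, fun x hx => by
    show e.symm (residue A x) = 0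
    rw [(residue_eq_zero_iff x).mpr (by rwa [pow_one] at hx), map_zero]⟩
  have hfst : ∀ a, TrivSqZeroExt.fst (χ a) = residue A a := fun a => by
    have h1 := congrArg e (AlgHom.congr_fun hχ a)
    exact h1.trans (e.apply_symm_apply _)
  refine ⟨Derivation.mk' (AddMonoidHom.mk' (fun a => TrivSqZeroExt.snd (χ a)) fun a b => by simp).toIntLinearMap
    fun a b => ?_, fun c => ?_⟩
  · simp only [AddMonoidHom.coe_toIntLinearMap, AddMonoidHom.mk'_apply, map_mul, TrivSqZeroExt.snd_mul, hfst,
      smul_eq_mul, MulOpposite.smul_eq_mul_unop, MulOpposite.unop_op, Algebra.smul_def, ResidueField.algebraMap_eq]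
    ring
  · show TrivSqZeroExt.snd (χ (algebraMap k A c)) = δ c
    rw [AlgHom.commutes]
    show TrivSqZeroExt.snd (ι c) = δ c
    simp [ι]

/-- Formal smoothness makes the differentials of the field inject at the closed point. -/
theorem injective_lTensor_of_fs {k A : Type u} [Field k] [CommRing A] [IsLocalRing A] [Algebra k A]
    (hfs : CAlgX.IsAdicFormallySmooth k A (maximalIdeal A)) :
    Function.Injective ((KaehlerDifferential.mapBaseChange ℤ k A).lTensor (ResidueField A)) := by
  let K := ResidueField A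
  let f := KaehlerDifferential.mapBaseChange ℤ k A
  rw [injective_iff_map_eq_zero]
  intro x hx
  by_contra hx0
  obtain ⟨l, hl⟩ := Module.Projective.exists_dual_ne_zero K hx0
  let δ : Derivation ℤ k K := (((l.restrictScalars k).comp
    (((TensorProduct.mk A K (A ⊗[k] Ω[k⁄ℤ]) 1).restrictScalars k).comp
      (TensorProduct.mk k A (Ω[k⁄ℤ]) 1)))).compDer (KaehlerDifferential.D ℤ k)
  obtain ⟨D, hD⟩ := exists_derivation_residue_of_fs hfs δ
  have h : (LinearMap.liftBaseChange K D.liftKaehlerDifferential).comp (f.baseChange K) = l := by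
    refine LinearMap.ext fun z => ?_
    induction z using TensorProduct.induction_on with
    | zero => simp only [map_zero]
    | add a b ha hb => simp only [map_add, ha, hb]
    | tmul r y =>
      rw [show r ⊗ₜ[A] y = r • ((1 : K) ⊗ₜ[A] y) by rw [smul_tmul', smul_eq_mul, mul_one], map_smul, map_smul]
      congr 1
      induction y using TensorProduct.induction_on with
      | zero => simp only [tmul_zero, map_zero]
      | add a b ha hb => simp only [tmul_add, map_add, ha, hb]
      | tmul a ω =>
        rw [show a ⊗ₜ[k] ω = a • ((1 : A) ⊗ₜ[k] ω) by rw [smul_tmul', smul_eq_mul, mul_one], tmul_smul,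
          ← IsScalarTower.algebraMap_smul K a, map_smul, map_smul]
        congr 1
        have hω : ω ∈ Submodule.span k (Set.range (KaehlerDifferential.D ℤ k)) :=
          (KaehlerDifferential.span_range_derivation ℤ k).symm ▸ Submodule.mem_top
        induction hω using Submodule.span_induction with
        | mem w hw =>
          obtain ⟨c, rfl⟩ := hw
          simp [f, hD, δ]
        | zero => simp only [tmul_zero, map_zero]
        | add v w _ _ hv hw => simp only [tmul_add, map_add, hv, hw]
        | smul c w _ hw =>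
          rw [tmul_smul, ← IsScalarTower.algebraMap_smul A c ((1 : A) ⊗ₜ[k] w), tmul_smul,
            ← IsScalarTower.algebraMap_smul K (algebraMap k A c), map_smul, map_smul, hw]
  refine hl ?_
  rw [← h, LinearMap.comp_apply]
  show LinearMap.liftBaseChange K D.liftKaehlerDifferential (f.lTensor K x) = 0
  rw [hx, map_zero]

/-- Injectivity of differentials at the closed point extends derivations. -/
theorem exists_derivation_of_injective {k A F : Type u} [Field k] [CommRing A] [IsLocalRing A] [Algebra k A]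
    (hinj : Function.Injective ((KaehlerDifferential.mapBaseChange ℤ k A).lTensor (ResidueField A)))
    [Field F] [Algebra A F] [Algebra k F] [IsScalarTower k A F]
    (hF : ∀ x ∈ maximalIdeal A, algebraMap A F x = 0) (δ : Derivation ℤ k F) :
    ∃ D : Derivation ℤ A F, ∀ c, D (algebraMap k A c) = δ c := by
  let K := ResidueField A
  letI : Algebra K F := (Ideal.Quotient.lift _ (algebraMap A F) hF).toAlgebra
  haveI : IsScalarTower A K F := IsScalarTower.of_algebraMap_eq fun _ => rfl
  let f := KaehlerDifferential.mapBaseChange ℤ k A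
  let l : K ⊗[A] (A ⊗[k] Ω[k⁄ℤ]) →ₗ[K] F :=
    LinearMap.liftBaseChange K (LinearMap.liftBaseChange A δ.liftKaehlerDifferential)
  obtain ⟨r, hr⟩ := LinearMap.exists_leftInverse_of_injective (f.baseChange K)
    (LinearMap.ker_eq_bot.2 hinj)
  let D : Derivation ℤ A F :=
    (((l.comp r).restrictScalars A).comp (TensorProduct.mk A K (Ω[A⁄ℤ]) 1)).compDer (KaehlerDifferential.D ℤ A)
  refine ⟨D, fun c => ?_⟩
  show l (r ((1 : K) ⊗ₜ KaehlerDifferential.D ℤ A (algebraMap k A c))) = _
  have h1 : (1 : K) ⊗ₜ[A] KaehlerDifferential.D ℤ A (algebraMap k A c) =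
      f.baseChange K ((1 : K) ⊗ₜ[A] ((1 : A) ⊗ₜ[k] KaehlerDifferential.D ℤ k c)) := by
    simp [f]
  rw [h1, ← LinearMap.comp_apply r, hr]
  simp [l]

end Groth.Agent.RegFS6
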