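import Groth.Agent.RegFS6.FlatConv
import Groth.Agent.FlatLoc6.BaseChangeEss
import Groth.Agent.FlatLoc6.Loc

/-!
# Regular homomorphisms and formal smoothness at the local rings
-/

set_option linter.style.haveILetI false

namespace Groth.Agent.RegFS6

universe u

open TensorProduct IsLocalRing

variable {A B : Type u} [CommRing A] [CommRing B] [Algebra A B]

/-- Regularity of a tensor product passes to a localization of the right factor. -/
theorem regular_tensor_loc (L : Type u) [CommRing L] [Algebra A L] (M : Submonoid B) (B' : Type u) [CommRing B']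
    [Algebra A B'] [Algebra B B'] [IsScalarTower A B B'] [IsLocalization M B'] [IsRegularRing (L ⊗[A] B)] :
    IsRegularRing (L ⊗[A] B') := by
  letI : Algebra (L ⊗[A] B) (L ⊗[A] B') :=
    (Algebra.TensorProduct.map (AlgHom.id L L) (IsScalarTower.toAlgHom A B B')).toRingHom.toAlgebra
  haveI : IsScalarTower L (L ⊗[A] B) (L ⊗[A] B') := IsScalarTower.of_algebraMap_eq fun c => by
    show _ = Algebra.TensorProduct.map (AlgHom.id L L) (IsScalarTower.toAlgHom A B B') (c ⊗ₜ 1)
    simp
  haveI := IsLocalization.tensorProduct_tensorProduct_right (A := B) A L M B' (RingHom.ext fun x => by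
    show Algebra.TensorProduct.map (AlgHom.id L L) (IsScalarTower.toAlgHom A B B') (1 ⊗ₜ x) = _
    simp)
  exact GeomReg.isRegularRing_of_isLocalization (M.map (Algebra.TensorProduct.includeRight (R := A) (A := L)))
    (L ⊗[A] B')

/-- The local rings of `L ⊗ B` are read off the local rings of `B`. -/
theorem regular_tensor_of_local (L : Type u) [CommRing L] [Algebra A L] [IsNoetherianRing (L ⊗[A] B)]
    (h : ∀ (q : Ideal B) [q.IsPrime], (∃ Q : Ideal (L ⊗[A] B), Q.IsPrime ∧
      Q.comap Algebra.TensorProduct.includeRight.toRingHom = q) →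
        IsRegularRing (L ⊗[A] Localization.AtPrime q)) : IsRegularRing (L ⊗[A] B) := by
  rw [isRegularRing_iff]
  intro Q hQ
  let ι : B →ₐ[A] L ⊗[A] B := Algebra.TensorProduct.includeRight
  let q := Q.comap ι.toRingHom
  haveI hq : q.IsPrime := Ideal.comap_isPrime ι.toRingHom Q
  let B' := Localization.AtPrime q
  haveI := h q ⟨Q, hQ, rfl⟩
  letI : Algebra (L ⊗[A] B) (L ⊗[A] B') :=
    (Algebra.TensorProduct.map (AlgHom.id L L) (IsScalarTower.toAlgHom A B B')).toRingHom.toAlgebra
  haveI : IsScalarTower L (L ⊗[A] B) (L ⊗[A] B') := IsScalarTower.of_algebraMap_eq fun c => by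
    show _ = Algebra.TensorProduct.map (AlgHom.id L L) (IsScalarTower.toAlgHom A B B') (c ⊗ₜ 1)
    simp only [Algebra.TensorProduct.map_tmul, AlgHom.id_apply, map_one]
    rfl
  haveI := IsLocalization.tensorProduct_tensorProduct_right (A := B) A L q.primeCompl B' (RingHom.ext fun x => by
    show Algebra.TensorProduct.map (AlgHom.id L L) (IsScalarTower.toAlgHom A B B') (1 ⊗ₜ x) = _
    simp)
  let M := q.primeCompl.map ι
  haveI : IsLocalization M (L ⊗[A] B') := ‹_›
  have hd : Disjoint (M : Set (L ⊗[A] B)) (Q : Set (L ⊗[A] B)) := by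
    rw [Set.disjoint_left]
    rintro _ ⟨b, hb, rfl⟩ hbQ
    exact hb hbQ
  let Q' := Q.map (algebraMap (L ⊗[A] B) (L ⊗[A] B'))
  haveI : Q'.IsPrime := IsLocalization.isPrime_of_isPrime_disjoint M (L ⊗[A] B') Q hQ hd
  have hc : Q'.comap (algebraMap (L ⊗[A] B) (L ⊗[A] B')) = Q :=
    IsLocalization.comap_map_of_isPrime_disjoint M (L ⊗[A] B') hQ hd
  haveI hloc := IsLocalization.isLocalization_isLocalization_atPrime_isLocalization M (Localization.AtPrime Q') Q'
  simp only [hc] at hloc
  haveI := hloc
  haveI : IsRegularLocalRing (Localization.AtPrime Q') := IsRegularRing.isRegularLocalRing_localization Q'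
  exact IsRegularLocalRing.of_ringEquiv (R := Localization.AtPrime Q')
    (IsLocalization.algEquiv Q.primeCompl (Localization.AtPrime Q') (Localization.AtPrime Q)).toRingEquiv

variable [IsNoetherianRing A] [IsNoetherianRing B]

/-- A regular homomorphism is formally smooth at every local ring. -/
theorem fs_localRingHom_of_isRegularHom (h : CAlg.IsRegularHom A B) (p : Ideal A) [p.IsPrime] (q : Ideal B)
    [q.IsPrime] [q.LiesOver p] [Algebra (Localization.AtPrime p) (Localization.AtPrime q)]
    [Localization.AtPrime.IsLiesOverAlgebra p q] :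
    CAlgX.IsAdicFormallySmooth (Localization.AtPrime p) (Localization.AtPrime q)
      (maximalIdeal (Localization.AtPrime q)) := by
  let A' := Localization.AtPrime p
  let B' := Localization.AtPrime q
  haveI := h.1
  haveI := FlatLoc6.isLocalHom_atPrime p q
  refine fs_of_flat_of_geometricallyRegular fun L _ _ hL => ?_
  haveI := hL
  letI : Algebra A L := ((algebraMap (maximalIdeal A').ResidueField L).comp
    (algebraMap A (maximalIdeal A').ResidueField)).toAlgebra
  haveI : IsScalarTower A (maximalIdeal A').ResidueField L := IsScalarTower.of_algebraMap_eq' rfl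
  letI : Algebra A' L := ((algebraMap (maximalIdeal A').ResidueField L).comp
    (algebraMap A' (maximalIdeal A').ResidueField)).toAlgebra
  haveI : IsScalarTower A' (maximalIdeal A').ResidueField L := IsScalarTower.of_algebraMap_eq' rfl
  haveI : IsScalarTower A A' L := IsScalarTower.of_algebraMap_eq fun a => by
    show algebraMap (maximalIdeal A').ResidueField L (algebraMap A (maximalIdeal A').ResidueField a) = _
    rw [IsScalarTower.algebraMap_apply A A' (maximalIdeal A').ResidueField]
    rfl
  obtain ⟨_, _⟩ := FlatLoc6.exists_residueAlgebra (L := L) p ((FlatLoc6.ker_algebraMap_over _ L).trans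
    (IsLocalization.AtPrime.comap_maximalIdeal A' p))
  haveI := FlatLoc6.essFiniteType_ext A A' (maximalIdeal A') L p
  haveI := FlatLoc6.regular_tensor_of_geometricallyRegular (h.2 p).2 L
  haveI : IsRegularRing (L ⊗[A] B) := IsRegularRing.of_ringEquiv (R := L ⊗[p.ResidueField] p.Fiber B)
    (Algebra.TensorProduct.cancelBaseChange A p.ResidueField L L B).toRingEquiv
  haveI : IsRegularRing (L ⊗[A] B') := regular_tensor_loc L q.primeCompl B'
  exact IsRegularRing.of_ringEquiv (R := L ⊗[A] B')
    ((IsLocalization.algebraTensorEquiv p.primeCompl A' L B').symm.toRingEquiv.trans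
      (Algebra.TensorProduct.cancelBaseChange A' (maximalIdeal A').ResidueField L L B').symm.toRingEquiv)

/-- Formal smoothness at every local ring gives a regular homomorphism. -/
theorem isRegularHom_of_fs_localRingHom
    (h : ∀ (q : Ideal B) [q.IsPrime],
      letI := (Localization.localRingHom (q.comap (algebraMap A B)) q (algebraMap A B) rfl).toAlgebra
      CAlgX.IsAdicFormallySmooth (Localization.AtPrime (q.comap (algebraMap A B)))
        (Localization.AtPrime q) (maximalIdeal (Localization.AtPrime q))) :
    CAlg.IsRegularHom A B := by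
  have hq : ∀ (q : Ideal B) [q.IsPrime] (p : Ideal A) [p.IsPrime], q.comap (algebraMap A B) = p →
      ∃ (_ : q.LiesOver p) (_ : Algebra (Localization.AtPrime p) (Localization.AtPrime q))
        (_ : Localization.AtPrime.IsLiesOverAlgebra p q),
          CAlgX.IsAdicFormallySmooth (Localization.AtPrime p) (Localization.AtPrime q)
            (maximalIdeal (Localization.AtPrime q)) := by
    intro q _ p _ hp
    subst hp
    haveI : q.LiesOver (q.comap (algebraMap A B)) := ⟨rfl⟩
    letI := Localization.AtPrime.algebraOfLiesOver (q.comap (algebraMap A B)) q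
    exact ⟨inferInstance, inferInstance, inferInstance, h q⟩
  haveI : Module.Flat A B := by
    refine Module.flat_of_isLocalized_maximal B B (fun P => Localization.AtPrime P)
      (fun P => Algebra.linearMap B (Localization.AtPrime P)) fun P _ => ?_
    obtain ⟨_, _, _, hfs⟩ := hq P (P.comap (algebraMap A B)) rfl
    haveI := FlatLoc6.isLocalHom_atPrime (P.comap (algebraMap A B)) P
    haveI := flat_of_fs hfs
    exact Module.Flat.trans A (Localization.AtPrime (P.comap (algebraMap A B))) (Localization.AtPrime P)
  refine ⟨inferInstance, fun p _ => ⟨FlatLoc6.isNoetherianRing_fiber (B := B) p, fun L _ _ hL => ?_⟩⟩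
  haveI := hL
  let A' := Localization.AtPrime p
  letI : Algebra A L := ((algebraMap p.ResidueField L).comp (algebraMap A p.ResidueField)).toAlgebra
  haveI : IsScalarTower A p.ResidueField L := IsScalarTower.of_algebraMap_eq' rfl
  letI : Algebra A' L := ((algebraMap p.ResidueField L).comp (algebraMap A' p.ResidueField)).toAlgebra
  haveI : IsScalarTower A' p.ResidueField L := IsScalarTower.of_algebraMap_eq' rfl
  haveI : IsScalarTower A A' L := IsScalarTower.of_algebraMap_eq fun a => by
    show algebraMap p.ResidueField L (algebraMap A p.ResidueField a) = _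
    rw [IsScalarTower.algebraMap_apply A A' p.ResidueField]
    rfl
  have hkerL : RingHom.ker (algebraMap A' L) = maximalIdeal A' := by
    show RingHom.ker ((algebraMap p.ResidueField L).comp (algebraMap A' p.ResidueField)) = _
    rw [RingHom.ker_comp_of_injective _ (algebraMap p.ResidueField L).injective]
    exact IsLocalRing.ker_residue
  obtain ⟨_, _⟩ := FlatLoc6.exists_residueAlgebra (L := L) (maximalIdeal A') hkerL
  haveI : Module.Finite A' p.ResidueField :=
    inferInstanceAs (Module.Finite A' (A' ⧸ maximalIdeal A'))
  haveI : Module.Finite A' L := Module.Finite.trans p.ResidueField L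
  haveI : Module.Finite (maximalIdeal A').ResidueField L :=
    Module.Finite.of_restrictScalars_finite A' (maximalIdeal A').ResidueField L
  haveI : IsNoetherianRing (L ⊗[A] B) := by
    haveI : IsNoetherianRing (p.Fiber B) := FlatLoc6.isNoetherianRing_fiber p
    haveI := FlatLoc6.isNoetherianRing_tensor_finite p.ResidueField L (p.Fiber B)
    exact isNoetherianRing_of_ringEquiv _ (Algebra.TensorProduct.cancelBaseChange A p.ResidueField L L B).toRingEquiv
  haveI : IsRegularRing (L ⊗[A] B) := by
    refine regular_tensor_of_local L fun q _ hQ => ?_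
    obtain ⟨Q, _, hQ⟩ := hQ
    have hp : q.comap (algebraMap A B) = p := by
      ext a
      rw [Ideal.mem_comap, ← hQ, Ideal.mem_comap, AlgHom.toRingHom_eq_coe, RingHom.coe_coe, AlgHom.commutes,
        IsScalarTower.algebraMap_apply A L (L ⊗[A] B)]
      change _ ↔ a ∈ p
      rcases eq_or_ne (algebraMap A L a) 0 with h0 | h0
      · rw [h0, map_zero, ← Ideal.algebraMap_residueField_eq_zero (I := p),
          ← map_eq_zero_iff _ (algebraMap p.ResidueField L).injective]
        exact iff_of_true Q.zero_mem h0
      · refine iff_of_false (fun hm => ?_) fun ha => h0 ?_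
        · exact Ideal.IsPrime.ne_top ‹Q.IsPrime› (Ideal.eq_top_of_isUnit_mem _ hm ((isUnit_iff_ne_zero.mpr h0).map _))
        · show algebraMap p.ResidueField L (algebraMap A p.ResidueField a) = 0
          rw [Ideal.algebraMap_residueField_eq_zero.mpr ha, map_zero]
    obtain ⟨_, _, _, hfs⟩ := hq q p hp
    haveI := FlatLoc6.isLocalHom_atPrime p q
    haveI := geometricallyRegular_fibre_of_fs hfs L inferInstance
    exact IsRegularRing.of_ringEquiv (R := L ⊗[(maximalIdeal A').ResidueField] (maximalIdeal A').Fiber (Localization.AtPrime q))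
      ((Algebra.TensorProduct.cancelBaseChange A' (maximalIdeal A').ResidueField L L _).toRingEquiv.trans
        (IsLocalization.algebraTensorEquiv p.primeCompl A' L (Localization.AtPrime q)).toRingEquiv)
  exact IsRegularRing.of_ringEquiv (R := L ⊗[A] B)
    (Algebra.TensorProduct.cancelBaseChange A p.ResidueField L L B).symm.toRingEquiv

end Groth.Agent.RegFS6
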