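import Groth.Agent.RegFS6.GBase
import Groth.Agent.RegFS6.LocCrit
import Groth.Agent.FlatLoc6.SerreNormal
import Groth.Agent.FlatLoc6.RegCM
import Groth.Agent.FlatLoc6.Sk
import Groth.Agent.FlatLoc6.FiberRing
import Groth.Agent.CplFib6.Excellent
import Groth.Agent.CompleteNagata.LocalGlobal
import Groth.Agent.EGA41Lib.Adic
import Groth.Agent.VarDim.Basic
import Groth.Agent.S11650

/-!
# Geometric normality of the fibres from the closed fibre
-/

set_option linter.style.haveILetI false

namespace Groth.Agent.RegFS6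

universe u

open IsLocalRing TensorProduct

/-- Normality from regular or deep local rings. -/
theorem isNormalRing_of_regular_or_depth (T : Type u) [CommRing T] [IsNoetherianRing T]
    (h : ∀ (Q : Ideal T) [Q.IsPrime], IsRegularLocalRing (Localization.AtPrime Q) ∨
      (2 : ℕ∞) ≤ LocCoh.depth (Localization.AtPrime Q) (Localization.AtPrime Q)) : EGA4.IsNormalRing T := by
  intro P _
  refine FlatLoc6.normal_atPrime_of_le P (fun Q _ _ hQ => ?_) fun Q _ _ => ?_
  · rcases h Q with h1 | h1
    · exact h1
    · exfalso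
      have h2 := LC.depth_le_supportDim (R := Localization.AtPrime Q) (M := Localization.AtPrime Q)
      rw [Module.supportDim_self_eq_ringKrullDim, IsLocalization.AtPrime.ringKrullDim_eq_height Q, WithBot.coe_le_coe] at h2
      exact absurd (h1.trans (h2.trans hQ)) (by simp)
  · rcases h Q with h1 | h1
    · haveI := h1
      haveI := LC.gorenstein_of_isRegularLocalRing (R := Localization.AtPrime Q)
      have h2 : LocCoh.IsCohenMacaulayLocalRing (Localization.AtPrime Q) := LC.isCohenMacaulayLocalRing_of_gorenstein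
      have h3 := h2.supportDim_eq_depth
      rw [Module.supportDim_self_eq_ringKrullDim,
        IsLocalization.AtPrime.ringKrullDim_eq_height Q, WithBot.coe_inj] at h3
      exact (min_le_right _ _).trans h3.le
    · exact (min_le_left _ _).trans h1

/-- Geometric normality is geometric regularity in dimension at most one. -/
theorem geometricallyRegular_of_dim_le_one {K F : Type u} [Field K] [CommRing F] [Algebra K F] [IsNoetherianRing F]
    (hdim : ringKrullDim F ≤ 1) (h : EGA4.IsGeomNormal K F) : CAlg.IsGeometricallyRegular K F := by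
  intro L _ _ hL
  haveI := hL
  haveI := FlatLoc6.isNoetherianRing_tensor_finite K L F
  have h' : EGA4.IsNormalRing (F ⊗[K] L) :=
    FlatLoc6.isNormalRing_of_ringEquiv (Algebra.TensorProduct.comm K L F).toRingEquiv (h L hL)
  haveI : IsNoetherianRing (F ⊗[K] L) :=
    isNoetherianRing_of_ringEquiv _ (Algebra.TensorProduct.comm K L F).toRingEquiv
  haveI : IsRegularRing (F ⊗[K] L) := by
    rw [isRegularRing_iff]
    intro Q _
    obtain ⟨_, _⟩ := h' Q
    refine FlatLoc6.regular_of_normal _ ((IsLocalization.AtPrime.ringKrullDim_eq_height Q _).trans_le ?_)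
    exact (Ideal.height_le_ringKrullDim_of_ne_top (Ideal.IsPrime.ne_top ‹Q.IsPrime›)).trans
      ((EGA41Lib.ringKrullDim_le_of_integral (A := F) (B := F ⊗[K] L)).trans hdim)
  exact IsRegularRing.of_ringEquiv (R := F ⊗[K] L) (Algebra.TensorProduct.comm K L F).symm.toRingEquiv

/-- The local dichotomy. -/
theorem isRegularHom_or_depth {A S : Type u} [CommRing A] [CommRing S] [IsDomain A] [IsLocalRing A] [IsLocalRing S]
    [IsNoetherianRing A] [IsNoetherianRing S] [Algebra A S] [IsLocalHom (algebraMap A S)] [Module.Flat A S]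
    (hA : CAlg.IsRegularHom A (EGA4.Cpl A)) (hnf : ¬ IsField A)
    (hF : EGA4.IsGeomNormal (maximalIdeal A).ResidueField ((maximalIdeal A).Fiber S)) :
    CAlg.IsRegularHom A S ∨ (3 : ℕ∞) ≤ LocCoh.depth S S := by
  haveI := FlatLoc6.isNoetherianRing_fiber (B := S) (maximalIdeal A)
  by_cases hdim : ringKrullDim ((maximalIdeal A).Fiber S) ≤ 1
  · exact Or.inl (isRegularHom_of_fs hA (fs_of_flat_of_geometricallyRegular
      (geometricallyRegular_of_dim_le_one hdim hF)))
  right
  obtain ⟨e⟩ := closedFibre_equiv_quot A S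
  haveI : Nontrivial (S ⧸ (maximalIdeal A).map (algebraMap A S)) := Ideal.Quotient.nontrivial_iff.mpr
    (ne_top_of_le_ne_top (maximalIdeal.isMaximal S).ne_top (IsLocalRing.map_maximalIdeal_le (algebraMap A S)))
  haveI : IsLocalRing (S ⧸ (maximalIdeal A).map (algebraMap A S)) :=
    IsLocalRing.of_surjective' (Ideal.Quotient.mk _) Ideal.Quotient.mk_surjective
  let F := S ⧸ (maximalIdeal A).map (algebraMap A S)
  have hn : EGA4.IsNormalRing F := FlatLoc6.isNormalRing_of_ringEquiv e (FlatLoc6.isNormalRing_of_isGeomNormal hF)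
  haveI hloc := FlatLoc6.isLocalization_maximal (R := F)
  let ψ : Localization.AtPrime (maximalIdeal F) ≃+* F :=
    (IsLocalization.algEquiv (maximalIdeal F).primeCompl (Localization.AtPrime (maximalIdeal F)) F).toRingEquiv
  obtain ⟨_, _⟩ := hn (maximalIdeal F)
  haveI : IsDomain F := ψ.symm.toMulEquiv.isDomain
  haveI : IsIntegrallyClosed F := IsIntegrallyClosed.of_equiv ψ
  have h2 : (2 : ℕ∞) ≤ LocCoh.depth F F := by
    have hd := FlatLoc6.depth_of_normal F
    have h2' : (2 : WithBot ℕ∞) ≤ ringKrullDim F := by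
      rw [← ringKrullDim_eq_of_ringEquiv e]
      haveI : Nontrivial ((maximalIdeal A).Fiber S) := e.toEquiv.nontrivial
      obtain ⟨d, hd'⟩ := WithBot.ne_bot_iff_exists.mp
        (ne_bot_of_le_ne_bot WithBot.zero_ne_bot (ringKrullDim_nonneg_of_nontrivial (R := (maximalIdeal A).Fiber S)))
      rw [← hd'] at hdim ⊢
      exact WithBot.coe_le_coe.mpr (Order.add_one_le_of_lt (lt_of_not_ge fun h => hdim (WithBot.coe_le_coe.mpr h)))
    rw [min_eq_left h2'] at hd
    exact WithBot.coe_le_coe.mp hd
  have h1 : (1 : ℕ∞) ≤ LocCoh.depth A A := Alg6.one_le_depth_iff.mpr fun h => by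
    obtain ⟨-, z, hz⟩ := Alg6.mem_ass_iff.mp h
    obtain ⟨b, hb, hb0⟩ := Submodule.exists_mem_ne_zero_of_ne_bot
      (fun hh => hnf (isField_iff_maximalIdeal_eq.mpr hh))
    rcases mul_eq_zero.mp ((hz b).mp hb : b * z = 0) with h | h
    · exact hb0 h
    · exact (maximalIdeal.isMaximal A).ne_top ((Ideal.eq_top_iff_one _).mpr ((hz 1).mpr (by rw [h, smul_zero])))
  have key := FlatLoc6.depth_tensor (A := A) (B := S) (N := S) A
  rw [Hensel.depth_congr (AlgebraTensorModule.rid A S S), FlatLoc6.depth_fibMod] at key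
  have hF' : LocCoh.depth S (S ⧸ FlatLoc6.mN A S S) = LocCoh.depth F F := by
    refine Alg6.depth_eq_of_semilinear (Ideal.Quotient.mk _) Ideal.Quotient.mk_surjective
      (Submodule.quotEquivOfEq _ ((maximalIdeal A).map (algebraMap A S)) ?_).toAddEquiv fun r x => ?_
    · simp [FlatLoc6.mN]
    · obtain ⟨x, rfl⟩ := Submodule.Quotient.mk_surjective _ x
      rfl
  rw [key, hF', show (3 : ℕ∞) = 1 + 2 from rfl]
  exact add_le_add h1 h2

/-- The generic fibre of a regular homomorphism. -/
theorem regular_of_isRegularHom_over_zero {A S : Type u} [CommRing A] [CommRing S] [IsDomain A] [Algebra A S]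
    (h : CAlg.IsRegularHom A S) (Q : Ideal S) [Q.IsPrime] (hQ : Q.comap (algebraMap A S) = ⊥) :
    IsRegularLocalRing (Localization.AtPrime Q) := by
  haveI : (⊥ : Ideal A).IsPrime := Ideal.isPrime_bot
  obtain ⟨hn, hg⟩ := h.2 ⊥
  haveI := hn
  haveI := FlatLoc6.isRegularRing_of_geometricallyRegular hg
  obtain ⟨Qf, hQf⟩ := FlatLoc6.exists_fiber_prime ⊥ Q hQ
  subst hQf
  obtain ⟨e⟩ := FlatLoc6.exists_fibLocEquiv ⊥ Qf.asIdeal
  haveI : IsRegularLocalRing (Localization.AtPrime Qf.asIdeal) := IsRegularRing.isRegularLocalRing_localization _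
  exact IsRegularLocalRing.of_ringEquiv (R := Localization.AtPrime Qf.asIdeal) (e.trans ((Ideal.quotEquivOfEq (by rw [hQ, Ideal.map_bot])).trans
    (RingEquiv.quotientBot _)))

/-- A finite order in a finite extension of a residue field. -/
theorem exists_order_residue {A : Type u} [CommRing A] (p : Ideal A) [p.IsPrime] (L : Type u) [Field L]
    [Algebra p.ResidueField L] [Module.Finite p.ResidueField L] [Algebra A L] [IsScalarTower A p.ResidueField L] :
    ∃ C : Subalgebra A L, Module.Finite A C ∧ IsFractionRing C L := by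
  classical
  let K := p.ResidueField
  let b := Module.Free.chooseBasis K L
  letI : Algebra (A ⧸ p) L := ((algebraMap K L).comp (algebraMap (A ⧸ p) K)).toAlgebra
  haveI : IsScalarTower (A ⧸ p) K L := IsScalarTower.of_algebraMap_eq' rfl
  have hex : ∀ i, ∃ s : A, algebraMap A L s ≠ 0 ∧ IsIntegral A (algebraMap A L s * b i) := fun i => by
    obtain ⟨s, hs⟩ := IsIntegral.exists_multiple_integral_of_isLocalization (nonZeroDivisors (A ⧸ p)) (b i)
      (IsIntegral.of_finite K (b i))
    obtain ⟨s₀, hs₀⟩ := Ideal.Quotient.mk_surjective (s : A ⧸ p)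
    have h0 : algebraMap (A ⧸ p) L s = algebraMap A L s₀ := by
      rw [← hs₀, ← Ideal.Quotient.algebraMap_eq, IsScalarTower.algebraMap_apply A K L,
        IsScalarTower.algebraMap_apply (A ⧸ p) K L, ← IsScalarTower.algebraMap_apply A (A ⧸ p) K]
    refine ⟨s₀, ?_, ?_⟩
    · rw [← h0, IsScalarTower.algebraMap_apply (A ⧸ p) K L]
      exact (map_ne_zero_iff _ (algebraMap K L).injective).mpr
        ((map_ne_zero_iff _ (IsFractionRing.injective (A ⧸ p) K)).mpr (nonZeroDivisors.ne_zero s.2))
    · rw [← h0, ← Algebra.smul_def]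
      haveI : IsScalarTower A (A ⧸ p) L := IsScalarTower.of_algebraMap_eq fun a => by
        rw [IsScalarTower.algebraMap_apply A K L, IsScalarTower.algebraMap_apply (A ⧸ p) K L,
          ← IsScalarTower.algebraMap_apply A (A ⧸ p) K]
      exact isIntegral_trans (R := A) (A := A ⧸ p) _ hs
  choose s hs hint using hex
  let C := Algebra.adjoin A (Set.range fun i => algebraMap A L (s i) * b i)
  refine ⟨C, Algebra.finite_adjoin_of_finite_of_isIntegral (Set.finite_range _)
    (by rintro _ ⟨i, rfl⟩; exact hint i), IsFractionRing.of_field C L fun z => ?_⟩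
  let ι : FractionRing C →+* L :=
    IsFractionRing.lift (g := algebraMap C L) (show Function.Injective (algebraMap C L) from Subtype.val_injective)
  have hC : ∀ x : C, (x : L) ∈ ι.fieldRange := fun x => ⟨algebraMap C _ x, IsFractionRing.lift_algebraMap _ x⟩
  have hAK : ∀ c : K, algebraMap K L c ∈ ι.fieldRange := fun c => by
    obtain ⟨x, y, -, rfl⟩ := IsFractionRing.div_surjective (A ⧸ p) c
    obtain ⟨x, rfl⟩ := Ideal.Quotient.mk_surjective x
    obtain ⟨y, rfl⟩ := Ideal.Quotient.mk_surjective y
    rw [map_div₀, ← Ideal.Quotient.algebraMap_eq, ← IsScalarTower.algebraMap_apply A (A ⧸ p) K,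
      ← IsScalarTower.algebraMap_apply A (A ⧸ p) K, ← IsScalarTower.algebraMap_apply, ← IsScalarTower.algebraMap_apply]
    exact div_mem (hC (algebraMap A C x)) (hC (algebraMap A C y))
  have hb : ∀ i, b i ∈ ι.fieldRange := fun i => by
    rw [← mul_div_cancel_left₀ (b i) (hs i)]
    exact div_mem (hC ⟨_, Algebra.subset_adjoin ⟨i, rfl⟩⟩) (hC (algebraMap A C (s i)))
  obtain ⟨w, hw⟩ : z ∈ ι.fieldRange := by
    rw [← b.sum_repr z]
    exact Subfield.sum_mem _ fun i _ => by rw [Algebra.smul_def]; exact mul_mem (hAK _) (hb i)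
  obtain ⟨x, y, -, rfl⟩ := IsFractionRing.div_surjective C w
  refine ⟨x, y, ?_⟩
  simp only [ι] at hw
  rw [map_div₀, IsFractionRing.lift_algebraMap, IsFractionRing.lift_algebraMap] at hw
  exact hw.symm

/-- The dichotomy at a prime over zero, from a prime one step above it. -/
theorem regular_or_depth_of_prime {C B' : Type u} [CommRing C] [CommRing B'] [IsDomain C] [IsNoetherianRing C]
    [IsNoetherianRing B'] [Algebra C B'] [Module.Flat C B'] (hC : CAlg.IsGRing C) (Q q : Ideal B') [Q.IsPrime]
    [q.IsPrime] (hQ0 : Q.comap (algebraMap C B') = ⊥) (hQq : Q ≤ q) (hht : (q.map (Ideal.Quotient.mk Q)).height ≤ 1)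
    (P : Ideal C) [P.IsPrime] [q.LiesOver P] (hP0 : P ≠ ⊥) [Algebra (Localization.AtPrime P) (Localization.AtPrime q)]
    [Localization.AtPrime.IsLiesOverAlgebra P q]
    (hF : EGA4.IsGeomNormal (maximalIdeal (Localization.AtPrime P)).ResidueField
      ((maximalIdeal (Localization.AtPrime P)).Fiber (Localization.AtPrime q))) :
    IsRegularLocalRing (Localization.AtPrime Q) ∨
      (2 : ℕ∞) ≤ LocCoh.depth (Localization.AtPrime Q) (Localization.AtPrime Q) := by
  haveI := FlatLoc6.isLocalHom_atPrime P q
  haveI : IsNoetherianRing (Localization.AtPrime q) := IsLocalization.isNoetherianRing q.primeCompl _ inferInstance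
  haveI : IsNoetherianRing (Localization.AtPrime P) := IsLocalization.isNoetherianRing P.primeCompl _ inferInstance
  haveI : Module.Flat C (Localization.AtPrime q) :=
    haveI : Module.Flat B' (Localization.AtPrime q) := IsLocalization.flat _ q.primeCompl
    Module.Flat.trans C B' _
  haveI : Module.Flat (Localization.AtPrime P) (Localization.AtPrime q) :=
    (Module.flat_iff_of_isLocalization (Localization.AtPrime P) P.primeCompl _).mpr inferInstance
  haveI : IsDomain (Localization.AtPrime P) :=
    IsLocalization.isDomain_localization P.primeCompl_le_nonZeroDivisors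
  have hnf : ¬ IsField (Localization.AtPrime P) := fun hF => by
    obtain ⟨x, hx, hx0⟩ := Submodule.exists_mem_ne_zero_of_ne_bot hP0
    have h1 : algebraMap C (Localization.AtPrime P) x ∈ maximalIdeal (Localization.AtPrime P) :=
      (IsLocalization.AtPrime.to_map_mem_maximal_iff _ P _ inferInstance).mpr hx
    rw [isField_iff_maximalIdeal_eq.mp hF, Ideal.mem_bot,
      map_eq_zero_iff _ (IsLocalization.injective _ P.primeCompl_le_nonZeroDivisors)] at h1
    exact hx0 h1
  rcases isRegularHom_or_depth (hC.2 P) hnf hF with h | h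
  · left
    have hd : Disjoint (q.primeCompl : Set B') (Q : Set B') := (Alg6.disjoint_primeCompl_iff q Q).mpr hQq
    haveI := IsLocalization.isPrime_of_isPrime_disjoint q.primeCompl (Localization.AtPrime q) Q ‹_› hd
    let Qs := Q.map (algebraMap B' (Localization.AtPrime q))
    have hc : Qs.comap (algebraMap B' (Localization.AtPrime q)) = Q :=
      IsLocalization.under_map_of_isPrime_disjoint q.primeCompl (Localization.AtPrime q) ‹_› hd
    haveI hr := regular_of_isRegularHom_over_zero h Qs (by
      rw [eq_bot_iff]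
      intro x hx
      obtain ⟨c, s, rfl⟩ := IsLocalization.exists_mk'_eq P.primeCompl x
      rw [Ideal.mem_bot, IsLocalization.mk'_eq_zero_iff]
      refine ⟨1, ?_⟩
      have h1 : algebraMap C (Localization.AtPrime P) c ∈ Qs.comap (algebraMap _ (Localization.AtPrime q)) := by
        rw [← IsLocalization.mk'_spec (Localization.AtPrime P) c s]
        exact Ideal.mul_mem_right _ _ hx
      rw [Ideal.mem_comap, ← IsScalarTower.algebraMap_apply, IsScalarTower.algebraMap_apply C B' (Localization.AtPrime q),
        ← Ideal.mem_comap, hc, ← Ideal.mem_comap, hQ0, Ideal.mem_bot] at h1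
      rw [h1, mul_zero])
    haveI hl := IsLocalization.isLocalization_isLocalization_atPrime_isLocalization q.primeCompl (Localization.AtPrime Qs) Qs
    simp only [hc] at hl
    haveI := hl
    exact IsRegularLocalRing.of_ringEquiv (R := Localization.AtPrime Qs)
      (IsLocalization.algEquiv Q.primeCompl (Localization.AtPrime Qs) (Localization.AtPrime Q)).toRingEquiv
  · right
    have h1 := S11650.result B' B' Q q hQq
    rw [FlatLoc6.depth_self_atPrime, FlatLoc6.depth_self_atPrime] at h1
    have h2 := h.trans (h1.trans (add_le_add_right hht _))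
    exact (ENat.addLECancellable_of_ne_top ENat.one_ne_top).add_le_add_iff_right.mp h2

/-- Geometric normality of the closed fibre of a localized base change. -/
theorem geomNormal_closedFibre_loc {A B C : Type u} [CommRing A] [CommRing B] [CommRing C] [Algebra A B] [Algebra A C]
    [IsNoetherianRing B] [IsNoetherianRing C] [Algebra.EssFiniteType A C] (p : Ideal A)
    (hp : ∀ a ∈ p, algebraMap A C a = 0)
    (ih : ∀ (p' : Ideal A) [p'.IsPrime], p < p' → EGA4.IsGeomNormal p'.ResidueField (p'.Fiber B))
    (q : Ideal (C ⊗[A] B)) [q.IsPrime] (P : Ideal C) [P.IsPrime] [q.LiesOver P]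
    [Algebra (Localization.AtPrime P) (Localization.AtPrime q)] [Localization.AtPrime.IsLiesOverAlgebra P q]
    (t : A) (htp : t ∉ p) (htP : algebraMap A C t ∈ P) :
    EGA4.IsGeomNormal (maximalIdeal (Localization.AtPrime P)).ResidueField
      ((maximalIdeal (Localization.AtPrime P)).Fiber (Localization.AtPrime q)) := by
  let A' := Localization.AtPrime P
  intro L' _ _ hL'
  haveI := hL'
  letI : Algebra C L' := ((algebraMap (maximalIdeal A').ResidueField L').comp
    (algebraMap C (maximalIdeal A').ResidueField)).toAlgebra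
  haveI : IsScalarTower C (maximalIdeal A').ResidueField L' := IsScalarTower.of_algebraMap_eq' rfl
  letI : Algebra A' L' := ((algebraMap (maximalIdeal A').ResidueField L').comp
    (algebraMap A' (maximalIdeal A').ResidueField)).toAlgebra
  haveI : IsScalarTower A' (maximalIdeal A').ResidueField L' := IsScalarTower.of_algebraMap_eq' rfl
  haveI : IsScalarTower C A' L' := IsScalarTower.of_algebraMap_eq fun a => by
    show algebraMap (maximalIdeal A').ResidueField L' (algebraMap C (maximalIdeal A').ResidueField a) = _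
    rw [IsScalarTower.algebraMap_apply C A' (maximalIdeal A').ResidueField]
    rfl
  letI : Algebra A L' := ((algebraMap C L').comp (algebraMap A C)).toAlgebra
  haveI : IsScalarTower A C L' := IsScalarTower.of_algebraMap_eq' rfl
  haveI : IsScalarTower A (maximalIdeal A').ResidueField L' := IsScalarTower.of_algebraMap_eq fun a => by
    show algebraMap C L' (algebraMap A C a) = _
    rw [IsScalarTower.algebraMap_apply C (maximalIdeal A').ResidueField L', ← IsScalarTower.algebraMap_apply A C]
  have hP : RingHom.ker (algebraMap C L') = P :=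
    (FlatLoc6.ker_algebraMap_over _ L').trans (IsLocalization.AtPrime.comap_maximalIdeal A' P)
  let p' := P.comap (algebraMap A C)
  have hlt : p < p' := lt_of_le_of_ne
    (fun a ha => by rw [Ideal.mem_comap, hp a ha]; exact P.zero_mem)
    (fun h => htp (h ▸ (show t ∈ p' from htP)))
  obtain ⟨_, _⟩ := FlatLoc6.exists_residueAlgebra (L := L') p' (by
    show RingHom.ker ((algebraMap C L').comp (algebraMap A C)) = _
    rw [← RingHom.comap_ker, hP])
  haveI : Algebra.EssFiniteType A A' := Algebra.EssFiniteType.comp A C A'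
  haveI := FlatLoc6.essFiniteType_ext A A' (maximalIdeal A') L' p'
  haveI := FlatLoc6.isNoetherianRing_fiber (B := B) p'
  have h1 := (FlatLoc6.normal_tensor_of_isGeomNormal (ih p' hlt) L').2
  have h2 : EGA4.IsNormalRing (L' ⊗[C] (C ⊗[A] B)) := FlatLoc6.isNormalRing_of_ringEquiv
    ((Algebra.TensorProduct.cancelBaseChange A p'.ResidueField L' L' B).toRingEquiv.trans
      (Algebra.TensorProduct.cancelBaseChange A C L' L' B).symm.toRingEquiv) h1
  letI : Algebra (L' ⊗[C] (C ⊗[A] B)) (L' ⊗[C] Localization.AtPrime q) :=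
    (Algebra.TensorProduct.map (AlgHom.id L' L') (IsScalarTower.toAlgHom C (C ⊗[A] B) (Localization.AtPrime q))).toRingHom.toAlgebra
  haveI : IsScalarTower L' (L' ⊗[C] (C ⊗[A] B)) (L' ⊗[C] Localization.AtPrime q) :=
    IsScalarTower.of_algebraMap_eq fun c => by
      show _ = Algebra.TensorProduct.map (AlgHom.id L' L') (IsScalarTower.toAlgHom C (C ⊗[A] B) (Localization.AtPrime q)) (c ⊗ₜ 1)
      simp only [Algebra.TensorProduct.map_tmul, AlgHom.id_apply, map_one]
      rfl
  haveI := IsLocalization.tensorProduct_tensorProduct_right (A := C ⊗[A] B) C L' q.primeCompl (Localization.AtPrime q)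
    (RingHom.ext fun x => by
      show Algebra.TensorProduct.map (AlgHom.id L' L') (IsScalarTower.toAlgHom C (C ⊗[A] B) (Localization.AtPrime q)) (1 ⊗ₜ x) = _
      simp)
  exact FlatLoc6.isNormalRing_of_ringEquiv
    ((IsLocalization.algebraTensorEquiv P.primeCompl A' L' (Localization.AtPrime q)).symm.toRingEquiv.trans
      (Algebra.TensorProduct.cancelBaseChange A' (maximalIdeal A').ResidueField L' L' _).symm.toRingEquiv)
    (FlatLoc6.isNormalRing_of_isLocalization (q.primeCompl.map (Algebra.TensorProduct.includeRight (R := C) (A := L'))) _ h2)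

/-- A prime one step above a given one, containing the element `t`. -/
theorem exists_prime_one_step {A B C : Type u} [CommRing A] [CommRing B] [CommRing C] [Algebra A B] [Algebra A C]
    [IsLocalRing A] [IsLocalRing B] [IsLocalHom (algebraMap A B)] [Module.Finite A C] [IsNoetherianRing (C ⊗[A] B)]
    (Q : Ideal (C ⊗[A] B)) [Q.IsPrime] (t : A) (htm : t ∈ maximalIdeal A) :
    ∃ (q : Ideal (C ⊗[A] B)) (_ : q.IsPrime), Q ≤ q ∧ (q.map (Ideal.Quotient.mk Q)).height ≤ 1 ∧
      algebraMap A (C ⊗[A] B) t ∈ q := by
  -- a maximal ideal above `Q` contains `t`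
  obtain ⟨M, hM, hQM⟩ := Ideal.exists_le_maximal Q (Ideal.IsPrime.ne_top inferInstance)
  have htM : algebraMap A (C ⊗[A] B) t ∈ M := by
    letI : Algebra B (C ⊗[A] B) := Algebra.TensorProduct.rightAlgebra
    haveI : IsScalarTower A B (C ⊗[A] B) := Algebra.TensorProduct.right_isScalarTower
    haveI : Algebra.IsIntegral B (C ⊗[A] B) := by
      haveI : Module.Finite B (C ⊗[A] B) := Module.Finite.equiv
        ({ (Algebra.TensorProduct.comm A B C).toLinearEquiv.toAddEquiv with
           map_smul' := fun b x => by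
            show Algebra.TensorProduct.comm A B C (b • x) = b • Algebra.TensorProduct.comm A B C x
            rw [Algebra.smul_def, Algebra.smul_def, map_mul]
            congr 1 } : B ⊗[A] C ≃ₗ[B] C ⊗[A] B)
      exact Algebra.IsIntegral.of_finite _ _
    have hMB : (M.comap (algebraMap B (C ⊗[A] B))).IsMaximal := Ideal.isMaximal_comap_of_isIntegral_of_isMaximal M
    have htB : algebraMap A B t ∈ M.comap (algebraMap B (C ⊗[A] B)) := by
      rw [IsLocalRing.eq_maximalIdeal hMB]
      exact map_nonunit (algebraMap A B) t htm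
    rw [Ideal.mem_comap, ← IsScalarTower.algebraMap_apply] at htB
    exact htB
  obtain ⟨q, hq, hqM⟩ := Ideal.exists_minimalPrimes_le
    (show Q ⊔ Ideal.span {algebraMap A (C ⊗[A] B) t} ≤ M from sup_le hQM ((Ideal.span_singleton_le_iff_mem _).mpr htM))
  haveI := hq.1.1
  have hQq : Q ≤ q := le_sup_left.trans hq.1.2
  have htq : algebraMap A (C ⊗[A] B) t ∈ q := hq.1.2 (Ideal.mem_sup_right (Ideal.mem_span_singleton_self _))
  have hht : (q.map (Ideal.Quotient.mk Q)).height ≤ 1 := by
    let tb := Ideal.Quotient.mk Q (algebraMap A (C ⊗[A] B) t)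
    haveI : (Ideal.span {tb}).IsPrincipal := ⟨⟨tb, rfl⟩⟩
    refine Ideal.height_le_one_of_isPrincipal_of_mem_minimalPrimes (Ideal.span {tb}) _ ?_
    have h1 := Ideal.comap_map_of_surjective (Ideal.Quotient.mk Q) Ideal.Quotient.mk_surjective q
    rw [← RingHom.ker_eq_comap_bot, Ideal.mk_ker, sup_eq_left.mpr hQq] at h1
    refine ⟨⟨Ideal.map_isPrime_of_surjective Ideal.Quotient.mk_surjective (by rw [Ideal.mk_ker]; exact hQq),
      (Ideal.span_singleton_le_iff_mem _).mpr (Ideal.mem_map_of_mem _ htq)⟩, fun r ⟨hr, hr'⟩ hrq => ?_⟩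
    haveI := hr
    have h2 : q ≤ r.comap (Ideal.Quotient.mk Q) := hq.2
      ⟨Ideal.comap_isPrime _ _, sup_le (fun x hx => by
          rw [Ideal.mem_comap, Ideal.Quotient.eq_zero_iff_mem.mpr hx]
          exact r.zero_mem)
        ((Ideal.span_singleton_le_iff_mem _).mpr (hr' (Ideal.mem_span_singleton_self tb)))⟩
      ((Ideal.comap_mono hrq).trans h1.le)
    exact (Ideal.map_mono h2).trans (Ideal.map_comap_le)
  exact ⟨q, inferInstance, hQq, hht, htq⟩

/-- Normality of the base change to the fraction field of a finite domain. -/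
theorem normal_tensor_fraction {A B C L : Type u} [CommRing A] [CommRing B] [CommRing C] [Field L] [IsLocalRing A]
    [IsLocalRing B] [IsNoetherianRing A] [IsNoetherianRing B] [Algebra A B] [IsLocalHom (algebraMap A B)] [Module.Flat A B]
    [Algebra A C] [Algebra A L] [Algebra C L] [IsScalarTower A C L] [Module.Finite A C] [IsDomain C] [IsFractionRing C L]
    [IsNoetherianRing (L ⊗[A] B)]
    (hA : CAlg.IsGRing A) (p : Ideal A) (hCker : ∀ a : A, algebraMap A C a = 0 ↔ a ∈ p)
    (ih : ∀ (p' : Ideal A) [p'.IsPrime], p < p' → EGA4.IsGeomNormal p'.ResidueField (p'.Fiber B))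
    (t : A) (htm : t ∈ maximalIdeal A) (htp : t ∉ p) : EGA4.IsNormalRing (L ⊗[A] B) := by
  haveI : IsNoetherianRing C := Algebra.FiniteType.isNoetherianRing A C
  haveI : IsNoetherianRing (C ⊗[A] B) := FlatLoc6.isNoetherianRing_baseChange_ess A B C
  letI : Algebra (C ⊗[A] B) (L ⊗[A] B) :=
    (Algebra.TensorProduct.map (IsScalarTower.toAlgHom A C L) (AlgHom.id A B)).toRingHom.toAlgebra
  haveI : IsScalarTower C (C ⊗[A] B) (L ⊗[A] B) := IsScalarTower.of_algebraMap_eq fun c => by
    show _ = Algebra.TensorProduct.map (IsScalarTower.toAlgHom A C L) (AlgHom.id A B) (c ⊗ₜ 1)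
    simp
  haveI hTloc : IsLocalization (Algebra.algebraMapSubmonoid (C ⊗[A] B) (nonZeroDivisors C)) (L ⊗[A] B) :=
    IsLocalization.tensorProduct_tensorProduct (R := A) (A := C) (S := B) (nonZeroDivisors C) L
      (RingHom.ext fun x => by
        show Algebra.TensorProduct.map (IsScalarTower.toAlgHom A C L) (AlgHom.id A B) (1 ⊗ₜ x) = _
        simp)
  refine isNormalRing_of_regular_or_depth _ fun QT _ => ?_
  let Q : Ideal (C ⊗[A] B) := QT.comap (algebraMap (C ⊗[A] B) (L ⊗[A] B))
  have hQ0 : Q.comap (algebraMap C (C ⊗[A] B)) = ⊥ := by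
    rw [eq_bot_iff]
    intro c hc
    by_contra hc0
    have hu : IsUnit (algebraMap C (L ⊗[A] B) c) := by
      rw [IsScalarTower.algebraMap_apply C L (L ⊗[A] B)]
      exact (isUnit_iff_ne_zero.mpr fun h => hc0 (IsFractionRing.injective C L (h.trans (map_zero _).symm))).map _
    rw [IsScalarTower.algebraMap_apply C (C ⊗[A] B) (L ⊗[A] B)] at hu
    exact Ideal.IsPrime.ne_top ‹QT.IsPrime› (Ideal.eq_top_of_isUnit_mem _ hc hu)
  haveI hQloc : IsLocalization.AtPrime (Localization.AtPrime QT) Q :=
    IsLocalization.isLocalization_isLocalization_atPrime_isLocalization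
      (Algebra.algebraMapSubmonoid (C ⊗[A] B) (nonZeroDivisors C)) (Localization.AtPrime QT) QT
  let ψ : Localization.AtPrime Q ≃+* Localization.AtPrime QT :=
    (IsLocalization.algEquiv Q.primeCompl (Localization.AtPrime Q) (Localization.AtPrime QT)).toRingEquiv
  suffices H : IsRegularLocalRing (Localization.AtPrime Q) ∨
      (2 : ℕ∞) ≤ LocCoh.depth (Localization.AtPrime Q) (Localization.AtPrime Q) by
    rcases H with H | H
    · exact Or.inl (IsRegularLocalRing.of_ringEquiv (R := Localization.AtPrime Q) ψ)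
    · exact Or.inr (H.trans (Alg6.depth_eq_of_semilinear ψ.toRingHom ψ.surjective ψ.toAddEquiv
        (fun r x => map_mul ψ r x)).le)
  obtain ⟨q, _, hQq, hht, htq⟩ := exists_prime_one_step (A := A) (B := B) (C := C) Q t htm
  let P := q.comap (algebraMap C (C ⊗[A] B))
  haveI : q.LiesOver P := ⟨rfl⟩
  letI := Localization.AtPrime.algebraOfLiesOver P q
  have htP : algebraMap A C t ∈ P := by
    show algebraMap C (C ⊗[A] B) (algebraMap A C t) ∈ q
    rwa [← IsScalarTower.algebraMap_apply]
  exact regular_or_depth_of_prime (CplFib6.isGRing_of_finiteType hA C) Q q hQ0 hQq hht P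
    (fun h => htp ((hCker t).mp (by rwa [h, Ideal.mem_bot] at htP)))
    (geomNormal_closedFibre_loc p (fun a ha => (hCker a).mpr ha) ih q P t htp htP)


/-- The inductive step at a prime. -/
theorem geomNormal_fiber_of_larger {A B : Type u} [CommRing A] [CommRing B] [IsLocalRing A] [IsLocalRing B]
    [IsNoetherianRing A] [IsNoetherianRing B] [Algebra A B] [IsLocalHom (algebraMap A B)] [Module.Flat A B]
    (hA : CAlg.IsGRing A) (p : Ideal A) [p.IsPrime] (hpm : p ≠ maximalIdeal A)
    (ih : ∀ (p' : Ideal A) [p'.IsPrime], p < p' → EGA4.IsGeomNormal p'.ResidueField (p'.Fiber B)) :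
    EGA4.IsGeomNormal p.ResidueField (p.Fiber B) := by
  intro L _ _ hL
  haveI := hL
  letI : Algebra A L := ((algebraMap p.ResidueField L).comp (algebraMap A p.ResidueField)).toAlgebra
  haveI : IsScalarTower A p.ResidueField L := IsScalarTower.of_algebraMap_eq' rfl
  obtain ⟨t, htm, htp⟩ : ∃ t ∈ maximalIdeal A, t ∉ p := by
    by_contra! h
    exact hpm (le_antisymm (IsLocalRing.le_maximalIdeal (Ideal.IsPrime.ne_top ‹_›)) h)
  have hker : RingHom.ker (algebraMap A L) = p := by
    show RingHom.ker ((algebraMap p.ResidueField L).comp (algebraMap A p.ResidueField)) = _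
    rw [RingHom.ker_comp_of_injective _ (algebraMap p.ResidueField L).injective, Ideal.ker_algebraMap_residueField]
  obtain ⟨C, hCfin, hCfr⟩ := exists_order_residue p L
  haveI := hCfin
  haveI := hCfr
  haveI : IsNoetherianRing C := Algebra.FiniteType.isNoetherianRing A C
  have hCker : ∀ a : A, algebraMap A C a = 0 ↔ a ∈ p := fun a => by
    rw [← hker, RingHom.mem_ker]
    exact ⟨fun h => congrArg Subtype.val h, fun h => Subtype.ext h⟩
  haveI : IsNoetherianRing (L ⊗[A] B) := by
    haveI := FlatLoc6.isNoetherianRing_fiber (B := B) p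
    haveI := FlatLoc6.isNoetherianRing_tensor_finite p.ResidueField L (p.Fiber B)
    exact isNoetherianRing_of_ringEquiv _ (Algebra.TensorProduct.cancelBaseChange A p.ResidueField L L B).toRingEquiv
  refine FlatLoc6.isNormalRing_of_ringEquiv (R := L ⊗[A] B)
    (Algebra.TensorProduct.cancelBaseChange A p.ResidueField L L B).symm.toRingEquiv ?_
  exact normal_tensor_fraction (C := C) hA p hCker ih t htm htp

/-- Geometric normality of all fibres from that of the closed fibre, over a G-ring. -/
theorem isNormalHom_of_closed_fibre {A B : Type u} [CommRing A] [CommRing B] [IsLocalRing A] [IsLocalRing B]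
    [IsNoetherianRing A] [IsNoetherianRing B] [Algebra A B] [IsLocalHom (algebraMap A B)] [Module.Flat A B]
    (hA : CAlg.IsGRing A) (h : EGA4.IsGeomNormal (maximalIdeal A).ResidueField ((maximalIdeal A).Fiber B)) :
    EGA4.IsNormalHom A B := by
  refine ⟨inferInstance, fun p _ => ?_⟩
  induction p using (wellFounded_gt (α := Ideal A)).induction with
  | _ p ih =>
    by_cases hpm : p = maximalIdeal A
    · subst hpm
      exact h
    · exact geomNormal_fiber_of_larger hA p hpm fun p' _ hlt => ih p' hlt inferInstance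

/-- The closed fibre only depends on the residue field of the base. -/
theorem geomNormal_closedFibre_change {A A' X : Type u} [CommRing A] [CommRing A'] [CommRing X] [IsLocalRing A]
    [IsLocalRing A'] [Algebra A A'] [Algebra A X] [Algebra A' X] [IsScalarTower A A' X] [IsLocalHom (algebraMap A A')]
    [IsNoetherianRing X] (hmax : maximalIdeal A' = (maximalIdeal A).map (algebraMap A A'))
    (hres : ∀ a' : A', ∃ a : A, a' - algebraMap A A' a ∈ maximalIdeal A')
    (h : EGA4.IsGeomNormal (maximalIdeal A).ResidueField ((maximalIdeal A).Fiber X)) :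
    EGA4.IsGeomNormal (maximalIdeal A').ResidueField ((maximalIdeal A').Fiber X) := by
  intro L _ _ hL
  haveI := hL
  letI : Algebra A' L := ((algebraMap (maximalIdeal A').ResidueField L).comp
    (algebraMap A' (maximalIdeal A').ResidueField)).toAlgebra
  haveI : IsScalarTower A' (maximalIdeal A').ResidueField L := IsScalarTower.of_algebraMap_eq' rfl
  letI : Algebra A L := ((algebraMap A' L).comp (algebraMap A A')).toAlgebra
  haveI : IsScalarTower A A' L := IsScalarTower.of_algebraMap_eq' rfl
  have hker' : RingHom.ker (algebraMap A' L) = maximalIdeal A' := by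
    show RingHom.ker ((algebraMap (maximalIdeal A').ResidueField L).comp (algebraMap A' (maximalIdeal A').ResidueField)) = _
    rw [RingHom.ker_comp_of_injective _ (algebraMap (maximalIdeal A').ResidueField L).injective, Ideal.ker_algebraMap_residueField]
  obtain ⟨_, _⟩ := FlatLoc6.exists_residueAlgebra (L := L) (maximalIdeal A) (by
    show RingHom.ker ((algebraMap A' L).comp (algebraMap A A')) = _
    rw [← RingHom.comap_ker, hker']
    exact (IsLocalRing.local_hom_TFAE (algebraMap A A')).out 0 4 |>.mp ‹IsLocalHom (algebraMap A A')›)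
  have hsurj : Function.Surjective (algebraMap A (maximalIdeal A').ResidueField) := fun z => by
    obtain ⟨w, rfl⟩ := Ideal.algebraMap_residueField_surjective (maximalIdeal A') z
    obtain ⟨a, ha⟩ := hres w
    refine ⟨a, ?_⟩
    rw [IsScalarTower.algebraMap_apply A A' (maximalIdeal A').ResidueField, eq_comm, ← sub_eq_zero, ← map_sub]
    exact Ideal.algebraMap_residueField_eq_zero.mpr ha
  haveI : IsScalarTower A (maximalIdeal A').ResidueField L := IsScalarTower.of_algebraMap_eq fun a => by
    rw [IsScalarTower.algebraMap_apply A A' (maximalIdeal A').ResidueField, ← IsScalarTower.algebraMap_apply A' _ L,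
      ← IsScalarTower.algebraMap_apply A A' L]
  haveI : Module.Finite A (maximalIdeal A').ResidueField :=
    Module.Finite.of_surjective (Algebra.linearMap A (maximalIdeal A').ResidueField) hsurj
  haveI : Module.Finite A L := Module.Finite.trans (maximalIdeal A').ResidueField L
  haveI : Module.Finite (maximalIdeal A).ResidueField L :=
    Module.Finite.of_restrictScalars_finite A (maximalIdeal A).ResidueField L
  have h1 : EGA4.IsNormalRing (L ⊗[A] X) := FlatLoc6.isNormalRing_of_ringEquiv
    (Algebra.TensorProduct.cancelBaseChange A (maximalIdeal A).ResidueField L L X).toRingEquiv (h L inferInstance)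
  haveI : TensorProduct.CompatibleSMul A A' L X := ⟨fun a' l x => by
    obtain ⟨a, ha⟩ := hres a'
    have hl : ∀ z ∈ maximalIdeal A', z • l = 0 := fun z hz => by
      rw [← hker', RingHom.mem_ker] at hz
      rw [Algebra.smul_def, hz, zero_mul]
    have hx : ∀ z ∈ maximalIdeal A', ∀ y : X, l ⊗ₜ[A] (z • y) = 0 := fun z hz => by
      rw [hmax] at hz
      refine Submodule.span_induction (p := fun z _ => ∀ y : X, l ⊗ₜ[A] (z • y) = 0) ?_ ?_ ?_ ?_ hz
      · rintro _ ⟨b, hb, rfl⟩ y
        rw [algebraMap_smul, tmul_smul, smul_tmul', ← algebraMap_smul A' b l,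
          hl _ (map_nonunit (algebraMap A A') b hb), zero_tmul]
      · intro y
        rw [zero_smul, tmul_zero]
      · intro u v _ _ hu hv y
        rw [add_smul, tmul_add, hu, hv, add_zero]
      · intro c u _ hu y
        rw [smul_eq_mul, mul_comm, mul_smul, hu]
    rw [show a' = algebraMap A A' a + (a' - algebraMap A A' a) by ring, add_smul, add_smul, hl _ ha, add_zero, tmul_add,
      hx _ ha, add_zero, algebraMap_smul, algebraMap_smul, tmul_smul, smul_tmul']⟩
  exact FlatLoc6.isNormalRing_of_ringEquiv
    ((Algebra.TensorProduct.equivOfCompatibleSMul A A' L L X).symm.toRingEquiv.trans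
      (Algebra.TensorProduct.cancelBaseChange A' (maximalIdeal A').ResidueField L L X).symm.toRingEquiv) h1

end Groth.Agent.RegFS6
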