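import Groth.Agent.RegFS6.Perfect
import Groth.Agent.AdicSmooth.SmallExt
import Groth.Agent.SmoothingLib.GeomRegDiff
import Groth.Agent.CplFib6.QuotReg
import Groth.Agent.FlatLoc6.RegCM

/-!
# Formal smoothness and geometric regularity over a field
-/

set_option linter.style.haveILetI false

namespace Groth.Agent.RegFS6

universe u

open IsLocalRing TensorProduct

/-- A regular local algebra is formally smooth over a field when derivations of the field extend to it. -/
theorem fs_of_derivation_extend (P : Type u) [Field P] [PerfectField P] {k A : Type u} [Field k] [CommRing A]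
    [IsRegularLocalRing A] [Algebra k A] [Algebra P k]
    (hext : ∀ (F : Type u) [Field F] [Algebra A F] [Algebra k F] [IsScalarTower k A F],
      (∀ x ∈ maximalIdeal A, algebraMap A F x = 0) → ∀ δ : Derivation ℤ k F,
        ∃ D : Derivation ℤ A F, ∀ c, D (algebraMap k A c) = δ c) :
    CAlgX.IsAdicFormallySmooth k A (maximalIdeal A) := by
  classical
  letI : Algebra P A := ((algebraMap k A).comp (algebraMap P k)).toAlgebra
  haveI : IsScalarTower P k A := IsScalarTower.of_algebraMap_eq fun _ => rfl
  refine AdicSmooth.isAdicFormallySmooth_of_smallLift fun B _ _ _ _ _ J hJ hlen _ ψ _ _ => ?_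
  letI : Algebra P B := ((algebraMap k B).comp (algebraMap P k)).toAlgebra
  haveI : IsScalarTower P k B := IsScalarTower.of_algebraMap_eq fun _ => rfl
  haveI : IsArtinianRing (B ⧸ J) :=
    Function.Surjective.isArtinianRing (f := Ideal.Quotient.mk J) Ideal.Quotient.mk_surjective
  obtain ⟨N, hN⟩ : IsNilpotent (maximalIdeal (B ⧸ J)) := by
    rw [← IsLocalRing.jacobson_eq_maximalIdeal ⊥ bot_ne_top]
    exact IsArtinianRing.isNilpotent_jacobson_bot
  obtain ⟨χ₀, hχ₀⟩ := fs_of_regular P A B J hJ (ψ.restrictScalars P) ⟨N, fun x hx => by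
    have h1 : ψ x ∈ maximalIdeal (B ⧸ J) ^ N :=
      EGA41Lib.mem_pow_of_forall_mem ψ (fun y hy => map_nonunit ψ.toRingHom y hy) N x hx
    rwa [hN, Ideal.zero_eq_bot, Ideal.mem_bot] at h1⟩
  -- the discrepancy lies in a line
  haveI : IsSimpleModule B J := Module.length_eq_one_iff.mp hlen
  haveI := IsSimpleModule.nontrivial B J
  obtain ⟨x, hx⟩ := exists_ne (0 : J)
  have hspan : ∀ y ∈ J, ∃ b : B, y = b * x := fun y hy => by
    obtain ⟨b, hb⟩ := (isSimpleModule_iff_toSpanSingleton_surjective.mp ‹IsSimpleModule B J›).2 x hx ⟨y, hy⟩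
    exact ⟨b, (congrArg Subtype.val hb).symm⟩
  have hkill : ∀ b ∈ maximalIdeal B, b * (x : B) = 0 := fun b hb => by
    by_contra hne
    obtain ⟨c, hc⟩ := (isSimpleModule_iff_toSpanSingleton_surjective.mp ‹IsSimpleModule B J›).2
      ⟨b * x, J.mul_mem_left b x.2⟩ (fun h0 => hne (congrArg Subtype.val h0)) x
    have h1 : (1 - c * b) * (x : B) = 0 := by
      have := congrArg Subtype.val hc
      simp only [LinearMap.toSpanSingleton_apply, Submodule.coe_smul, smul_eq_mul] at this
      linear_combination -this
    have hu : IsUnit (1 - c * b) :=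
      IsLocalRing.isUnit_one_sub_self_of_mem_nonunits _ (Ideal.mul_mem_left _ c hb)
    exact hx (Subtype.ext (hu.mul_right_eq_zero.mp h1))
  have hJm : J ≤ maximalIdeal B := IsLocalRing.le_maximalIdeal (Ideal.Quotient.nontrivial_iff.mp inferInstance)
  let L : ResidueField B →ₗ[B] B := Submodule.liftQ (maximalIdeal B) (LinearMap.toSpanSingleton B B (x : B))
    fun b hb => hkill b hb
  have hL : ∀ b, L (residue B b) = b * x := fun b => rfl
  have hLinj : Function.Injective L := by
    rw [injective_iff_map_eq_zero]
    intro r hr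
    obtain ⟨b, rfl⟩ := residue_surjective r
    rw [hL] at hr
    rw [residue_eq_zero_iff]
    by_contra hb
    rw [mem_maximalIdeal, mem_nonunits_iff, not_not] at hb
    exact hx (Subtype.ext (hb.mul_right_eq_zero.mp hr))
  have hLJ : ∀ r, L r ∈ J := fun r => by
    obtain ⟨b, rfl⟩ := residue_surjective r
    exact hL b ▸ J.mul_mem_left b x.2
  have hLmul : ∀ (b : B) (r : ResidueField B), L (residue B b * r) = b * L r := fun b r => by
    obtain ⟨c, rfl⟩ := residue_surjective r
    rw [← map_mul, hL, hL, mul_assoc]
  have hJJ : ∀ a ∈ J, ∀ b ∈ J, a * b = 0 := fun a ha b hb => by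
    have := Ideal.mul_mem_mul ha hb
    rwa [← sq, hJ] at this
  letI : Algebra A (ResidueField B) := ((residue B).comp χ₀.toRingHom).toAlgebra
  have hd : ∀ c, χ₀ (algebraMap k A c) - algebraMap k B c ∈ J := fun c => by
    rw [← Ideal.Quotient.eq]
    exact (AlgHom.congr_fun hχ₀ _).trans (ψ.commutes c)
  haveI : IsScalarTower k A (ResidueField B) := IsScalarTower.of_algebraMap_eq fun c => by
    show residue B (algebraMap k B c) = residue B (χ₀ (algebraMap k A c))
    exact (Ideal.Quotient.eq.mpr (hJm (hd c))).symm
  choose d hd' using fun c => hspan _ (hd c)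
  have hδ : ∀ c, L (residue B (d c)) = χ₀ (algebraMap k A c) - algebraMap k B c := fun c => by rw [hL, hd']
  have hLk : ∀ (c : k) (r : ResidueField B), L (c • r) = algebraMap k B c * L r := fun c r => by
    rw [Algebra.smul_def, ← hLmul]
    rfl
  let δ : Derivation ℤ k (ResidueField B) := Derivation.mk'
    (AddMonoidHom.mk' (fun c => residue B (d c)) fun a b => hLinj (by
      simp only [map_add, hδ]
      ring)).toIntLinearMap
    fun a b => hLinj (by
      simp only [AddMonoidHom.coe_toIntLinearMap, AddMonoidHom.mk'_apply, map_add, hLk, hδ, map_mul]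
      linear_combination hJJ _ (hd a) _ (hd b))
  obtain ⟨D, hD⟩ := hext (ResidueField B)
    (fun a ha => by
      show residue B (χ₀ a) = 0
      rw [residue_eq_zero_iff]
      intro hu
      have h1 := hu.map (Ideal.Quotient.mk J)
      rw [show Ideal.Quotient.mk J (χ₀ a) = ψ a from AlgHom.congr_fun hχ₀ a] at h1
      exact (mem_maximalIdeal a).mp ha (isUnit_of_map_unit ψ.toRingHom a h1)) δ
  have hLD : ∀ (a : A) (r : ResidueField B), L (a • r) = χ₀ a * L r := fun a r => by
    rw [Algebra.smul_def, ← hLmul]
    rfl
  refine ⟨{ toFun := fun a => χ₀ a - L (D a), map_one' := ?_, map_mul' := fun a b => ?_, map_zero' := ?_,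
            map_add' := fun a b => ?_, commutes' := fun c => ?_ }, AlgHom.ext fun a => ?_⟩
  · rw [D.map_one_eq_zero, map_zero, map_one, sub_zero]
  · rw [D.leibniz, map_add, hLD, hLD, map_mul]
    linear_combination -(hJJ _ (hLJ (D a)) _ (hLJ (D b)))
  · rw [map_zero, map_zero, map_zero, sub_zero]
  · rw [map_add, map_add, map_add]
    ring
  · show χ₀ (algebraMap k A c) - L (D (algebraMap k A c)) = algebraMap k B c
    rw [hD]
    show _ - L (residue B (d c)) = _
    rw [hδ, sub_sub_cancel]
  · show Ideal.Quotient.mk J (χ₀ a - L (D a)) = ψ a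
    rw [map_sub, Ideal.Quotient.eq_zero_iff_mem.mpr (hLJ _), sub_zero]
    exact AlgHom.congr_fun hχ₀ a

/-- A geometrically regular local algebra over a field of characteristic `p` is formally smooth. -/
theorem fs_of_geometricallyRegular (p : ℕ) [Fact p.Prime] {k A : Type u} [Field k] [CharP k p] [CommRing A]
    [IsLocalRing A] [IsNoetherianRing A] [Algebra k A] (h : CAlg.IsGeometricallyRegular k A) :
    CAlgX.IsAdicFormallySmooth k A (maximalIdeal A) := by
  haveI := FlatLoc6.isRegularRing_of_geometricallyRegular h
  haveI : IsRegularLocalRing A := IsRegularLocalRing.of_isRegularRing_of_isLocalRing A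
  haveI : CharP A p := charP_of_injective_algebraMap (algebraMap k A).injective p
  let P := ULift.{u} (ZMod p)
  haveI : Finite P := Finite.of_equiv _ Equiv.ulift.symm
  haveI : PerfectField P := PerfectField.ofFinite
  letI : Algebra P k := ((ZMod.castHom dvd_rfl k).comp (ULift.ringEquiv (R := ZMod p)).toRingHom).toAlgebra
  exact fs_of_derivation_extend P fun F _ _ _ _ hF δ => SmoothingLib.GeomDiff.exists_derivation_extend p h hF δ

/-- A ring whose local rings at maximal ideals are regular is regular. -/
theorem isRegularRing_of_maximal (R : Type u) [CommRing R] [IsNoetherianRing R]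
    (h : ∀ (n : Ideal R) [n.IsMaximal], IsRegularLocalRing (Localization.AtPrime n)) : IsRegularRing R := by
  rw [isRegularRing_iff]
  intro p hp
  obtain ⟨n, hn, hpn⟩ := Ideal.exists_le_maximal p hp.ne_top
  haveI := h n
  have hd : Disjoint (n.primeCompl : Set R) p := Set.disjoint_left.mpr fun x hx hxp => hx (hpn hxp)
  let q := p.map (algebraMap R (Localization.AtPrime n))
  haveI : q.IsPrime := IsLocalization.isPrime_of_isPrime_disjoint n.primeCompl _ p hp hd
  have hq : q.comap (algebraMap R _) = p :=
    IsLocalization.comap_map_of_isPrime_disjoint n.primeCompl _ hp hd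
  haveI := S0564.result (Localization.AtPrime n) q
  let e := (IsLocalization.localizationLocalizationAtPrimeIsoLocalization n.primeCompl q).toRingEquiv
  haveI : IsRegularLocalRing (Localization.AtPrime (q.comap (algebraMap R (Localization.AtPrime n)))) :=
    IsRegularLocalRing.of_ringEquiv e.symm
  revert this
  intro _
  have : ∀ (q' : Ideal R) [q'.IsPrime], q' = p → IsRegularLocalRing (Localization.AtPrime q') →
      IsRegularLocalRing (Localization.AtPrime p) := by rintro q' _ rfl h; exact h
  exact this _ hq inferInstance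

/-- Formal smoothness over a field makes every finite base change regular. -/
theorem geometricallyRegular_of_fs_of_perfect (P : Type u) [Field P] [PerfectField P] {k A : Type u} [Field k]
    [Algebra P k] [CommRing A] [IsLocalRing A] [IsNoetherianRing A] [Algebra k A]
    (hfs : CAlgX.IsAdicFormallySmooth k A (maximalIdeal A)) : CAlg.IsGeometricallyRegular k A := by
  intro k' _ _ hfin
  haveI : IsNoetherianRing (A ⊗[k] k') := GeomReg.isNoetherianRing_tensor k k' A
  haveI : IsNoetherianRing (k' ⊗[k] A) :=
    isNoetherianRing_of_ringEquiv (A ⊗[k] k') (Algebra.TensorProduct.comm k A k').toRingEquiv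
  refine isRegularRing_of_maximal _ fun n _ => ?_
  let T := k' ⊗[k] A
  let C := Localization.AtPrime n
  letI : Algebra P k' := ((algebraMap k k').comp (algebraMap P k)).toAlgebra
  haveI : IsScalarTower P k k' := IsScalarTower.of_algebraMap_eq fun _ => rfl
  letI : Algebra P C := ((algebraMap T C).comp ((algebraMap k' T).comp (algebraMap P k'))).toAlgebra
  haveI : Algebra.FormallySmooth P k' := CoeffField.formallySmooth_of_perfectField P k'
  refine regular_of_fs P C fun E _ _ J hJ u hu => ?_
  obtain ⟨N, hN⟩ := hu
  let u' : T →+* E ⧸ J := u.toRingHom.comp (algebraMap T C)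
  let u₀ : k' →ₐ[P] E ⧸ J :=
    { u'.comp (algebraMap k' T) with commutes' := fun a => u.commutes a }
  obtain ⟨v, hv⟩ := Algebra.FormallySmooth.comp_surjective P k' J hJ u₀
  letI : Algebra k E := (v.toRingHom.comp (algebraMap k k')).toAlgebra
  let vk : k' →ₐ[k] E := { v.toRingHom with commutes' := fun _ => rfl }
  let uA : A →ₐ[k] E ⧸ J :=
    { u'.comp (Algebra.TensorProduct.includeRight (R := k) (A := k') (B := A)).toRingHom with
      commutes' := fun c => by
        show u' (Algebra.TensorProduct.includeRight (algebraMap k A c)) = Ideal.Quotient.mk J (v (algebraMap k k' c))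
        refine Eq.trans ?_ (AlgHom.congr_fun hv (algebraMap k k' c)).symm
        rw [AlgHom.commutes]
        rfl }
  have hloc : ∀ a ∈ maximalIdeal A, algebraMap T C ((1 : k') ⊗ₜ[k] a) ∈ maximalIdeal C := by
    intro a ha
    rw [IsLocalization.AtPrime.to_map_mem_maximal_iff C n]
    letI : Algebra A T := (Algebra.TensorProduct.includeRight (R := k) (A := k') (B := A)).toRingHom.toAlgebra
    haveI : Algebra.IsIntegral A T := ⟨fun z => by
      induction z using TensorProduct.induction_on with
      | zero => exact isIntegral_zero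
      | add x y hx hy => exact hx.add hy
      | tmul c b =>
        have hsplit : c ⊗ₜ[k] b = (c ⊗ₜ[k] (1 : A)) * algebraMap A T b := by
          show _ = (c ⊗ₜ[k] (1 : A)) * ((1 : k') ⊗ₜ[k] b)
          simp
        rw [hsplit]
        refine IsIntegral.mul ?_ isIntegral_algebraMap
        haveI : IsScalarTower k A T := IsScalarTower.of_algebraMap_eq fun r =>
          ((Algebra.TensorProduct.includeRight (R := k) (A := k') (B := A)).commutes r).symm
        exact ((Algebra.IsIntegral.isIntegral (R := k) c).map
          (Algebra.TensorProduct.includeLeft : k' →ₐ[k] T)).tower_top⟩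
    have h1 : (n.comap (algebraMap A T)).IsMaximal := Ideal.isMaximal_comap_of_isIntegral_of_isMaximal n
    exact (IsLocalRing.eq_maximalIdeal h1).ge ha
  obtain ⟨w, hw⟩ := hfs E J hJ uA ⟨N, fun a ha => hN _ (EGA41Lib.mem_pow_of_forall_mem
    ((algebraMap T C).comp (Algebra.TensorProduct.includeRight (R := k) (A := k') (B := A)).toRingHom) hloc N a ha)⟩
  let χ : T →ₐ[k] E := Algebra.TensorProduct.lift vk w fun _ _ => Commute.all _ _
  have hχ : ∀ t, Ideal.Quotient.mk J (χ t) = u (algebraMap T C t) := fun t => by
    induction t using TensorProduct.induction_on with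
    | zero => simp
    | add a b ha hb => simp only [map_add, ha, hb]
    | tmul a b =>
      have hsplit : a ⊗ₜ[k] b = algebraMap k' T a * Algebra.TensorProduct.includeRight b := by
        simp [T]
      rw [hsplit, map_mul, map_mul, map_mul, map_mul]
      congr 1
      · have h2 : χ (algebraMap k' T a) = v a := by
          show Algebra.TensorProduct.lift vk w _ (a ⊗ₜ[k] (1 : A)) = _
          rw [Algebra.TensorProduct.lift_tmul, map_one, mul_one]
          rfl
        rw [h2]
        exact AlgHom.congr_fun hv a
      · have h2 : χ (Algebra.TensorProduct.includeRight b) = w b := by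
          show Algebra.TensorProduct.lift vk w _ ((1 : k') ⊗ₜ[k] b) = _
          rw [Algebra.TensorProduct.lift_tmul, map_one, one_mul]
        rw [h2]
        exact AlgHom.congr_fun hw b
  have hunits : ∀ y : n.primeCompl, IsUnit (χ.toRingHom y) := fun y => by
    refine (IsNilpotent.isUnit_quotient_mk_iff (I := J) ⟨2, hJ⟩).mp ?_
    show IsUnit (Ideal.Quotient.mk J (χ y))
    rw [hχ]
    exact (IsLocalization.map_units C y).map u
  let χC : C →+* E := IsLocalization.lift hunits
  refine ⟨{ χC with commutes' := fun a => ?_ }, AlgHom.ext fun z => ?_⟩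
  · show χC (algebraMap T C (algebraMap k' T (algebraMap P k' a))) = _
    rw [IsLocalization.lift_eq]
    show χ (algebraMap k' T (algebraMap P k' a)) = _
    show Algebra.TensorProduct.lift vk w _ ((algebraMap P k' a) ⊗ₜ[k] (1 : A)) = _
    rw [Algebra.TensorProduct.lift_tmul, map_one, mul_one]
    exact v.commutes a
  · show ((Ideal.Quotient.mk J).comp χC) z = u.toRingHom z
    refine RingHom.congr_fun (IsLocalization.ringHom_ext n.primeCompl (RingHom.ext fun t => ?_)) z
    show Ideal.Quotient.mk J (χC (algebraMap T C t)) = u (algebraMap T C t)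
    rw [IsLocalization.lift_eq]
    exact hχ t

/-- Formal smoothness over a field implies geometric regularity. -/
theorem geometricallyRegular_of_fs {k A : Type u} [Field k] [CommRing A] [IsLocalRing A] [IsNoetherianRing A]
    [Algebra k A] (hfs : CAlgX.IsAdicFormallySmooth k A (maximalIdeal A)) : CAlg.IsGeometricallyRegular k A := by
  rcases CharP.exists' k with h | ⟨p, hp, hk⟩
  · exact geometricallyRegular_of_fs_of_perfect k hfs
  · haveI := hp
    let P := ULift.{u} (ZMod p)
    haveI : Finite P := Finite.of_equiv _ Equiv.ulift.symm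
    haveI : PerfectField P := PerfectField.ofFinite
    letI : Algebra P k := ((ZMod.castHom dvd_rfl k).comp (ULift.ringEquiv (R := ZMod p)).toRingHom).toAlgebra
    exact geometricallyRegular_of_fs_of_perfect P hfs

/-- The criterion over a field. -/
theorem fs_iff_geometricallyRegular {k A : Type u} [Field k] [CommRing A] [IsLocalRing A] [IsNoetherianRing A]
    [Algebra k A] :
    CAlgX.IsAdicFormallySmooth k A (maximalIdeal A) ↔ CAlg.IsGeometricallyRegular k A := by
  refine ⟨geometricallyRegular_of_fs, fun h => ?_⟩
  rcases CharP.exists' k with h0 | ⟨p, hp, hk⟩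
  · haveI := FlatLoc6.isRegularRing_of_geometricallyRegular h
    haveI : IsRegularLocalRing A := IsRegularLocalRing.of_isRegularRing_of_isLocalRing A
    exact fs_of_regular k A
  · haveI := hp
    exact fs_of_geometricallyRegular p h

/-- The completion of a formally smooth local algebra over a field is a power series ring. -/
theorem exists_cpl_equiv_powerSeries {k A : Type u} [Field k] [CommRing A] [IsLocalRing A] [IsNoetherianRing A]
    [Algebra k A] (hfs : CAlgX.IsAdicFormallySmooth k A (maximalIdeal A)) :
    ∃ n : ℕ, Nonempty (EGA4.Cpl A ≃+* MvPowerSeries (Fin n) (ResidueField A)) := by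
  haveI := FlatLoc6.isRegularRing_of_geometricallyRegular (geometricallyRegular_of_fs hfs)
  haveI : IsRegularLocalRing A := IsRegularLocalRing.of_isRegularRing_of_isLocalRing A
  suffices H : ∀ (P : Type u) [Field P] [PerfectField P] [Algebra P A],
      ∃ n : ℕ, Nonempty (EGA4.Cpl A ≃+* MvPowerSeries (Fin n) (ResidueField A)) by
    rcases CharP.exists' k with h0 | ⟨p, hp, hk⟩
    · exact H k
    · haveI := hp
      let P := ULift.{u} (ZMod p)
      haveI : Finite P := Finite.of_equiv _ Equiv.ulift.symm
      haveI : PerfectField P := PerfectField.ofFinite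
      letI : Algebra P k := ((ZMod.castHom dvd_rfl k).comp (ULift.ringEquiv (R := ZMod p)).toRingHom).toAlgebra
      letI : Algebra P A := ((algebraMap k A).comp (algebraMap P k)).toAlgebra
      exact H P
  intro P _ _ _
  haveI := FlatLoc6.isLocalRing_cpl A
  haveI := FlatLoc6.isNoetherianRing_cpl A
  haveI := CplFib6.isAdicComplete_cpl A
  haveI : IsRegularLocalRing (EGA4.Cpl A) := (S0548.result A).1 inferInstance
  obtain ⟨n, ψ, hs, hn, -⟩ := exists_ps_hom P (EGA4.Cpl A)
  have hbij : Function.Bijective ψ := PSLib.bijective_of_surjective _ n ψ.toRingHom hs (by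
    rw [← IsRegularLocalRing.spanFinrank_maximalIdeal, hn])
  haveI : IsLocalHom (algebraMap A (EGA4.Cpl A)) := ((local_hom_TFAE _).out 0 2).mpr
    (AdicCompletion.maximalIdeal_eq_map_of_fg (IsNoetherian.noetherian _)).ge
  let f := ResidueField.map (algebraMap A (EGA4.Cpl A))
  have hf : Function.Bijective f := ⟨f.injective, fun y => by
    obtain ⟨x, rfl⟩ := residue_surjective y
    obtain ⟨a, ha⟩ := CplFib6.exists_sub_mem A x
    exact ⟨residue A a, ((residue_eq_zero_iff _).2 ha |> fun h => (sub_eq_zero.mp ((map_sub _ _ _).symm.trans h))).symm⟩⟩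
  let e := RingEquiv.ofBijective f hf
  exact ⟨n, ⟨(RingEquiv.ofBijective ψ.toRingHom hbij).symm.trans (RingEquiv.ofRingHom
    (MvPowerSeries.map e.symm.toRingHom) (MvPowerSeries.map e.toRingHom)
    (by rw [← MvPowerSeries.map_comp, RingEquiv.symm_toRingHom_comp_toRingHom, MvPowerSeries.map_id])
    (by rw [← MvPowerSeries.map_comp, RingEquiv.toRingHom_comp_symm_toRingHom, MvPowerSeries.map_id]))⟩⟩

end Groth.Agent.RegFS6
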