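import Groth.Prelude.Def_CAlgX
import Groth.Agent.EGA41Lib.Adic
import Mathlib

/-!
# Smoothness near a point from adic formal smoothness at it
-/

set_option linter.style.haveILetI false

namespace Groth.Agent.RegFS6

universe u

open IsLocalRing TensorProduct

/-- Functionals on the kernel come from derivations. -/
theorem exists_derivation_functional {k₀ R S : Type u} [CommRing k₀] [CommRing R] [CommRing S] [IsLocalRing R]
    [IsLocalRing S] [IsNoetherianRing R] [Algebra k₀ R] [Algebra k₀ S] (π : R →ₐ[k₀] S) (hπ : Function.Surjective π)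
    (hfs : CAlgX.IsAdicFormallySmooth k₀ S (maximalIdeal S))
    (l : RingHom.ker π →ₗ[R] ResidueField R) :
    ∃ D : Derivation k₀ R (ResidueField R), ∀ a : RingHom.ker π, D a = l a := by
  classical
  let I := RingHom.ker π
  let m := maximalIdeal R
  have hIm : I ≤ m := IsLocalRing.le_maximalIdeal (RingHom.ker_ne_top π)
  let K : Ideal R := (LinearMap.ker l).map I.subtype
  have hKI : K ≤ I := Submodule.map_subtype_le _ _
  have hl0 : ∀ a : I, (a : R) ∈ K → l a = 0 := fun a ⟨b, hb, hab⟩ => by
    have : b = a := Subtype.ext hab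
    exact this ▸ hb
  have hmI : ∀ a : I, (a : R) ∈ m * I → l a = 0 := by
    intro a ha
    refine hl0 a ?_
    refine Ideal.mul_le.mpr (fun x hx y hy => ?_) ha
    refine ⟨x • ⟨y, hy⟩, ?_, rfl⟩
    show l (x • ⟨y, hy⟩) = 0
    rw [map_smul, Algebra.smul_def, ResidueField.algebraMap_eq, (residue_eq_zero_iff x).mpr hx, zero_mul]
  obtain ⟨c, hc⟩ := Ideal.exists_pow_inf_eq_pow_smul m (M := R) I
  let n := c + 1
  have hAR : ∀ a : I, (a : R) ∈ m ^ n → l a = 0 := fun a ha => by
    refine hmI a ?_
    have h1 := (hc n (Nat.le_succ c)).le (show (a : R) ∈ (m ^ n • ⊤ : Submodule R R) ⊓ I from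
      ⟨by rw [smul_eq_mul, Ideal.mul_top]; exact ha, a.2⟩)
    rw [show n - c = 1 by omega, pow_one] at h1
    exact Submodule.smul_mono le_rfl inf_le_right h1
  let N : Ideal R := K ⊔ m ^ n
  have hIN : ∀ a : I, (a : R) ∈ N → l a = 0 := fun a ha => by
    obtain ⟨x, hx, y, hy, hxy⟩ := Submodule.mem_sup.mp ha
    have hyI : y ∈ I := by
      rw [show y = (a : R) - x by rw [← hxy]; ring]
      exact sub_mem a.2 (hKI hx)
    have : a = (⟨x, hKI hx⟩ : I) + ⟨y, hyI⟩ := Subtype.ext hxy.symm
    rw [this, map_add, hl0 _ hx, hAR _ hy, add_zero]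
  let E := R ⧸ N
  let J : Ideal (R ⧸ N) := I.map (Ideal.Quotient.mk N)
  have hJ : J ^ 2 = ⊥ := by
    rw [eq_bot_iff, ← Ideal.map_pow, Ideal.map_le_iff_le_comap, sq, Ideal.mul_le]
    intro x hx y hy
    rw [Ideal.mem_comap, Ideal.mem_bot, Ideal.Quotient.eq_zero_iff_mem]
    refine Submodule.mem_sup_left ⟨⟨x * y, I.mul_mem_left x hy⟩, ?_, rfl⟩
    exact hmI _ (Ideal.mul_mem_mul (hIm hx) hy)
  haveI : IsLocalHom π.toRingHom := IsLocalHom.of_surjective π.toRingHom hπ
  let q : R →ₐ[k₀] (R ⧸ N) ⧸ J := (Ideal.Quotient.mkₐ k₀ J).comp (Ideal.Quotient.mkₐ k₀ N)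
  have hq : ∀ x ∈ I, q x = 0 := fun x hx => Ideal.Quotient.eq_zero_iff_mem.mpr (Ideal.mem_map_of_mem _ hx)
  let ψ : S →ₐ[k₀] (R ⧸ N) ⧸ J :=
    (Ideal.Quotient.liftₐ I q hq).comp (Ideal.quotientKerAlgEquivOfSurjective hπ).symm.toAlgHom
  have hψ : ∀ x, ψ (π x) = q x := fun x => by
    show Ideal.Quotient.liftₐ I q hq ((Ideal.quotientKerAlgEquivOfSurjective hπ).symm (π x)) = _
    rw [show (Ideal.quotientKerAlgEquivOfSurjective hπ).symm (π x) = Ideal.Quotient.mk I x from
      (AlgEquiv.symm_apply_eq _).mpr rfl]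
    rfl
  obtain ⟨w, hw⟩ := hfs (R ⧸ N) J hJ ψ ⟨n, fun s hs => by
    rw [← IsLocalRing.map_maximalIdeal_of_surjective π.toRingHom hπ, ← Ideal.map_pow] at hs
    obtain ⟨x, hx, rfl⟩ := (Ideal.mem_map_iff_of_surjective π.toRingHom hπ).mp hs
    show ψ (π x) = 0
    rw [hψ]
    show Ideal.Quotient.mk J (Ideal.Quotient.mk N x) = 0
    rw [Ideal.Quotient.eq_zero_iff_mem.mpr (Submodule.mem_sup_right hx), map_zero]⟩
  have hdiff : ∀ x, Ideal.Quotient.mk N x - w (π x) ∈ J := fun x => by
    rw [← Ideal.Quotient.eq_zero_iff_mem, map_sub,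
      show Ideal.Quotient.mk J (w (π x)) = ψ (π x) from AlgHom.congr_fun hw (π x), hψ]
    exact sub_self _
  have hpre : ∀ x, ∃ a : I, Ideal.Quotient.mk N (a : R) = Ideal.Quotient.mk N x - w (π x) := fun x => by
    obtain ⟨a, ha, h⟩ := (Ideal.mem_map_iff_of_surjective _ Ideal.Quotient.mk_surjective).mp (hdiff x)
    exact ⟨⟨a, ha⟩, h⟩
  choose a ha using hpre
  have huniq : ∀ (x : R) (b : I), Ideal.Quotient.mk N (b : R) = Ideal.Quotient.mk N x - w (π x) → l b = l (a x) :=
    fun x b hb => by
      rw [← sub_eq_zero, ← map_sub]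
      refine hIN _ ?_
      rw [Submodule.coe_sub, ← Ideal.Quotient.eq_zero_iff_mem, map_sub, hb, ha, sub_self]
  have hadd : ∀ x y, l (a (x + y)) = l (a x) + l (a y) := fun x y => by
    rw [← map_add]
    exact (huniq _ _ (by rw [Submodule.coe_add, map_add, ha, ha, map_add, map_add, map_add]; ring)).symm
  have hsmul : ∀ (r : k₀) x, l (a (r • x)) = r • l (a x) := fun r x => by
    rw [← LinearMap.map_smul_of_tower]
    refine (huniq _ _ ?_).symm
    rw [Submodule.coe_smul_of_tower, Algebra.smul_def, Algebra.smul_def, map_mul, ha, map_mul, map_mul, map_mul,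
      π.commutes, w.commutes, mul_sub]
    rfl
  have hmul : ∀ x y, l (a (x * y)) = x • l (a y) + y • l (a x) := fun x y => by
    rw [← map_smul, ← map_smul, ← map_add]
    refine (huniq _ _ ?_).symm
    have h0 : (Ideal.Quotient.mk N x - w (π x)) * (Ideal.Quotient.mk N y - w (π y)) = 0 := by
      have := Ideal.mul_mem_mul (hdiff x) (hdiff y)
      rwa [← sq, hJ, Ideal.mem_bot] at this
    rw [Submodule.coe_add, SetLike.val_smul, SetLike.val_smul, smul_eq_mul, smul_eq_mul, map_add, map_mul, map_mul,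
      map_mul, ha, ha, map_mul, map_mul]
    linear_combination h0
  refine ⟨Derivation.mk' { toFun := fun x => l (a x), map_add' := hadd, map_smul' := hsmul } hmul, fun b => ?_⟩
  show l (a b) = l b
  exact (huniq _ b (by rw [show π (b : R) = 0 from b.2, map_zero, sub_zero])).symm

/-- Dual derivations at a point give derivations of the ring with unit determinant there. -/
theorem exists_derivations_det {k₀ P : Type u} [CommRing k₀] [CommRing P] [Algebra k₀ P]
    [Module.Projective P (Ω[P⁄k₀])] (p : Ideal P) [p.IsPrime] {ι : Type u} [Fintype ι] [DecidableEq ι] (f : ι → P)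
    (δ : ι → Derivation k₀ P p.ResidueField) (hδ : ∀ i j, δ j (f i) = if i = j then 1 else 0) :
    ∃ D : ι → Derivation k₀ P P, (Matrix.of fun i j => D j (f i)).det ∉ p := by
  classical
  obtain ⟨e, he⟩ := Module.projective_def'.mp ‹Module.Projective P (Ω[P⁄k₀])›
  let v : ι → (Ω[P⁄k₀] →₀ P) := fun i => e (KaehlerDifferential.D k₀ P (f i))
  let T : Finset (Ω[P⁄k₀]) := Finset.univ.biUnion fun i => (v i).support
  let M : T → ι → p.ResidueField := fun t i => algebraMap P p.ResidueField (v i t)
  let φ : (ι → p.ResidueField) →ₗ[p.ResidueField] (T → p.ResidueField) :=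
    { toFun := fun c t => ∑ i, c i * M t i
      map_add' := fun c d => funext fun t => by simp [add_mul, Finset.sum_add_distrib]
      map_smul' := fun r c => funext fun t => by simp [Finset.mul_sum, mul_assoc] }
  have hδv : ∀ i j, δ j (f i) = ∑ t : T, M t i * (δ j).liftKaehlerDifferential (t : Ω[P⁄k₀]) := fun i j => by
    have h1 : KaehlerDifferential.D k₀ P (f i) = Finsupp.linearCombination P id (v i) :=
      (LinearMap.congr_fun he _).symm
    have hsub : (v i).support ⊆ T := Finset.subset_biUnion_of_mem (fun i => (v i).support) (Finset.mem_univ i)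
    rw [← Derivation.liftKaehlerDifferential_comp_D (δ j), h1, Finsupp.linearCombination_apply,
      Finsupp.sum_of_support_subset _ hsub (fun a r => r • id a) fun t _ => zero_smul P _, map_sum, ← Finset.sum_coe_sort T]
    exact Finset.sum_congr rfl fun t _ => by rw [map_smul, id, Algebra.smul_def]
  have hinj : LinearMap.ker φ = ⊥ := by
    rw [LinearMap.ker_eq_bot']
    intro c hc
    funext j
    have h1 : ∑ i, c i * δ j (f i) = 0 := by
      calc ∑ i, c i * δ j (f i) = ∑ t : T, φ c t * (δ j).liftKaehlerDifferential (t : Ω[P⁄k₀]) := by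
            simp only [hδv, Finset.mul_sum]
            rw [Finset.sum_comm]
            exact Finset.sum_congr rfl fun t _ => by
              show _ = (∑ i, c i * M t i) * _
              rw [Finset.sum_mul]
              exact Finset.sum_congr rfl fun i _ => by ring
        _ = 0 := by simp [hc]
    simpa [hδ] using h1
  obtain ⟨L, hL⟩ := φ.exists_leftInverse_of_injective hinj
  let Lm : ι → T → p.ResidueField := fun j t => L (Pi.single t 1) j
  have hLm : ∀ i j, ∑ t, Lm j t * M t i = if i = j then 1 else 0 := fun i j => by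
    have h1 := congrFun (LinearMap.congr_fun hL (Pi.single i 1)) j
    have h2 : φ (Pi.single i 1) = ∑ t, M t i • (Pi.single t (1 : p.ResidueField) : T → p.ResidueField) := by
      funext t
      show ∑ i', (Pi.single i 1 : ι → p.ResidueField) i' * M t i' = _
      simp [Pi.single_apply, Finset.sum_apply]
    rw [LinearMap.comp_apply, h2, map_sum] at h1
    simp only [map_smul, Finset.sum_apply, Pi.smul_apply, smul_eq_mul, LinearMap.id_apply, Pi.single_apply] at h1
    refine ((Finset.sum_congr rfl fun t _ => mul_comm _ _).trans h1).trans ?_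
    simp [eq_comm]
  obtain ⟨s, hs⟩ := IsLocalization.exist_integer_multiples_of_finite (nonZeroDivisors (P ⧸ p))
    (fun x : ι × T => Lm x.1 x.2)
  choose L₁ hL₁ using fun x : ι × T => hs x
  obtain ⟨s', hs'⟩ := Ideal.Quotient.mk_surjective (s : P ⧸ p)
  choose L₂ hL₂ using fun x : ι × T => Ideal.Quotient.mk_surjective (L₁ x)
  refine ⟨fun j => (∑ t : T, L₂ (j, t) • ((Finsupp.lapply (t : Ω[P⁄k₀])).comp e)).compDer
    (KaehlerDifferential.D k₀ P), fun hdet => ?_⟩
  have hc : ∀ j t, algebraMap P p.ResidueField (L₂ (j, t)) = algebraMap P p.ResidueField s' * Lm j t := fun j t => by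
    rw [IsScalarTower.algebraMap_apply P (P ⧸ p) p.ResidueField,
      IsScalarTower.algebraMap_apply P (P ⧸ p) p.ResidueField, Ideal.Quotient.algebraMap_eq, hL₂, hs']
    exact (hL₁ (j, t)).trans (Algebra.smul_def _ _)
  have hs0 : algebraMap P p.ResidueField s' ≠ 0 := by
    rw [IsScalarTower.algebraMap_apply P (P ⧸ p) p.ResidueField, Ideal.Quotient.algebraMap_eq, hs']
    exact IsFractionRing.to_map_ne_zero_of_mem_nonZeroDivisors s.2
  rw [← Ideal.algebraMap_residueField_eq_zero (I := p), RingHom.map_det] at hdet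
  have hM : (algebraMap P p.ResidueField).mapMatrix (Matrix.of fun i j =>
      ((∑ t : T, L₂ (j, t) • ((Finsupp.lapply (t : Ω[P⁄k₀])).comp e)).compDer (KaehlerDifferential.D k₀ P)) (f i)) =
      algebraMap P p.ResidueField s' • (1 : Matrix ι ι p.ResidueField) := by
    ext i j
    rw [RingHom.mapMatrix_apply, Matrix.map_apply, Matrix.of_apply]
    show algebraMap P p.ResidueField ((∑ t : T, L₂ (j, t) • ((Finsupp.lapply (t : Ω[P⁄k₀])).comp e))
      (KaehlerDifferential.D k₀ P (f i))) = _
    simp only [LinearMap.sum_apply, LinearMap.smul_apply, LinearMap.comp_apply,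
      Finsupp.lapply_apply, smul_eq_mul, map_sum, map_mul, hc]
    rw [Matrix.smul_apply, Matrix.one_apply, smul_eq_mul, ← hLm i j, Finset.mul_sum]
    exact Finset.sum_congr rfl fun t _ => mul_assoc _ _ _
  rw [hM, Matrix.det_smul, Matrix.det_one, mul_one] at hdet
  exact hs0 (pow_eq_zero_iff'.mp hdet).1

/-- The Jacobian criterion in its elementary form. -/
theorem formallySmooth_away_of_det {k₀ P C : Type u} [CommRing k₀] [CommRing P] [CommRing C] [Algebra k₀ P]
    [Algebra k₀ C] [Algebra.FormallySmooth k₀ P] (π : P →ₐ[k₀] C) (hπ : Function.Surjective π)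
    {ι : Type u} [Fintype ι] [DecidableEq ι] (f : ι → P) (hf : ∀ i, π (f i) = 0)
    (D : ι → Derivation k₀ P P) (g : P)
    (hg : ∀ x, π x = 0 → g * x ∈ Ideal.span (Set.range f)) :
    Algebra.FormallySmooth k₀ (Localization.Away (π (g * (Matrix.of fun i j => D j (f i)).det))) := by
  let M : Matrix ι ι P := Matrix.of fun i j => D j (f i)
  let d := π (g * M.det)
  refine Algebra.FormallySmooth.iff_comp_surjective.mpr fun E _ _ J hJ ψ => ?_
  let ψ₀ : P →ₐ[k₀] E ⧸ J := (ψ.comp (IsScalarTower.toAlgHom k₀ C (Localization.Away d))).comp π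
  obtain ⟨φ, hφ⟩ := Algebra.FormallySmooth.exists_lift (R := k₀) J ⟨2, by rw [hJ, Ideal.zero_eq_bot]⟩ ψ₀
  have hφx : ∀ x, Ideal.Quotient.mk J (φ x) = ψ₀ x := fun x => AlgHom.congr_fun hφ x
  have hunit : ∀ z, IsUnit (Ideal.Quotient.mk J z) → IsUnit z := fun z hz => by
    obtain ⟨y, hy⟩ := hz.exists_right_inv
    obtain ⟨y, rfl⟩ := Ideal.Quotient.mk_surjective y
    rw [← map_mul, ← map_one (Ideal.Quotient.mk J), Ideal.Quotient.eq] at hy
    have hn : IsNilpotent (z * y - 1) := ⟨2, by
      have := Ideal.pow_mem_pow hy 2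
      rwa [hJ, Ideal.mem_bot] at this⟩
    have := hn.isUnit_add_one
    rw [sub_add_cancel] at this
    exact isUnit_of_mul_isUnit_left this
  have hgd : IsUnit (φ (g * M.det)) := hunit _ (by
    rw [hφx]
    exact (IsLocalization.Away.algebraMap_isUnit (S := Localization.Away d) d).map ψ)
  rw [map_mul] at hgd
  let Mφ : Matrix ι ι E := M.map φ
  have hMφ : IsUnit Mφ.det := by
    have : Mφ.det = φ M.det := (AlgHom.map_det φ M).symm
    rw [this]
    exact isUnit_of_mul_isUnit_right hgd
  let c : ι → E := Mφ⁻¹.mulVec fun i => φ (f i)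
  have hcJ : ∀ j, c j ∈ J := fun j => by
    refine Ideal.sum_mem _ fun i _ => Ideal.mul_mem_left _ _ ?_
    rw [← Ideal.Quotient.eq_zero_iff_mem, hφx]
    show ψ (algebraMap C _ (π (f i))) = 0
    rw [hf, map_zero, map_zero]
  have hsol : Mφ.mulVec c = fun i => φ (f i) := by
    rw [Matrix.mulVec_mulVec, Matrix.mul_nonsing_inv _ hMφ, Matrix.one_mulVec]
  let T : P → E := fun x => ∑ j, φ (D j x) * c j
  have hTJ : ∀ x, T x ∈ J := fun x => Ideal.sum_mem _ fun j _ => Ideal.mul_mem_left _ _ (hcJ j)
  have h0 : ∀ x y, T x * T y = 0 := fun x y => by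
    have := Ideal.mul_mem_mul (hTJ x) (hTJ y)
    rwa [← sq, hJ, Ideal.mem_bot] at this
  have hTmul : ∀ x y, T (x * y) = φ x * T y + φ y * T x := fun x y => by
    simp only [T, Derivation.leibniz, smul_eq_mul, map_add, map_mul, Finset.mul_sum, ← Finset.sum_add_distrib]
    exact Finset.sum_congr rfl fun j _ => by ring
  let φ' : P →+* E :=
    { toFun := fun x => φ x - T x
      map_one' := by simp [T]
      map_zero' := by simp [T]
      map_add' := fun x y => by simp only [T, map_add, add_mul, Finset.sum_add_distrib]; ring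
      map_mul' := fun x y => by
        rw [map_mul, hTmul]
        linear_combination -(h0 x y) }
  have hφ'f : ∀ i, φ' (f i) = 0 := fun i => by
    show φ (f i) - T (f i) = 0
    rw [sub_eq_zero, ← congrFun hsol i]
    rfl
  have hφ'mk : ∀ x, Ideal.Quotient.mk J (φ' x) = ψ₀ x := fun x => by
    show Ideal.Quotient.mk J (φ x - T x) = _
    rw [map_sub, Ideal.Quotient.eq_zero_iff_mem.mpr (hTJ x), sub_zero, hφx]
  have hφ'c : ∀ r, φ' (algebraMap k₀ P r) = algebraMap k₀ E r := fun r => by
    show φ _ - T _ = _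
    simp [T]
  let φa : P →ₐ[k₀] E := { φ' with commutes' := hφ'c }
  have hgu : IsUnit (φa g) := hunit _ (by
    show IsUnit (Ideal.Quotient.mk J (φ' g))
    rw [hφ'mk, ← hφx]
    exact (isUnit_of_mul_isUnit_left hgd).map _)
  have hker : ∀ x, x ∈ RingHom.ker π.toRingHom → φa x = 0 := fun x hx => by
    have h1 : φa (g * x) = 0 := by
      have h2 : Ideal.span (Set.range f) ≤ RingHom.ker φ' := by
        rw [Ideal.span_le]
        rintro _ ⟨i, rfl⟩
        exact hφ'f i
      exact h2 (hg x hx)
    rw [map_mul] at h1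
    exact hgu.mul_right_eq_zero.mp h1
  let φC : C →ₐ[k₀] E := AlgHom.liftOfSurjective π hπ φa hker
  have hφC : ∀ x, φC (π x) = φa x := fun x => AlgHom.liftOfSurjective_apply π hπ φa hker x
  have hd : ∀ y : Submonoid.powers d, IsUnit (φC y) := fun y => by
    obtain ⟨n, hn⟩ := y.2
    rw [← hn, map_pow]
    refine IsUnit.pow _ ?_
    rw [hφC]
    refine hunit _ ?_
    show IsUnit (Ideal.Quotient.mk J (φ' (g * M.det)))
    rw [hφ'mk]
    exact (IsLocalization.Away.algebraMap_isUnit (S := Localization.Away d) d).map ψ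
  refine ⟨IsLocalization.liftAlgHom (M := Submonoid.powers d) (f := φC) hd, IsLocalization.algHom_ext (Submonoid.powers d) ?_⟩
  refine AlgHom.ext fun z => ?_
  obtain ⟨x, rfl⟩ := hπ z
  show Ideal.Quotient.mk J (IsLocalization.lift hd (algebraMap C _ (π x))) = ψ (algebraMap C _ (π x))
  rw [IsLocalization.lift_eq]
  show Ideal.Quotient.mk J (φC (π x)) = _
  rw [hφC]
  exact hφ'mk x


/-- Adic formal smoothness at a point spreads out. -/
theorem exists_formallySmooth_away {k₀ P C : Type u} [CommRing k₀] [CommRing P] [CommRing C] [Algebra k₀ P]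
    [Algebra k₀ C] [IsNoetherianRing P] [Algebra.FormallySmooth k₀ P] [Module.Projective P (Ω[P⁄k₀])]
    (π : P →ₐ[k₀] C) (hπ : Function.Surjective π) (p : Ideal C) [p.IsPrime]
    (hfs : CAlgX.IsAdicFormallySmooth k₀ (Localization.AtPrime p) (maximalIdeal (Localization.AtPrime p))) :
    ∃ f : C, f ∉ p ∧ Algebra.FormallySmooth k₀ (Localization.Away f) := by
  classical
  let P' := p.comap π.toRingHom
  haveI : P'.IsPrime := Ideal.comap_isPrime _ _
  let R := Localization.AtPrime P'
  haveI : IsNoetherianRing R := IsLocalization.isNoetherianRing P'.primeCompl _ inferInstance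
  have hu : ∀ y : P'.primeCompl, IsUnit (((IsScalarTower.toAlgHom k₀ C (Localization.AtPrime p)).comp π) y) :=
    fun y => IsLocalization.map_units (Localization.AtPrime p) (⟨π y, y.2⟩ : p.primeCompl)
  let πR : R →ₐ[k₀] Localization.AtPrime p :=
    IsLocalization.liftAlgHom (M := P'.primeCompl) (f := (IsScalarTower.toAlgHom k₀ C (Localization.AtPrime p)).comp π) hu
  have hπR : ∀ x : P, πR (algebraMap P R x) = algebraMap C _ (π x) := fun x => IsLocalization.lift_eq _ x
  have hπRs : Function.Surjective πR := fun z => by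
    obtain ⟨c, t, rfl⟩ := IsLocalization.exists_mk'_eq p.primeCompl z
    obtain ⟨x, rfl⟩ := hπ c
    obtain ⟨y, hy⟩ := hπ (t : C)
    have hyP : y ∈ P'.primeCompl := fun hm => t.2 (hy ▸ hm)
    refine ⟨IsLocalization.mk' R x ⟨y, hyP⟩, ?_⟩
    rw [IsLocalization.eq_mk'_iff_mul_eq, ← hy, ← hπR y, ← map_mul, IsLocalization.mk'_spec, hπR]
  let I := RingHom.ker π.toRingHom
  obtain ⟨G, hG⟩ := (IsNoetherian.noetherian I : I.FG)
  have hker : RingHom.ker πR = I.map (algebraMap P R) := by
    refine le_antisymm (fun z hz => ?_) (Ideal.map_le_iff_le_comap.mpr fun x hx => ?_)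
    · obtain ⟨x, y, rfl⟩ := IsLocalization.exists_mk'_eq P'.primeCompl z
      have h1 : algebraMap C (Localization.AtPrime p) (π x) = 0 := by
        rw [← hπR, ← IsLocalization.mk'_spec R x y, map_mul, show πR (IsLocalization.mk' R x y) = 0 from hz, zero_mul]
      obtain ⟨t, ht⟩ := (IsLocalization.map_eq_zero_iff p.primeCompl _ _).mp h1
      obtain ⟨t', ht'⟩ := hπ (t : C)
      rw [IsLocalization.mk'_mem_iff, IsLocalization.algebraMap_mem_map_algebraMap_iff P'.primeCompl]
      refine ⟨t', fun hm => t.2 (ht' ▸ hm), ?_⟩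
      show π (t' * x) = 0
      rw [map_mul, ht', ht]
    · show πR (algebraMap P R x) = 0
      rw [hπR, show π x = 0 from hx, map_zero]
  let IR := RingHom.ker πR
  let m := maximalIdeal R
  let W := IR ⧸ (m • ⊤ : Submodule R IR)
  letI : Field (R ⧸ m) := Ideal.Quotient.field m
  haveI : IsScalarTower R (R ⧸ m) W := IsScalarTower.of_algebraMap_smul fun r w => by
    obtain ⟨x, rfl⟩ := Submodule.Quotient.mk_surjective _ w
    rfl
  have hGI : ∀ a : G, (a : P) ∈ I := fun a => hG.le (Submodule.subset_span a.2)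
  let gen : G → IR := fun a => ⟨algebraMap P R (a : P), hker.ge (Ideal.mem_map_of_mem _ (hGI a))⟩
  have hgen : Submodule.span R (Set.range gen) = ⊤ := by
    refine Submodule.map_injective_of_injective IR.injective_subtype ?_
    rw [Submodule.map_top, Submodule.range_subtype, Submodule.map_span, ← Set.range_comp]
    show Ideal.span (Set.range fun a : G => algebraMap P R (a : P)) = RingHom.ker πR
    rw [hker, ← hG, Ideal.map_span]
    congr 1
    ext z
    exact ⟨fun ⟨a, ha⟩ => ⟨a, a.2, ha⟩, fun ⟨a, ha, h⟩ => ⟨⟨a, ha⟩, h⟩⟩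
  let w : G → W := fun a => Submodule.Quotient.mk (gen a)
  obtain ⟨ι, a, ha, hspan, hli⟩ := exists_linearIndependent' (R ⧸ m) w
  haveI : Finite ι := Finite.of_injective a ha
  haveI : Fintype ι := Fintype.ofFinite ι
  have htop : Submodule.span (R ⧸ m) (Set.range w) = ⊤ := by
    rw [eq_top_iff]
    intro z hz
    clear hz
    obtain ⟨x, rfl⟩ := Submodule.Quotient.mk_surjective _ z
    have hx : x ∈ Submodule.span R (Set.range gen) := hgen ▸ trivial
    induction hx using Submodule.span_induction with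
    | mem y hy =>
      obtain ⟨b, rfl⟩ := hy
      exact Submodule.subset_span ⟨b, rfl⟩
    | zero => exact zero_mem _
    | add y y' _ _ hy hy' => exact add_mem hy hy'
    | smul r y _ hy =>
      rw [Submodule.Quotient.mk_smul, ← algebraMap_smul (R ⧸ m) r]
      exact Submodule.smul_mem _ _ hy
  let b := Module.Basis.mk hli (by rw [hspan, htop])
  let f : ι → P := fun i => ((a i : G) : P)
  have hl : ∀ j, ∃ D : Derivation k₀ R (ResidueField R), ∀ x : IR, D x = b.coord j (Submodule.Quotient.mk x) := fun j =>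
    exists_derivation_functional πR hπRs hfs
      (((b.coord j).restrictScalars R).comp (Submodule.mkQ (m • ⊤ : Submodule R IR)))
  choose D hD using hl
  let δ : ι → Derivation k₀ P P'.ResidueField := fun j => (D j).compAlgebraMap P
  obtain ⟨D', hD'⟩ := exists_derivations_det P' f δ fun i j => by
    show D j (algebraMap P R (f i)) = _
    refine (hD j (gen (a i))).trans ?_
    show b.coord j (w (a i)) = _
    rw [← show b i = w (a i) from Module.Basis.mk_apply hli _ i, Module.Basis.coord_apply, b.repr_self,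
      Finsupp.single_apply]
    split_ifs <;> rfl
  -- generation near the point
  have hnak : Submodule.span R (Set.range fun i => gen (a i)) = ⊤ := by
    refine top_le_iff.mp (Submodule.le_of_le_smul_of_le_jacobson_bot (IsNoetherian.noetherian _)
      (IsLocalRing.maximalIdeal_le_jacobson _) fun x _ => ?_)
    have hx : (Submodule.Quotient.mk x : W) ∈ Submodule.span R (Set.range (w ∘ a)) := by
      rw [← Submodule.restrictScalars_span R (R ⧸ m) Ideal.Quotient.mk_surjective, Submodule.restrictScalars_mem, hspan, htop]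
      trivial
    have h1 : x ∈ Submodule.comap (Submodule.mkQ (m • ⊤ : Submodule R IR))
        (Submodule.map (Submodule.mkQ (m • ⊤ : Submodule R IR)) (Submodule.span R (Set.range fun i => gen (a i)))) := by
      rw [Submodule.mem_comap, Submodule.map_span, ← Set.range_comp]
      exact hx
    rwa [Submodule.comap_map_eq, Submodule.ker_mkQ] at h1
  have hloc : ∀ c : G, ∃ s : P, s ∉ P' ∧ s * (c : P) ∈ Ideal.span (Set.range f) := fun c => by
    have h1 : algebraMap P R (c : P) ∈ (Ideal.span (Set.range f)).map (algebraMap P R) := by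
      have h2 : gen c ∈ Submodule.span R (Set.range fun i => gen (a i)) := hnak ▸ trivial
      have h3 := Submodule.mem_map_of_mem (f := IR.subtype) h2
      rw [Submodule.map_span, ← Set.range_comp] at h3
      rw [Ideal.map_span, ← Set.range_comp]
      exact h3
    obtain ⟨s, hs, hs'⟩ := (IsLocalization.algebraMap_mem_map_algebraMap_iff P'.primeCompl R _ _).mp h1
    exact ⟨s, hs, hs'⟩
  choose s hs hs' using hloc
  let g := ∏ c : G, s c
  have hgP : g ∉ P' := fun h => by
    obtain ⟨c, -, hc⟩ := Ideal.IsPrime.prod_mem_iff.mp h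
    exact hs c hc
  have hg : ∀ x, π x = 0 → g * x ∈ Ideal.span (Set.range f) := by
    intro x hx
    have hx' : x ∈ Ideal.span (G : Set P) := hG.ge hx
    clear hx
    induction hx' using Submodule.span_induction with
    | mem y hy =>
      obtain ⟨q, hq⟩ := Finset.dvd_prod_of_mem s (Finset.mem_univ (⟨y, hy⟩ : G))
      rw [show g = s ⟨y, hy⟩ * q from hq, mul_right_comm]
      exact Ideal.mul_mem_right _ _ (hs' ⟨y, hy⟩)
    | zero => rw [mul_zero]; exact zero_mem _
    | add y y' _ _ hy hy' => rw [mul_add]; exact add_mem hy hy'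
    | smul r y _ hy => rw [smul_eq_mul, mul_left_comm]; exact Ideal.mul_mem_left _ _ hy
  refine ⟨π (g * (Matrix.of fun i j => D' j (f i)).det), fun h => ?_,
    formallySmooth_away_of_det π hπ f (fun i => hGI (a i)) D' g hg⟩
  rcases (Ideal.IsPrime.mem_or_mem ‹P'.IsPrime› (show g * (Matrix.of fun i j => D' j (f i)).det ∈ P' from h)) with h | h
  · exact hgP h
  · exact hD' h

end Groth.Agent.RegFS6
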