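import Groth.Agent.RegFS6.Flat
import Groth.Agent.S4542
import Groth.Agent.PSLib.Basic

/-!
# Lifting isomorphisms modulo an ideal
-/

set_option linter.style.haveILetI false

namespace Groth.Agent.RegFS6

universe u

open IsLocalRing

/-- A formally smooth algebra and a flat one, complete for the adic topology, are isomorphic once they are so modulo
the ideal. -/
theorem exists_lift_equiv {A B B' : Type u} [CommRing A] (J : Ideal A)
    [CommRing B] [IsLocalRing B] [IsNoetherianRing B] [Algebra A B]
    [CommRing B'] [IsLocalRing B'] [IsNoetherianRing B'] [Algebra A B']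
    (hB : J.map (algebraMap A B) ≤ maximalIdeal B) (hB' : J.map (algebraMap A B') ≤ maximalIdeal B')
    [IsAdicComplete (J.map (algebraMap A B)) B] [IsAdicComplete (J.map (algebraMap A B')) B']
    (hfs : EGA41.IsFormallySmoothAdic A J B (J.map (algebraMap A B))) [Module.Flat A B']
    (u₀ : B →ₐ[A] B' ⧸ J.map (algebraMap A B')) (hsurj : Function.Surjective u₀)
    (hker : ∀ b, u₀ b = 0 → b ∈ J.map (algebraMap A B)) :
    ∃ u : B ≃ₐ[A] B', ∀ b : B, Ideal.Quotient.mk (J.map (algebraMap A B')) (u b) = u₀ b := by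
  let JB := J.map (algebraMap A B)
  let JB' := J.map (algebraMap A B')
  haveI : IsHausdorff (JB'.map (Ideal.Quotient.mk JB')) (B' ⧸ JB') := by
    rw [Ideal.map_quotient_self]
    infer_instance
  have hu0 : ∀ b ∈ JB, u₀ b = 0 := by
    intro b hb
    induction hb using Submodule.span_induction with
    | mem y hy =>
      obtain ⟨a, ha, rfl⟩ := hy
      rw [AlgHom.commutes, IsScalarTower.algebraMap_apply A B' (B' ⧸ J.map (algebraMap A B')),
        Ideal.Quotient.algebraMap_eq, Ideal.Quotient.eq_zero_iff_mem]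
      exact Ideal.mem_map_of_mem _ ha
    | zero => exact map_zero _
    | add y z _ _ hy hz => rw [map_add, hy, hz, add_zero]
    | smul r y _ hy => rw [smul_eq_mul, map_mul, hy, mul_zero]
  obtain ⟨v, -, hv⟩ := S4542.result J JB JB' hfs ⟨1, by rw [pow_one]⟩ JB' ⟨1, by rw [pow_one]⟩ u₀ ⟨1, by
    rw [pow_one, Ideal.map_le_iff_le_comap]
    intro b hb
    rw [Ideal.mem_comap]
    show u₀ b ∈ _
    rw [hu0 b hb]
    exact zero_mem _⟩
  have hvb : ∀ b, Ideal.Quotient.mk JB' (v b) = u₀ b := fun b => AlgHom.congr_fun hv b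
  have hmap : JB.map v.toRingHom = JB' := by
    show (J.map (algebraMap A B)).map v.toRingHom = _
    rw [Ideal.map_map]
    exact congrArg (fun f => Ideal.map f J) v.comp_algebraMap
  have hs : Function.Surjective v := by
    refine PSLib.surjective_of_first_order v.toRingHom (I := JB) (J := JB') (IsNoetherian.noetherian _)
      (hB'.trans (IsLocalRing.maximalIdeal_le_jacobson _)) hmap.le (le_sup_of_le_left hmap.ge) fun c => ?_
    obtain ⟨b, hb⟩ := hsurj (Ideal.Quotient.mk JB' c)
    refine ⟨b, ?_⟩
    rw [← Ideal.Quotient.eq_zero_iff_mem, map_sub, ← hb]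
    show u₀ b - Ideal.Quotient.mk JB' (v b) = 0
    rw [hvb, sub_self]
  have hinj : RingHom.ker v = ⊥ := by
    refine Submodule.eq_bot_of_le_smul_of_le_jacobson_bot JB (RingHom.ker v) (IsNoetherian.noetherian _)
      (fun x hx => ?_) (hB.trans (IsLocalRing.maximalIdeal_le_jacobson _))
    rw [smul_eq_mul]
    refine mem_map_mul_ker_of_flat v hs J hx (hker x ?_)
    rw [← hvb, show v x = 0 from hx, map_zero]
  exact ⟨AlgEquiv.ofBijective v ⟨(RingHom.injective_iff_ker_eq_bot v.toRingHom).mpr hinj, hs⟩, hvb⟩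

end Groth.Agent.RegFS6
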