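import Groth.Agent.RegFS6.FlatConv
import Groth.Agent.RegFS6.LiftEquiv
import Groth.Agent.CplFib6.Quot

/-!
# Flat liftings of formally smooth complete algebras
-/

set_option linter.style.haveILetI false

namespace Groth.Agent.RegFS6

universe u

open IsLocalRing TensorProduct

/-- The reduction of a tensor product with a quotient of the base. -/
theorem exists_quot_tensor_equiv (A : Type u) [CommRing A] (J : Ideal A) (C : Type u) [CommRing C] [Algebra A C] :
    ∃ φ : (A ⧸ J) ⊗[A] C ≃ₐ[A ⧸ J] C ⧸ J.map (algebraMap A C),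
      ∀ c, φ ((1 : A ⧸ J) ⊗ₜ c) = Ideal.Quotient.mk _ c := by
  let χ : (A ⧸ J) ⊗[A] C →ₐ[A ⧸ J] C ⧸ J.map (algebraMap A C) :=
    Algebra.TensorProduct.lift (Algebra.ofId (A ⧸ J) _) (Ideal.Quotient.mkₐ A (J.map (algebraMap A C)))
      fun _ _ => Commute.all _ _
  have hχ : ∀ c, χ ((1 : A ⧸ J) ⊗ₜ c) = Ideal.Quotient.mk _ c := fun c => by
    show Algebra.TensorProduct.lift _ _ _ _ = _
    rw [Algebra.TensorProduct.lift_tmul, map_one, one_mul]
    rfl
  let inr : C →ₐ[A] (A ⧸ J) ⊗[A] C := Algebra.TensorProduct.includeRight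
  have hsurj : ∀ t, ∃ c, inr c = t := fun t => by
    induction t using TensorProduct.induction_on with
    | zero => exact ⟨0, map_zero _⟩
    | add x y hx hy =>
      obtain ⟨a, rfl⟩ := hx
      obtain ⟨b, rfl⟩ := hy
      exact ⟨a + b, map_add _ _ _⟩
    | tmul r b =>
      obtain ⟨a, rfl⟩ := Ideal.Quotient.mk_surjective r
      refine ⟨a • b, ?_⟩
      show (1 : A ⧸ J) ⊗ₜ[A] (a • b) = algebraMap A (A ⧸ J) a ⊗ₜ[A] b
      rw [TensorProduct.tmul_smul, TensorProduct.smul_tmul', Algebra.algebraMap_eq_smul_one]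
  refine ⟨AlgEquiv.ofBijective χ ⟨(injective_iff_map_eq_zero χ).mpr fun t ht => ?_, fun z => ?_⟩, hχ⟩
  · obtain ⟨c, rfl⟩ := hsurj t
    replace ht : c ∈ J.map (algebraMap A C) := Ideal.Quotient.eq_zero_iff_mem.mp ((hχ c).symm.trans ht)
    induction ht using Submodule.span_induction with
    | mem y hy =>
      obtain ⟨a, ha, rfl⟩ := hy
      show (1 : A ⧸ J) ⊗ₜ[A] algebraMap A C a = 0
      rw [Algebra.algebraMap_eq_smul_one, TensorProduct.tmul_smul, TensorProduct.smul_tmul',
        ← Algebra.algebraMap_eq_smul_one, Ideal.Quotient.algebraMap_eq, Ideal.Quotient.eq_zero_iff_mem.mpr ha,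
        TensorProduct.zero_tmul]
    | zero => exact map_zero _
    | add y z _ _ hy hz => rw [map_add, hy, hz, add_zero]
    | smul r y _ hy => rw [smul_eq_mul, map_mul, hy, mul_zero]
  · obtain ⟨c, rfl⟩ := Ideal.Quotient.mk_surjective z
    exact ⟨inr c, hχ c⟩

variable {A : Type u} [CommRing A] [IsLocalRing A] (J : Ideal A) [IsLocalRing (A ⧸ J)]
variable {B₀ : Type u} [CommRing B₀] [IsLocalRing B₀] [IsNoetherianRing B₀]
variable [Algebra (A ⧸ J) B₀] [IsLocalHom (algebraMap (A ⧸ J) B₀)] [Algebra A B₀] [IsScalarTower A (A ⧸ J) B₀]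

/-- A flat algebra lifting a formally smooth one is formally smooth. -/
theorem fs_of_flat_lift (hJ : J ≤ maximalIdeal A) {B : Type u} [CommRing B] [IsLocalRing B] [IsNoetherianRing B]
    [Algebra A B] [IsLocalHom (algebraMap A B)] [Module.Flat A B] (π : B →ₐ[A] B₀) (hπ : Function.Surjective π)
    (hker : RingHom.ker π = J.map (algebraMap A B))
    (hfs : CAlgX.IsAdicFormallySmooth (A ⧸ J) B₀ (maximalIdeal B₀)) :
    CAlgX.IsAdicFormallySmooth A B (maximalIdeal B) := by
  haveI : IsLocalHom π.toRingHom := IsLocalHom.of_surjective π.toRingHom hπ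
  haveI : IsLocalHom (Ideal.Quotient.mk J) := IsLocalHom.of_surjective _ Ideal.Quotient.mk_surjective
  haveI : IsRegularLocalRing (B ⧸ (maximalIdeal A).map (algebraMap A B)) := by
    let mB₀ : Ideal B₀ := (maximalIdeal (A ⧸ J)).map (algebraMap (A ⧸ J) B₀)
    haveI : Nontrivial (B₀ ⧸ mB₀) := Ideal.Quotient.nontrivial_iff.mpr (ne_top_of_le_ne_top
      (maximalIdeal.isMaximal B₀).ne_top (((local_hom_TFAE (algebraMap (A ⧸ J) B₀)).out 0 2).mp
        (inferInstance : IsLocalHom (algebraMap (A ⧸ J) B₀))))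
    haveI : IsLocalRing (B₀ ⧸ mB₀) := IsLocalRing.of_surjective' (Ideal.Quotient.mk mB₀) Ideal.Quotient.mk_surjective
    haveI : IsRegularLocalRing (B₀ ⧸ mB₀) := by
      obtain ⟨e⟩ := closedFibre_equiv_quot (A ⧸ J) B₀
      haveI := FlatLoc6.isRegularRing_of_geometricallyRegular (geometricallyRegular_fibre_of_fs hfs)
      haveI : IsLocalRing ((maximalIdeal (A ⧸ J)).Fiber B₀) := e.symm.isLocalRing
      haveI : IsRegularLocalRing ((maximalIdeal (A ⧸ J)).Fiber B₀) :=
        IsRegularLocalRing.of_isRegularRing_of_isLocalRing _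
      exact IsRegularLocalRing.of_ringEquiv e
    let g : B →+* B₀ ⧸ mB₀ := (Ideal.Quotient.mk mB₀).comp π.toRingHom
    have hg : RingHom.ker g = (maximalIdeal A).map (algebraMap A B) := by
      have h1 : mB₀ = ((maximalIdeal A).map (algebraMap A B)).map π.toRingHom := by
        show (maximalIdeal (A ⧸ J)).map (algebraMap (A ⧸ J) B₀) = _
        rw [← IsLocalRing.map_maximalIdeal_of_surjective (Ideal.Quotient.mk J) Ideal.Quotient.mk_surjective,
          Ideal.map_map, Ideal.map_map]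
        refine congrArg (fun f => Ideal.map f (maximalIdeal A)) (RingHom.ext fun a => ?_)
        exact (IsScalarTower.algebraMap_apply A (A ⧸ J) B₀ a).symm.trans (π.commutes a).symm
      rw [← RingHom.comap_ker, Ideal.mk_ker, h1]
      refine (Ideal.comap_map_of_surjective' π.toRingHom hπ _).trans (sup_eq_left.mpr ?_)
      exact hker.le.trans (Ideal.map_mono hJ)
    exact IsRegularLocalRing.of_ringEquiv (R := B₀ ⧸ mB₀) ((RingHom.quotientKerEquivOfSurjective
      (f := g) (Ideal.Quotient.mk_surjective.comp hπ)).symm.trans (Ideal.quotEquivOfEq hg))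
  refine fs_of_flat fun E _ _ hE I hI ψ hψ => ?_
  let f : A ⧸ J →+* E := Ideal.Quotient.lift _ (algebraMap A E) fun a ha => hE a (hJ ha)
  letI : Algebra (A ⧸ J) E := f.toAlgebra
  haveI : IsScalarTower A (A ⧸ J) E := IsScalarTower.of_algebraMap_eq fun _ => rfl
  have hψ0 : ∀ b ∈ RingHom.ker π.toRingHom, ψ b = 0 := fun b hb => by
    refine hψ b ?_
    rw [mem_maximalIdeal]
    exact fun hu => not_isUnit_zero ((hb : π b = 0) ▸ hu.map π)
  let ψ₁ : B₀ →+* E ⧸ I := (Ideal.Quotient.lift (RingHom.ker π.toRingHom) ψ.toRingHom hψ0).comp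
    (RingHom.quotientKerEquivOfSurjective (f := π.toRingHom) hπ).symm.toRingHom
  have hψ₁ : ∀ b, ψ₁ (π b) = ψ b := fun b => by
    show Ideal.Quotient.lift _ ψ.toRingHom hψ0 ((RingHom.quotientKerEquivOfSurjective (f := π.toRingHom) hπ).symm
      (π.toRingHom b)) = _
    rw [← RingHom.quotientKerEquivOfSurjective_apply_mk (f := π.toRingHom) hπ b, RingEquiv.symm_apply_apply]
    rfl
  have hc : ∀ z, ψ₁ (algebraMap (A ⧸ J) B₀ z) = algebraMap (A ⧸ J) (E ⧸ I) z := fun z => by
    obtain ⟨a, rfl⟩ := Ideal.Quotient.mk_surjective z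
    rw [← Ideal.Quotient.algebraMap_eq, ← IsScalarTower.algebraMap_apply, ← IsScalarTower.algebraMap_apply,
      ← π.commutes, hψ₁, AlgHom.commutes]
  obtain ⟨w, hw⟩ := hfs E I hI { ψ₁ with commutes' := hc } ⟨1, fun y hy => by
    obtain ⟨b, rfl⟩ := hπ y
    refine (hψ₁ b).trans (hψ b ?_)
    rw [pow_one, mem_maximalIdeal] at hy
    rw [mem_maximalIdeal]
    exact fun hu => hy (hu.map π)⟩
  exact ⟨(w.restrictScalars A).comp π, AlgHom.ext fun b => (AlgHom.congr_fun hw (π b)).trans (hψ₁ b)⟩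

/-- Two flat liftings are isomorphic. -/
theorem exists_equiv_of_flat_lifts (hJ : J ≤ maximalIdeal A) {B B' : Type u} [CommRing B] [IsLocalRing B]
    [IsNoetherianRing B] [IsAdicComplete (maximalIdeal B) B] [Algebra A B] [IsLocalHom (algebraMap A B)]
    [Module.Flat A B] [CommRing B'] [IsLocalRing B'] [IsNoetherianRing B'] [IsAdicComplete (maximalIdeal B') B']
    [Algebra A B'] [IsLocalHom (algebraMap A B')] [Module.Flat A B']
    (π : B →ₐ[A] B₀) (hπ : Function.Surjective π) (hker : RingHom.ker π = J.map (algebraMap A B))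
    (π' : B' →ₐ[A] B₀) (hπ' : Function.Surjective π') (hker' : RingHom.ker π' = J.map (algebraMap A B'))
    (hfs : CAlgX.IsAdicFormallySmooth (A ⧸ J) B₀ (maximalIdeal B₀)) :
    ∃ v : B ≃ₐ[A] B', ∀ b, π' (v b) = π b := by
  have hB := fs_of_flat_lift J hJ π hπ hker hfs
  haveI : IsLocalHom π.toRingHom := IsLocalHom.of_surjective π.toRingHom hπ
  haveI : IsLocalHom π'.toRingHom := IsLocalHom.of_surjective π'.toRingHom hπ'
  let E := Ideal.quotientKerAlgEquivOfSurjective hπ'
  obtain ⟨v, hvm, hv⟩ := S2462.result ⊥ (maximalIdeal B) ((S4537.result _).mp hB) (by rw [Ideal.map_bot]; exact bot_le)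
    (RingHom.ker π') (RingHom.ker_ne_top _) (E.symm.toAlgHom.comp π) (by
      rw [Ideal.map_le_iff_le_comap]
      intro b hb
      obtain ⟨c, hc⟩ := Ideal.Quotient.mk_surjective (E.symm (π b))
      rw [Ideal.mem_comap]
      show E.symm (π b) ∈ _
      rw [← hc]
      refine Ideal.mem_map_of_mem _ fun hu => ?_
      have h1 : π' c = π b := (congrArg E hc).trans (E.apply_symm_apply _)
      have h2 : IsUnit (π b) := h1 ▸ hu.map π'
      exact (mem_maximalIdeal b).mp hb (isUnit_of_map_unit π.toRingHom b h2))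
  have hvb : ∀ b, π' (v b) = π b := fun b =>
    (congrArg E (AlgHom.congr_fun hv b)).trans (E.apply_symm_apply _)
  have hmapJ : (J.map (algebraMap A B)).map v.toRingHom = J.map (algebraMap A B') := by
    rw [Ideal.map_map]
    exact congrArg (fun f => Ideal.map f J) v.comp_algebraMap
  have hmB : J.map (algebraMap A B) ≤ maximalIdeal B := (Ideal.map_mono hJ).trans
    (((local_hom_TFAE (algebraMap A B)).out 0 2).mp (inferInstance : IsLocalHom (algebraMap A B)))
  have hmB' : J.map (algebraMap A B') ≤ maximalIdeal B' := (Ideal.map_mono hJ).trans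
    (((local_hom_TFAE (algebraMap A B')).out 0 2).mp (inferInstance : IsLocalHom (algebraMap A B')))
  have hs : Function.Surjective v := by
    refine PSLib.surjective_of_first_order v.toRingHom (I := maximalIdeal B) (J := maximalIdeal B')
      (IsNoetherian.noetherian _) (IsLocalRing.maximalIdeal_le_jacobson _) hvm (le_sup_of_le_left fun c hc => ?_)
      fun c => ?_
    · obtain ⟨b, hb⟩ := hπ (π' c)
      have h1 : c - v b ∈ J.map (algebraMap A B') := hker' ▸ (by rw [RingHom.mem_ker, map_sub, hvb, hb, sub_self])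
      have h2 : b ∈ maximalIdeal B := fun hu => (mem_maximalIdeal c).mp hc (by
        have h3 : IsUnit (π' c) := hb ▸ hu.map π
        exact isUnit_of_map_unit π'.toRingHom c h3)
      rw [← sub_add_cancel c (v b)]
      exact add_mem (Ideal.map_mono hmB (hmapJ.ge h1)) (Ideal.mem_map_of_mem v.toRingHom h2)
    · obtain ⟨b, hb⟩ := hπ (π' c)
      exact ⟨b, hmB' (hker' ▸ (show c - v b ∈ RingHom.ker π' by rw [RingHom.mem_ker, map_sub, hvb, hb, sub_self]))⟩
  have hinj : RingHom.ker v = ⊥ := by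
    refine Submodule.eq_bot_of_le_smul_of_le_jacobson_bot (J.map (algebraMap A B)) (RingHom.ker v)
      (IsNoetherian.noetherian _) (fun x hx => ?_) (hmB.trans (IsLocalRing.maximalIdeal_le_jacobson _))
    rw [smul_eq_mul]
    refine mem_map_mul_ker_of_flat v hs J hx (hker ▸ ?_)
    rw [RingHom.mem_ker, ← hvb, show v x = 0 from hx, map_zero]
  exact ⟨AlgEquiv.ofBijective v ⟨(RingHom.injective_iff_ker_eq_bot v.toRingHom).mpr hinj, hs⟩, hvb⟩

/-- A flat lifting exists. -/
theorem exists_flat_lift [IsNoetherianRing A] (hJ : J ≤ maximalIdeal A) [IsAdicComplete (maximalIdeal B₀) B₀]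
    (hfs : CAlgX.IsAdicFormallySmooth (A ⧸ J) B₀ (maximalIdeal B₀)) :
    ∃ (B : Type u) (_ : CommRing B) (_ : IsLocalRing B) (_ : IsNoetherianRing B) (_ : Algebra A B)
      (_ : IsLocalHom (algebraMap A B)), IsAdicComplete (maximalIdeal B) B ∧ Module.Flat A B ∧
        Nonempty ((A ⧸ J) ⊗[A] B ≃ₐ[A ⧸ J] B₀) := by
  haveI : IsLocalHom (Ideal.Quotient.mk J) := IsLocalHom.of_surjective _ Ideal.Quotient.mk_surjective
  let mB₀ : Ideal B₀ := (maximalIdeal (A ⧸ J)).map (algebraMap (A ⧸ J) B₀)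
  let Bb := B₀ ⧸ mB₀
  haveI : Nontrivial Bb := Ideal.Quotient.nontrivial_iff.mpr (ne_top_of_le_ne_top
    (maximalIdeal.isMaximal B₀).ne_top (((local_hom_TFAE (algebraMap (A ⧸ J) B₀)).out 0 2).mp
      (inferInstance : IsLocalHom (algebraMap (A ⧸ J) B₀))))
  haveI : IsLocalRing Bb := IsLocalRing.of_surjective' (Ideal.Quotient.mk mB₀) Ideal.Quotient.mk_surjective
  haveI : IsRegularLocalRing Bb := by
    obtain ⟨e⟩ := closedFibre_equiv_quot (A ⧸ J) B₀
    haveI := FlatLoc6.isRegularRing_of_geometricallyRegular (geometricallyRegular_fibre_of_fs hfs)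
    haveI : IsLocalRing ((maximalIdeal (A ⧸ J)).Fiber B₀) := e.symm.isLocalRing
    haveI : IsRegularLocalRing ((maximalIdeal (A ⧸ J)).Fiber B₀) :=
      IsRegularLocalRing.of_isRegularRing_of_isLocalRing _
    exact IsRegularLocalRing.of_ringEquiv e
  haveI : IsAdicComplete (maximalIdeal Bb) Bb := CplFib6.isAdicComplete_quot mB₀
  have hres : ∀ a ∈ maximalIdeal A, Ideal.Quotient.mk mB₀ (algebraMap A B₀ a) = 0 := fun a ha => by
    rw [Ideal.Quotient.eq_zero_iff_mem, IsScalarTower.algebraMap_apply A (A ⧸ J) B₀]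
    exact Ideal.mem_map_of_mem _ (map_nonunit (Ideal.Quotient.mk J) a ha)
  letI : Algebra (ResidueField A) Bb :=
    (Ideal.Quotient.lift (maximalIdeal A) ((Ideal.Quotient.mk mB₀).comp (algebraMap A B₀)) hres).toAlgebra
  obtain ⟨C, _, _, _, _, _, ρ, hC, hflat, hρ, hker, hρa⟩ := exists_flat_complete_lift A Bb
  haveI := hC
  haveI := hflat
  have hρa' : ∀ a, ρ (algebraMap A C a) = Ideal.Quotient.mk mB₀ (algebraMap A B₀ a) := fun a => hρa a
  let JC := J.map (algebraMap A C)
  let C₀ := C ⧸ JC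
  have hJC : JC ≤ maximalIdeal C := (Ideal.map_mono hJ).trans
    (((local_hom_TFAE (algebraMap A C)).out 0 2).mp (inferInstance : IsLocalHom (algebraMap A C)))
  haveI : Nontrivial C₀ := Ideal.Quotient.nontrivial_iff.mpr
    (ne_top_of_le_ne_top (maximalIdeal.isMaximal C).ne_top hJC)
  haveI : IsLocalRing C₀ := IsLocalRing.of_surjective' (Ideal.Quotient.mk JC) Ideal.Quotient.mk_surjective
  haveI : IsAdicComplete (maximalIdeal C₀) C₀ := CplFib6.isAdicComplete_quot JC
  obtain ⟨φ, -⟩ := exists_quot_tensor_equiv A J C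
  haveI : Module.Flat (A ⧸ J) C₀ := Module.Flat.of_linearEquiv φ.toLinearEquiv.symm
  haveI : IsLocalHom (Ideal.Quotient.mk mB₀) := IsLocalHom.of_surjective _ Ideal.Quotient.mk_surjective
  -- the comparison map
  haveI := FlatLoc6.isLocalRing_cpl Bb
  let ι : Bb →+* EGA4.Cpl Bb := algebraMap Bb (EGA4.Cpl Bb)
  have hι : Function.Bijective ι := (AdicCompletion.of_bijective_iff).mpr inferInstance
  have hρJ : ∀ c ∈ JC, ι.comp ρ c = 0 := fun c hc => by
    have h1 : c ∈ RingHom.ker ρ := hker.ge (Ideal.map_mono hJ hc)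
    rw [RingHom.comp_apply, show ρ c = 0 from h1, map_zero]
  let ρ₀ : C₀ →+* EGA4.Cpl Bb := Ideal.Quotient.lift JC (ι.comp ρ) hρJ
  have hρ₀ : Function.Surjective ρ₀ := fun z => by
    obtain ⟨y, rfl⟩ := hι.2 z
    obtain ⟨c, rfl⟩ := hρ y
    exact ⟨Ideal.Quotient.mk _ c, rfl⟩
  have hmap : (maximalIdeal (A ⧸ J)).map (algebraMap (A ⧸ J) C₀) =
      ((maximalIdeal A).map (algebraMap A C)).map (Ideal.Quotient.mk JC) := by
    rw [← IsLocalRing.map_maximalIdeal_of_surjective (Ideal.Quotient.mk J) Ideal.Quotient.mk_surjective,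
      Ideal.map_map, Ideal.map_map]
    rfl
  have hker₀ : RingHom.ker ρ₀ = (maximalIdeal (A ⧸ J)).map (algebraMap (A ⧸ J) C₀) := by
    rw [hmap]
    ext z
    obtain ⟨c, rfl⟩ := Ideal.Quotient.mk_surjective z
    rw [RingHom.mem_ker, ← Ideal.mem_comap, Ideal.comap_map_of_surjective' _ Ideal.Quotient.mk_surjective,
      Ideal.mk_ker, sup_eq_left.mpr (Ideal.map_mono hJ), ← hker, RingHom.mem_ker]
    exact map_eq_zero_iff ι hι.1
  obtain ⟨e⟩ := exists_equiv_cpl_of_fs (C := C₀) hfs ρ₀ hρ₀ hker₀ (fun z => by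
    obtain ⟨a, rfl⟩ := Ideal.Quotient.mk_surjective z
    show ι (ρ (algebraMap A C a)) = _
    rw [hρa', IsScalarTower.algebraMap_apply A (A ⧸ J) B₀]
    rfl)
  let e₀ : B₀ ≃ₐ[A ⧸ J] EGA4.Cpl B₀ := AlgEquiv.ofBijective (IsScalarTower.toAlgHom (A ⧸ J) B₀ (EGA4.Cpl B₀))
    ((AdicCompletion.of_bijective_iff).mpr inferInstance)
  exact ⟨C, inferInstance, inferInstance, inferInstance, inferInstance, inferInstance, hC, hflat,
    ⟨φ.trans (e.symm.trans e₀.symm)⟩⟩

end Groth.Agent.RegFS6
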