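import Groth.Agent.RegFS6.CohenCover
import Groth.Agent.RegFS6.Field

/-!
# Flat liftings of regular complete algebras over the residue field
-/

set_option linter.style.haveILetI false

namespace Groth.Agent.RegFS6

universe u

open IsLocalRing TensorProduct

/-- The residue field of the completion. -/
theorem exists_residueField_cpl_equiv (A : Type u) [CommRing A] [IsLocalRing A] [IsNoetherianRing A]
    [IsLocalRing (EGA4.Cpl A)] :
    ∃ e : ResidueField A ≃+* ResidueField (EGA4.Cpl A),
      ∀ a, e (residue A a) = residue (EGA4.Cpl A) (algebraMap A (EGA4.Cpl A) a) := by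
  haveI : IsLocalHom (algebraMap A (EGA4.Cpl A)) := ((local_hom_TFAE _).out 0 2).mpr
    (AdicCompletion.maximalIdeal_eq_map_of_fg (IsNoetherian.noetherian _)).ge
  let f := ResidueField.map (algebraMap A (EGA4.Cpl A))
  have hf : Function.Bijective f := ⟨f.injective, fun y => by
    obtain ⟨x, rfl⟩ := residue_surjective y
    obtain ⟨a, ha⟩ := CplFib6.exists_sub_mem A x
    exact ⟨residue A a, ((residue_eq_zero_iff _).2 ha |> fun h => (sub_eq_zero.mp ((map_sub _ _ _).symm.trans h))).symm⟩⟩
  exact ⟨RingEquiv.ofBijective f hf, fun a => rfl⟩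

/-- A regular complete algebra over the residue field is the closed fibre of a flat complete algebra. -/
theorem exists_flat_complete_lift (A : Type u) [CommRing A] [IsLocalRing A] [IsNoetherianRing A] (B₀ : Type u)
    [CommRing B₀] [IsRegularLocalRing B₀] [IsAdicComplete (maximalIdeal B₀) B₀] [Algebra (ResidueField A) B₀] :
    ∃ (C : Type u) (_ : CommRing C) (_ : IsLocalRing C) (_ : IsNoetherianRing C) (_ : Algebra A C)
      (_ : IsLocalHom (algebraMap A C)) (ρ : C →+* B₀),
      IsAdicComplete (maximalIdeal C) C ∧ Module.Flat A C ∧ Function.Surjective ρ ∧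
        RingHom.ker ρ = (maximalIdeal A).map (algebraMap A C) ∧
        ∀ a, ρ (algebraMap A C a) = algebraMap (ResidueField A) B₀ (residue A a) := by
  obtain ⟨m, e⟩ : ∃ m, Nonempty (MvPowerSeries (Fin m) (ResidueField B₀) ≃+* B₀) := by
    suffices H : ∀ (P : Type u) [Field P] [PerfectField P] [Algebra P B₀],
        ∃ m, Nonempty (MvPowerSeries (Fin m) (ResidueField B₀) ≃+* B₀) by
      rcases CharP.exists' (ResidueField A) with h0 | ⟨p, hp, hk⟩
      · exact H (ResidueField A)
      · haveI := hp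
        let P := ULift.{u} (ZMod p)
        haveI : Finite P := Finite.of_equiv _ Equiv.ulift.symm
        haveI : PerfectField P := PerfectField.ofFinite
        letI : Algebra P (ResidueField A) :=
          ((ZMod.castHom dvd_rfl (ResidueField A)).comp (ULift.ringEquiv (R := ZMod p)).toRingHom).toAlgebra
        letI : Algebra P B₀ := ((algebraMap (ResidueField A) B₀).comp (algebraMap P (ResidueField A))).toAlgebra
        exact H P
    intro P _ _ _
    obtain ⟨m, ψ, hs, hm, -⟩ := exists_ps_hom P B₀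
    exact ⟨m, ⟨RingEquiv.ofBijective ψ.toRingHom (PSLib.bijective_of_surjective _ m ψ.toRingHom hs (by
      rw [← IsRegularLocalRing.spanFinrank_maximalIdeal, hm]))⟩⟩
  obtain ⟨e⟩ := e
  haveI := FlatLoc6.isLocalRing_cpl A
  haveI := FlatLoc6.isNoetherianRing_cpl A
  haveI := CplFib6.isAdicComplete_cpl A
  let Ah := EGA4.Cpl A
  obtain ⟨Λ, _, n, f, hΛ, hf⟩ := CohenLib.exists_surjective Ah (IsNoetherian.noetherian _)
  haveI : IsLocalRing Λ := by
    rcases hΛ with hF | ⟨_, _, -⟩
    · letI := hF.toField; infer_instance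
    · infer_instance
  obtain ⟨ek, hek⟩ := exists_residueField_cpl_equiv A
  haveI := (CohenLib.isRegular_complete_mvPowerSeries hΛ n).1
  let S := MvPowerSeries (Fin n) Λ
  haveI : IsLocalHom f := IsLocalHom.of_surjective f hf
  let κ : Λ →+* ResidueField A := ek.symm.toRingHom.comp ((residue Ah).comp (f.comp MvPowerSeries.C))
  have hκ : ∀ c ∈ maximalIdeal Λ, κ c = 0 := fun c hc => by
    show ek.symm (residue Ah (f (MvPowerSeries.C c))) = 0
    rw [(residue_eq_zero_iff _).2 ?_, map_zero]
    refine map_nonunit f _ ?_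
    rwa [CohenLib.mem_maximalIdeal_mvPowerSeries_iff, MvPowerSeries.constantCoeff_C]
  obtain ⟨R, _, _, _, G, ρ, hc, hflat, hρ, hker, hρG⟩ := exists_cover (Λ := Λ) hΛ n (K := ResidueField B₀) (m := m)
    (e.symm.toRingHom.comp ((algebraMap (ResidueField A) B₀).comp κ)) (fun c hc => by simp [hκ c hc])
  haveI := hc
  letI : Algebra S R := G.toAlgebra
  haveI : Module.Flat S R := hflat
  let ρB : R →+* B₀ := e.toRingHom.comp ρ
  have hρB : RingHom.ker ρB = (maximalIdeal S).map G := by
    rw [← hker]
    ext x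
    simp only [RingHom.mem_ker, ρB, RingHom.comp_apply, RingEquiv.toRingHom_eq_coe, RingHom.coe_coe,
      map_eq_zero_iff e e.injective]
  let 𝔞 : Ideal R := (RingHom.ker f).map (algebraMap S R)
  have h𝔞 : 𝔞 ≤ RingHom.ker ρB := hρB ▸ Ideal.map_mono (IsLocalRing.le_maximalIdeal (RingHom.ker_ne_top f))
  have h𝔞m : 𝔞 ≤ maximalIdeal R := h𝔞.trans (IsLocalRing.le_maximalIdeal (RingHom.ker_ne_top _))
  let C := R ⧸ 𝔞
  haveI : Nontrivial C := Ideal.Quotient.nontrivial_iff.mpr
    (ne_top_of_le_ne_top (maximalIdeal.isMaximal R).ne_top h𝔞m)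
  haveI : IsLocalRing C := IsLocalRing.of_surjective' (Ideal.Quotient.mk 𝔞) Ideal.Quotient.mk_surjective
  haveI hCc := CplFib6.isAdicComplete_quot (R := R) 𝔞
  let ES := RingHom.quotientKerEquivOfSurjective hf
  let Q : Ah →+* C := (algebraMap (S ⧸ RingHom.ker f) C).comp ES.symm.toRingHom
  have hQ : ∀ s, Q (f s) = Ideal.Quotient.mk 𝔞 (G s) := fun s => by
    show algebraMap (S ⧸ RingHom.ker f) C (ES.symm (f s)) = _
    rw [← RingHom.quotientKerEquivOfSurjective_apply_mk hf s]
    show algebraMap (S ⧸ RingHom.ker f) C (ES.symm (ES (Ideal.Quotient.mk _ s))) = _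
    rw [ES.symm_apply_apply]
    rfl
  have hQflat : Q.Flat := by
    refine RingHom.Flat.comp (RingHom.Flat.of_bijective ES.symm.bijective) ?_
    rw [RingHom.flat_algebraMap_iff]
    exact CplFib6.flat_quot (RingHom.ker f)
  letI : Algebra A C := (Q.comp (algebraMap A Ah)).toAlgebra
  have hAflat : Module.Flat A C := by
    rw [← RingHom.flat_algebraMap_iff]
    exact RingHom.Flat.comp (by rw [RingHom.flat_algebraMap_iff]; exact AdicCompletion.flat_of_isNoetherian _) hQflat
  let ρC : C →+* B₀ := Ideal.Quotient.lift 𝔞 ρB h𝔞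
  have hρC : Function.Surjective ρC := Ideal.Quotient.lift_surjective_of_surjective _ _ (e.surjective.comp hρ)
  have hmap : (maximalIdeal A).map (algebraMap A C) = RingHom.ker ρC := by
    rw [Ideal.ker_quotient_lift, hρB, show algebraMap A C = Q.comp (algebraMap A Ah) from rfl, ← Ideal.map_map,
      ← AdicCompletion.maximalIdeal_eq_map_of_fg (IsNoetherian.noetherian _),
      ← IsLocalRing.map_maximalIdeal_of_surjective f hf, Ideal.map_map,
      show Q.comp f = (Ideal.Quotient.mk 𝔞).comp G from RingHom.ext hQ, ← Ideal.map_map]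
  haveI : IsLocalHom (algebraMap A C) := ((local_hom_TFAE _).out 0 2).mpr
    (hmap ▸ IsLocalRing.le_maximalIdeal (RingHom.ker_ne_top _))
  refine ⟨C, inferInstance, inferInstance, inferInstance, inferInstance, inferInstance, ρC, hCc, hAflat, hρC,
    hmap.symm, fun a => ?_⟩
  obtain ⟨s, hs⟩ := hf (algebraMap A Ah a)
  show ρC (Q (algebraMap A Ah a)) = _
  rw [← hs, hQ]
  show ρB (G s) = _
  have hv : s - MvPowerSeries.C (MvPowerSeries.constantCoeff s) ∈ maximalIdeal S := by
    rw [CohenLib.mem_maximalIdeal_mvPowerSeries_iff, map_sub, MvPowerSeries.constantCoeff_C, sub_self]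
    exact zero_mem _
  have h1 : ρB (G (s - MvPowerSeries.C (MvPowerSeries.constantCoeff s))) = 0 := by
    rw [← RingHom.mem_ker, hρB]
    exact Ideal.mem_map_of_mem _ hv
  rw [map_sub, map_sub, sub_eq_zero] at h1
  rw [h1]
  show e (ρ (G (MvPowerSeries.C _))) = _
  rw [hρG]
  show e (e.symm (algebraMap (ResidueField A) B₀ (κ _))) = _
  rw [e.apply_symm_apply]
  congr 1
  show ek.symm (residue Ah (f (MvPowerSeries.C _))) = _
  rw [RingEquiv.symm_apply_eq, hek, ← hs, eq_comm, ← sub_eq_zero, ← map_sub, ← map_sub, residue_eq_zero_iff]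
  exact map_nonunit f _ hv

end Groth.Agent.RegFS6
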