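import Groth.Agent.RegFS6.Flat

/-!
# Formal smoothness from flatness and geometric regularity of the closed fibre
-/

set_option linter.style.haveILetI false

namespace Groth.Agent.RegFS6

universe u

open IsLocalRing TensorProduct

/-- The closed fibre is the quotient. -/
theorem closedFibre_equiv_quot (A B : Type u) [CommRing A] [CommRing B] [IsLocalRing A] [Algebra A B] :
    Nonempty ((maximalIdeal A).Fiber B ≃+* B ⧸ (maximalIdeal A).map (algebraMap A B)) := by
  let k : (A ⧸ maximalIdeal A) ≃ₐ[A] (maximalIdeal A).ResidueField :=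
    AlgEquiv.ofBijective (IsScalarTower.toAlgHom A (A ⧸ maximalIdeal A) (maximalIdeal A).ResidueField)
      (maximalIdeal A).bijective_algebraMap_quotient_residueField
  exact ⟨(((Algebra.TensorProduct.congr k.symm (AlgEquiv.refl (R := A) (A₁ := B))).toRingEquiv).trans
    (Algebra.TensorProduct.comm A (A ⧸ maximalIdeal A) B).toRingEquiv).trans
    (Algebra.TensorProduct.quotIdealMapEquivTensorQuot B (maximalIdeal A)).symm.toRingEquiv⟩

/-- A flat local homomorphism with geometrically regular closed fibre is formally smooth. -/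
theorem fs_of_flat_of_geometricallyRegular {A B : Type u} [CommRing A] [CommRing B] [IsLocalRing A] [IsLocalRing B]
    [IsNoetherianRing B] [Algebra A B] [IsLocalHom (algebraMap A B)] [Module.Flat A B]
    (h : CAlg.IsGeometricallyRegular (maximalIdeal A).ResidueField ((maximalIdeal A).Fiber B)) :
    CAlgX.IsAdicFormallySmooth A B (maximalIdeal B) := by
  let κ := (maximalIdeal A).ResidueField
  let T := (maximalIdeal A).Fiber B
  obtain ⟨e⟩ := closedFibre_equiv_quot A B
  let B₀ := B ⧸ (maximalIdeal A).map (algebraMap A B)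
  haveI : Nontrivial B₀ := Ideal.Quotient.nontrivial_iff.mpr (ne_top_of_le_ne_top (maximalIdeal.isMaximal B).ne_top
    (((local_hom_TFAE (algebraMap A B)).out 0 2).mp (inferInstance : IsLocalHom (algebraMap A B))))
  haveI : IsLocalRing B₀ := IsLocalRing.of_surjective' (Ideal.Quotient.mk ((maximalIdeal A).map (algebraMap A B))) Ideal.Quotient.mk_surjective
  haveI : IsLocalRing T := e.symm.isLocalRing
  haveI : IsNoetherianRing T := isNoetherianRing_of_ringEquiv B₀ e.symm
  haveI : IsRegularLocalRing B₀ := by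
    haveI := FlatLoc6.isRegularRing_of_geometricallyRegular h
    haveI : IsRegularLocalRing T := IsRegularLocalRing.of_isRegularRing_of_isLocalRing T
    exact IsRegularLocalRing.of_ringEquiv e
  have hfs := fs_iff_geometricallyRegular.mpr h
  refine fs_of_flat fun E _ _ hE J hJ ψ hψ => ?_
  let f : A ⧸ maximalIdeal A →+* E := Ideal.Quotient.lift _ (algebraMap A E) hE
  let k := RingEquiv.ofBijective (algebraMap (A ⧸ maximalIdeal A) κ)
    (maximalIdeal A).bijective_algebraMap_quotient_residueField
  letI : Algebra κ E := (f.comp k.symm.toRingHom).toAlgebra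
  haveI : IsScalarTower A κ E := IsScalarTower.of_algebraMap_eq fun a => by
    show _ = f (k.symm (algebraMap A κ a))
    rw [show algebraMap A κ a = k (Ideal.Quotient.mk _ a) from rfl, k.symm_apply_apply]
    rfl
  let ψT : T →ₐ[κ] E ⧸ J := Algebra.TensorProduct.lift (Algebra.ofId κ (E ⧸ J)) ψ fun _ _ => Commute.all _ _
  let inr : B →ₐ[A] T := Algebra.TensorProduct.includeRight
  have hsurj : ∀ t : T, ∃ b, inr b = t := fun t => by
    induction t using TensorProduct.induction_on with
    | zero => exact ⟨0, map_zero _⟩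
    | add x y hx hy =>
      obtain ⟨a, rfl⟩ := hx
      obtain ⟨b, rfl⟩ := hy
      exact ⟨a + b, map_add _ _ _⟩
    | tmul r b =>
      obtain ⟨q, rfl⟩ := k.surjective r
      obtain ⟨a, rfl⟩ := Ideal.Quotient.mk_surjective q
      refine ⟨a • b, ?_⟩
      show (1 : κ) ⊗ₜ[A] (a • b) = algebraMap A κ a ⊗ₜ[A] b
      rw [tmul_smul, smul_tmul', Algebra.algebraMap_eq_smul_one]
  have hinr : ∀ b, ψT (inr b) = ψ b := fun b => by
    show Algebra.TensorProduct.lift (Algebra.ofId κ (E ⧸ J)) ψ _ ((1 : κ) ⊗ₜ[A] b) = _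
    rw [Algebra.TensorProduct.lift_tmul, map_one, one_mul]
  obtain ⟨χ, hχ⟩ := hfs E J hJ ψT ⟨1, fun t ht => by
    obtain ⟨b, rfl⟩ := hsurj t
    rw [pow_one] at ht
    rw [hinr]
    exact hψ b fun hu => (mem_maximalIdeal _).mp ht (hu.map inr)⟩
  exact ⟨(χ.restrictScalars A).comp inr, AlgHom.ext fun b => (AlgHom.congr_fun hχ (inr b)).trans (hinr b)⟩

end Groth.Agent.RegFS6
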