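import Groth.Prelude.Def_CAlgX
import Groth.Agent.EGA41Lib.Adic
import Mathlib.RingTheory.Kaehler.Basic
import Mathlib.RingTheory.Smooth.Basic
import Mathlib.Algebra.TrivSqZeroExt.Basic
import Mathlib.Algebra.Module.Torsion.Basic

/-!
# Formal smoothness through differentials
-/

set_option linter.style.haveILetI false

namespace Groth.Agent.RegFS6

universe u

open TensorProduct KaehlerDifferential

section Lift

variable {Λ A B : Type u} [CommRing Λ] [CommRing A] [CommRing B] [Algebra Λ A] [Algebra A B] [Algebra Λ B]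
  [IsScalarTower Λ A B] (J : Ideal B)

/-- Derivations into modules killed by the ideal lift along surjections and extend from the base. -/
theorem exists_derivation_of_fs (hfs : CAlgX.IsAdicFormallySmooth A B J) {M N : Type u} [AddCommGroup M] [Module B M]
    [Module (B ⧸ J) M] [IsScalarTower B (B ⧸ J) M] [Module A M] [IsScalarTower A B M] [Module Λ M]
    [IsScalarTower Λ B M] [AddCommGroup N] [Module B N] [Module Λ N]
    (π : M →ₗ[B] N) (hπ : Function.Surjective π)
    (D : Derivation Λ B N) (δ : Derivation Λ A M) (hδ : ∀ a, π (δ a) = D (algebraMap A B a)) :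
    ∃ D' : Derivation Λ B M, (∀ b, π (D' b) = D b) ∧ ∀ a, D' (algebraMap A B a) = δ a := by
  letI : Module (B ⧸ J)ᵐᵒᵖ M := Module.compHom M ((RingHom.id (B ⧸ J)).fromOpposite mul_comm)
  haveI : IsCentralScalar (B ⧸ J) M := ⟨fun c m => rfl⟩
  let σ := Function.surjInv hπ
  have hσ : ∀ x, π (σ x) = x := Function.surjInv_eq hπ
  let mk : B →+* (B ⧸ J) := Ideal.Quotient.mk J
  have hsmul : ∀ (b : B) (m : M), mk b • m = b • m := fun b m => by
    rw [show mk b = algebraMap B (B ⧸ J) b from rfl, algebraMap_smul]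
  let K : Ideal (TrivSqZeroExt (B ⧸ J) M) :=
    { carrier := {x | x.fst = 0 ∧ π x.snd = 0}
      add_mem' := fun {x y} hx hy => ⟨by simp [hx.1, hy.1], by simp [hx.2, hy.2]⟩
      zero_mem' := ⟨rfl, by simp⟩
      smul_mem' := fun c x hx => by
        obtain ⟨b, hb⟩ := Ideal.Quotient.mk_surjective (c.fst)
        refine ⟨by simp [hx.1], ?_⟩
        rw [smul_eq_mul, TrivSqZeroExt.snd_mul, hx.1, op_smul_eq_smul, zero_smul, add_zero, ← hb]
        rw [hsmul, map_smul, hx.2, smul_zero] }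
  have hK : K ^ 2 = ⊥ := by
    rw [eq_bot_iff, sq, Ideal.mul_le]
    intro x hx y hy
    rw [Ideal.mem_bot]
    ext <;> simp [hx.1, hy.1]
  let ι : A →+* TrivSqZeroExt (B ⧸ J) M :=
    { toFun := fun a => TrivSqZeroExt.inl (mk (algebraMap A B a)) + TrivSqZeroExt.inr (δ a)
      map_one' := by simp
      map_zero' := by simp
      map_add' := fun x y => TrivSqZeroExt.ext (by simp) (by simp)
      map_mul' := fun x y => by
        refine TrivSqZeroExt.ext (by simp) ?_
        simp [TrivSqZeroExt.snd_mul, op_smul_eq_smul, hsmul, Derivation.leibniz, algebraMap_smul] }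
  letI : Algebra A (TrivSqZeroExt (B ⧸ J) M) := ι.toAlgebra
  let f : B → TrivSqZeroExt (B ⧸ J) M := fun b => TrivSqZeroExt.inl (mk b) + TrivSqZeroExt.inr (σ (D b))
  have hq : ∀ x y : TrivSqZeroExt (B ⧸ J) M, x.fst = y.fst → π x.snd = π y.snd →
      Ideal.Quotient.mk K x = Ideal.Quotient.mk K y := fun x y h1 h2 =>
    Ideal.Quotient.eq.mpr ⟨by simp [h1], by simp [h2]⟩
  let ψ₀ : B →+* TrivSqZeroExt (B ⧸ J) M ⧸ K :=
    { toFun := fun b => Ideal.Quotient.mk K (f b)
      map_one' := (hq _ _ (by simp [f, mk]) (by simp [f, hσ])).trans (map_one _)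
      map_zero' := (hq _ _ (by simp [f, mk]) (by simp [f, hσ])).trans (map_zero _)
      map_add' := fun x y => (hq _ _ (by simp [f]) (by simp [f, hσ])).trans (map_add _ _ _)
      map_mul' := fun x y => (hq _ (f x * f y) (by simp [f]) (by
        simp [f, hσ, hsmul, op_smul_eq_smul, TrivSqZeroExt.snd_mul])).trans (map_mul _ _ _) }
  let ψ : B →ₐ[A] TrivSqZeroExt (B ⧸ J) M ⧸ K :=
    { ψ₀ with commutes' := fun a => hq _ (ι a) (by simp [f, ι]) (by simp [f, ι, hσ, hδ]) }
  have hcont : ∃ k : ℕ, ∀ x ∈ J ^ k, ψ x = 0 := by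
    refine ⟨2, fun x hx => ?_⟩
    let T : Ideal (TrivSqZeroExt (B ⧸ J) M) := RingHom.ker (TrivSqZeroExt.fstHom (B ⧸ J) (B ⧸ J) M).toRingHom
    have hT : T ^ 2 = ⊥ := by
      rw [eq_bot_iff, sq, Ideal.mul_le]
      intro y hy z hz
      rw [Ideal.mem_bot]
      have hy' : y.fst = 0 := hy
      have hz' : z.fst = 0 := hz
      ext <;> simp [hy', hz']
    have h1 := EGA41Lib.mem_pow_of_forall_mem ψ (J := T.map (Ideal.Quotient.mk K)) (fun j hj =>
      Ideal.mem_map_of_mem (Ideal.Quotient.mk K) (show f j ∈ T from by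
        show (f j).fst = 0
        simp [f, mk, Ideal.Quotient.eq_zero_iff_mem.mpr hj])) 2 x hx
    rwa [← Ideal.map_pow, hT, Ideal.map_bot, Ideal.mem_bot] at h1
  obtain ⟨w, hw⟩ := hfs (TrivSqZeroExt (B ⧸ J) M) K hK ψ hcont
  have hwb : ∀ b, w b - f b ∈ K := fun b => Ideal.Quotient.eq.mp (AlgHom.congr_fun hw b)
  have hfst : ∀ b, (w b).fst = mk b := fun b => by
    have := (hwb b).1
    simpa [f, sub_eq_zero] using this
  let D₁ : B → M := fun b => (w b).snd
  have hmul : ∀ x y, D₁ (x * y) = x • D₁ y + y • D₁ x := fun x y => by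
    simp [D₁, TrivSqZeroExt.snd_mul, op_smul_eq_smul, hfst, hsmul]
  have hA : ∀ a, D₁ (algebraMap A B a) = δ a := fun a => by
    simp [D₁, show w (algebraMap A B a) = ι a from w.commutes a, ι]
  have hlin : ∀ (l : Λ) b, D₁ (l • b) = l • D₁ b := fun l b => by
    rw [Algebra.smul_def, hmul, algebraMap_smul, IsScalarTower.algebraMap_apply Λ A B l, hA, δ.map_algebraMap,
      smul_zero, add_zero]
  refine ⟨Derivation.mk' { toFun := D₁, map_add' := fun x y => by simp [D₁], map_smul' := hlin } hmul,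
    fun b => ?_, hA⟩
  show π (D₁ b) = D b
  have := (hwb b).2
  simpa [f, D₁, hσ, sub_eq_zero] using this

/-- The differentials of a formally smooth algebra are projective modulo the ideal. -/
theorem projective_kaehler_of_fs (hfs : CAlgX.IsAdicFormallySmooth A B J) :
    Module.Projective (B ⧸ J) ((B ⧸ J) ⊗[B] (Ω[B⁄A])) := by
  refine Module.Projective.of_lifting_property fun {M N} _ _ _ _ g f hg => ?_
  letI : Module B M := Module.compHom M (Ideal.Quotient.mk J)
  haveI : IsScalarTower B (B ⧸ J) M := IsScalarTower.of_algebraMap_smul fun _ _ => rfl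
  letI : Module B N := Module.compHom N (Ideal.Quotient.mk J)
  haveI : IsScalarTower B (B ⧸ J) N := IsScalarTower.of_algebraMap_smul fun _ _ => rfl
  letI : Module A M := Module.compHom M (algebraMap A B)
  haveI : IsScalarTower A B M := IsScalarTower.of_algebraMap_smul fun _ _ => rfl
  letI : Module A N := Module.compHom N (algebraMap A B)
  haveI : IsScalarTower A B N := IsScalarTower.of_algebraMap_smul fun _ _ => rfl
  let D : Derivation A B N :=
    ((f.restrictScalars B).comp (TensorProduct.mk B (B ⧸ J) (Ω[B⁄A]) 1)).compDer (KaehlerDifferential.D A B)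
  obtain ⟨D', hD', -⟩ := exists_derivation_of_fs (Λ := A) J hfs (g.restrictScalars B) hg D (0 : Derivation A A M)
    fun a => by simp
  refine ⟨LinearMap.liftBaseChange (B ⧸ J) D'.liftKaehlerDifferential, ?_⟩
  refine TensorProduct.AlgebraTensorModule.ext fun c x => ?_
  rw [← mul_one c, ← smul_eq_mul, ← TensorProduct.smul_tmul', map_smul, map_smul]
  congr 1
  rw [LinearMap.comp_apply, LinearMap.liftBaseChange_tmul, one_smul]
  have hx : x ∈ Submodule.span B (Set.range (KaehlerDifferential.D A B)) := by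
    rw [KaehlerDifferential.span_range_derivation]
    trivial
  induction hx using Submodule.span_induction with
  | mem y hy =>
    obtain ⟨b, rfl⟩ := hy
    rw [Derivation.liftKaehlerDifferential_comp_D]
    exact hD' b
  | zero => simp
  | add y z _ _ hy hz => rw [map_add, map_add, hy, hz, TensorProduct.tmul_add, map_add]
  | smul r y _ hy =>
    rw [map_smul, TensorProduct.tmul_smul]
    exact ((g.restrictScalars B).map_smul r _).trans ((congrArg (r • ·) hy).trans ((f.restrictScalars B).map_smul r _).symm)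

variable (Λ A) in
/-- The base change map on differentials, modulo the ideal. -/
noncomputable abbrev kaehlerBC : (B ⧸ J) ⊗[B] (B ⊗[A] Ω[A⁄Λ]) →ₗ[B ⧸ J] (B ⧸ J) ⊗[B] Ω[B⁄Λ] :=
  (mapBaseChange Λ A B).baseChange (B ⧸ J)

/-- The differentials of the base split off modulo the ideal. -/
theorem exists_leftInverse_of_fs (hfs : CAlgX.IsAdicFormallySmooth A B J) :
    ∃ g : (B ⧸ J) ⊗[B] Ω[B⁄Λ] →ₗ[B ⧸ J] (B ⧸ J) ⊗[B] (B ⊗[A] Ω[A⁄Λ]), ∀ x, g (kaehlerBC Λ A J x) = x := by
  let M := (B ⧸ J) ⊗[B] (B ⊗[A] Ω[A⁄Λ])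
  let δ : Derivation Λ A M :=
    (((TensorProduct.mk B (B ⧸ J) (B ⊗[A] Ω[A⁄Λ]) 1).restrictScalars A).comp
      (TensorProduct.mk A B (Ω[A⁄Λ]) 1)).compDer (KaehlerDifferential.D Λ A)
  obtain ⟨D', -, hD'⟩ := exists_derivation_of_fs (Λ := Λ) J hfs (0 : M →ₗ[B] PUnit.{u + 1})
    (fun x => ⟨0, rfl⟩) 0 δ fun a => rfl
  refine ⟨LinearMap.liftBaseChange (B ⧸ J) D'.liftKaehlerDifferential, fun x => ?_⟩
  induction x using TensorProduct.induction_on with
  | zero => simp
  | add y z hy hz => rw [map_add, map_add, hy, hz]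
  | tmul c y =>
    rw [LinearMap.baseChange_tmul, LinearMap.liftBaseChange_tmul]
    have key : D'.liftKaehlerDifferential (mapBaseChange Λ A B y) = (1 : B ⧸ J) ⊗ₜ[B] y := by
      induction y using TensorProduct.induction_on with
      | zero => simp
      | add s t hs ht => rw [map_add, map_add, hs, ht, TensorProduct.tmul_add]
      | tmul b z =>
        rw [mapBaseChange_tmul, map_smul]
        have hz : z ∈ Submodule.span A (Set.range (KaehlerDifferential.D Λ A)) := by
          rw [KaehlerDifferential.span_range_derivation]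
          trivial
        have key2 : D'.liftKaehlerDifferential (KaehlerDifferential.map Λ Λ A B z) =
            (1 : B ⧸ J) ⊗ₜ[B] ((1 : B) ⊗ₜ[A] z) := by
          induction hz using Submodule.span_induction with
          | mem w hw =>
            obtain ⟨a, rfl⟩ := hw
            rw [KaehlerDifferential.map_D, Derivation.liftKaehlerDifferential_comp_D, hD']
            rfl
          | zero => simp
          | add s t _ _ hs ht => rw [map_add, map_add, hs, ht, TensorProduct.tmul_add, TensorProduct.tmul_add]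
          | smul r s _ hs =>
            rw [map_smul, LinearMap.map_smul_of_tower, hs, TensorProduct.tmul_smul, TensorProduct.tmul_smul]
        rw [key2, ← TensorProduct.tmul_smul, TensorProduct.smul_tmul', smul_eq_mul, mul_one]
    rw [key, TensorProduct.smul_tmul', smul_eq_mul, mul_one]

/-- Extending derivations through a splitting. -/
theorem exists_extend_of_leftInverse
    (g : (B ⧸ J) ⊗[B] Ω[B⁄Λ] →ₗ[B ⧸ J] (B ⧸ J) ⊗[B] (B ⊗[A] Ω[A⁄Λ])) (hg : ∀ x, g (kaehlerBC Λ A J x) = x)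
    {M : Type u} [AddCommGroup M] [Module B M] [Module (B ⧸ J) M] [IsScalarTower B (B ⧸ J) M] [Module A M]
    [IsScalarTower A B M] [Module Λ M] [IsScalarTower Λ B M] [IsScalarTower Λ A M] (δ : Derivation Λ A M) :
    ∃ D : Derivation Λ B M, ∀ a, D (algebraMap A B a) = δ a := by
  let l : (B ⧸ J) ⊗[B] (B ⊗[A] Ω[A⁄Λ]) →ₗ[B ⧸ J] M :=
    LinearMap.liftBaseChange (B ⧸ J) (LinearMap.liftBaseChange B δ.liftKaehlerDifferential)
  refine ⟨(((l.comp g).restrictScalars B).comp (TensorProduct.mk B (B ⧸ J) (Ω[B⁄Λ]) 1)).compDer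
    (KaehlerDifferential.D Λ B), fun a => ?_⟩
  show l (g ((1 : B ⧸ J) ⊗ₜ[B] KaehlerDifferential.D Λ B (algebraMap A B a))) = δ a
  have h1 : (1 : B ⧸ J) ⊗ₜ[B] KaehlerDifferential.D Λ B (algebraMap A B a) =
      kaehlerBC Λ A J ((1 : B ⧸ J) ⊗ₜ[B] ((1 : B) ⊗ₜ[A] KaehlerDifferential.D Λ A a)) := by
    simp
  rw [h1, hg]
  simp [l]

/-- A split injection from a projective cokernel. -/
theorem exists_leftInverse_of_injective
    (hinj : Function.Injective ((mapBaseChange Λ A B).lTensor (B ⧸ J)))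
    [Module.Projective (B ⧸ J) ((B ⧸ J) ⊗[B] (Ω[B⁄A]))] :
    ∃ g : (B ⧸ J) ⊗[B] Ω[B⁄Λ] →ₗ[B ⧸ J] (B ⧸ J) ⊗[B] (B ⊗[A] Ω[A⁄Λ]), ∀ x, g (kaehlerBC Λ A J x) = x := by
  let q : (B ⧸ J) ⊗[B] Ω[B⁄Λ] →ₗ[B ⧸ J] (B ⧸ J) ⊗[B] Ω[B⁄A] :=
    (KaehlerDifferential.map Λ A B B).baseChange (B ⧸ J)
  have hsurj : Function.Surjective q :=
    LinearMap.lTensor_surjective (B ⧸ J) (KaehlerDifferential.map_surjective Λ A B)
  have hexact : Function.Exact (kaehlerBC Λ A J) q :=
    lTensor_exact (B ⧸ J) (KaehlerDifferential.exact_mapBaseChange_map Λ A B)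
      (KaehlerDifferential.map_surjective Λ A B)
  obtain ⟨s, hs⟩ := Module.projective_lifting_property q LinearMap.id hsurj
  have hs' : ∀ y, q (s y) = y := fun y => LinearMap.congr_fun hs y
  let e := LinearEquiv.ofInjective (kaehlerBC Λ A J) hinj
  have hr : ∀ x, (LinearMap.id - s.comp q : _ →ₗ[B ⧸ J] _) x ∈ LinearMap.range (kaehlerBC Λ A J) := fun x => by
    refine (hexact _).mp ?_
    simp [hs']
  refine ⟨e.symm.toLinearMap.comp ((LinearMap.id - s.comp q).codRestrict _ hr), fun x => e.injective ?_⟩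
  show e (e.symm _) = _
  rw [e.apply_symm_apply]
  apply Subtype.ext
  show kaehlerBC Λ A J x - s (q (kaehlerBC Λ A J x)) = kaehlerBC Λ A J x
  rw [(hexact _).mpr ⟨x, rfl⟩, map_zero, sub_zero]

/-- Lifting along a kernel killed by the ideal. -/
theorem exists_lift_of_killed (hΛ : CAlgX.IsAdicFormallySmooth Λ B J)
    (g : (B ⧸ J) ⊗[B] Ω[B⁄Λ] →ₗ[B ⧸ J] (B ⧸ J) ⊗[B] (B ⊗[A] Ω[A⁄Λ])) (hg : ∀ x, g (kaehlerBC Λ A J x) = x)
    {E : Type u} [CommRing E] [Algebra A E] (K : Ideal E) (hK : K ^ 2 = ⊥) (ψ : B →ₐ[A] E ⧸ K)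
    (hψ : ∃ k : ℕ, ∀ x ∈ J ^ k, ψ x = 0)
    (hkill : (J.map ψ.toRingHom).comap (Ideal.Quotient.mk K) * K = ⊥) :
    ∃ w : B →ₐ[A] E, (Ideal.Quotient.mkₐ A K).comp w = ψ := by
  letI : Algebra Λ E := ((algebraMap A E).comp (algebraMap Λ A)).toAlgebra
  haveI : IsScalarTower Λ A E := IsScalarTower.of_algebraMap_eq fun _ => rfl
  haveI : IsScalarTower Λ A (E ⧸ K) := IsScalarTower.of_algebraMap_eq fun _ => rfl
  obtain ⟨χ, hχ⟩ := hΛ E K hK (ψ.restrictScalars Λ) hψ
  have hχb : ∀ b, Ideal.Quotient.mk K (χ b) = ψ b := fun b => AlgHom.congr_fun hχ b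
  have h0 : ∀ x ∈ K, ∀ y ∈ K, x * y = 0 := fun x hx y hy => by
    have := Ideal.mul_mem_mul hx hy
    rwa [← sq, hK, Ideal.mem_bot] at this
  letI : Module B K := Module.compHom K χ.toRingHom
  have hsm : ∀ (b : B) (x : K), ((b • x : K) : E) = χ b * x := fun b x => rfl
  have htor : Module.IsTorsionBySet B K (J : Set B) := fun x j => Subtype.ext (by
    rw [hsm]
    have h1 : χ j ∈ (J.map ψ.toRingHom).comap (Ideal.Quotient.mk K) := by
      rw [Ideal.mem_comap, hχb]
      exact Ideal.mem_map_of_mem ψ.toRingHom j.2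
    have h2 := Ideal.mul_mem_mul h1 x.2
    rwa [hkill, Ideal.mem_bot] at h2)
  letI : Module (B ⧸ J) K := htor.module
  haveI : IsScalarTower B (B ⧸ J) K := IsScalarTower.of_algebraMap_smul fun _ _ => rfl
  have hmem : ∀ a, χ (algebraMap A B a) - algebraMap A E a ∈ K := fun a => by
    rw [← Ideal.Quotient.eq_zero_iff_mem, map_sub, hχb, AlgHom.commutes, sub_eq_zero]
    rfl
  haveI : IsScalarTower A B K := IsScalarTower.of_algebraMap_smul fun a x => Subtype.ext (by
    rw [hsm, Submodule.coe_smul_of_tower, Algebra.smul_def]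
    linear_combination h0 _ (hmem a) _ x.2)
  haveI : IsScalarTower Λ B K := IsScalarTower.of_algebraMap_smul fun l x => Subtype.ext (by
    rw [hsm, AlgHom.commutes, Submodule.coe_smul_of_tower, Algebra.smul_def])
  let δl : A →ₗ[Λ] K := LinearMap.codRestrict (K.restrictScalars Λ)
    ((χ.toLinearMap.comp (IsScalarTower.toAlgHom Λ A B).toLinearMap) - (IsScalarTower.toAlgHom Λ A E).toLinearMap) hmem
  let δ : Derivation Λ A K := Derivation.mk' δl fun x y => Subtype.ext (by
    show χ (algebraMap A B (x * y)) - algebraMap A E (x * y) =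
      ((x • δl y : K) : E) + ((y • δl x : K) : E)
    rw [Submodule.coe_smul_of_tower, Submodule.coe_smul_of_tower, Algebra.smul_def, Algebra.smul_def, map_mul,
      map_mul, map_mul]
    show _ = algebraMap A E x * (χ (algebraMap A B y) - algebraMap A E y) +
      algebraMap A E y * (χ (algebraMap A B x) - algebraMap A E x)
    linear_combination h0 _ (hmem x) _ (hmem y))
  obtain ⟨D, hD⟩ := exists_extend_of_leftInverse J g hg δ
  let w₀ : B →+* E :=
    { toFun := fun b => χ b - (D b : E)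
      map_one' := by simp
      map_zero' := by simp
      map_add' := fun x y => by simp only [map_add, Submodule.coe_add]; ring
      map_mul' := fun x y => by
        simp only [map_mul, Derivation.leibniz, Submodule.coe_add, hsm]
        linear_combination -(h0 _ (D x).2 _ (D y).2) }
  have hw : ∀ a, w₀ (algebraMap A B a) = algebraMap A E a := fun a => by
    show χ (algebraMap A B a) - (D (algebraMap A B a) : E) = _
    rw [hD]
    show χ (algebraMap A B a) - (χ (algebraMap A B a) - algebraMap A E a) = _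
    ring
  refine ⟨{ w₀ with commutes' := hw }, AlgHom.ext fun b => ?_⟩
  show Ideal.Quotient.mk K (χ b - (D b : E)) = ψ b
  rw [map_sub, Ideal.Quotient.eq_zero_iff_mem.mpr (D b).2, sub_zero, hχb]

/-- Formal smoothness over a formally smooth algebra from a splitting of differentials. -/
theorem fs_of_leftInverse (hΛ : CAlgX.IsAdicFormallySmooth Λ B J)
    (g : (B ⧸ J) ⊗[B] Ω[B⁄Λ] →ₗ[B ⧸ J] (B ⧸ J) ⊗[B] (B ⊗[A] Ω[A⁄Λ])) (hg : ∀ x, g (kaehlerBC Λ A J x) = x) :
    CAlgX.IsAdicFormallySmooth A B J := by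
  suffices H : ∀ (m : ℕ) (E : Type u) [CommRing E] [Algebra A E] (K : Ideal E), K ^ 2 = ⊥ →
      ∀ ψ : B →ₐ[A] E ⧸ K, (∃ k : ℕ, ∀ x ∈ J ^ k, ψ x = 0) →
      (J.map ψ.toRingHom).comap (Ideal.Quotient.mk K) ^ m * K = ⊥ →
      ∃ w : B →ₐ[A] E, (Ideal.Quotient.mkₐ A K).comp w = ψ by
    intro E _ _ K hK ψ ⟨k, hk⟩
    refine H k E K hK ψ ⟨k, hk⟩ ?_
    have h1 : (J.map ψ.toRingHom).comap (Ideal.Quotient.mk K) ^ k ≤ K := fun x hx => by
      have h2 := Ideal.mem_map_of_mem (Ideal.Quotient.mk K) hx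
      rw [Ideal.map_pow, Ideal.map_comap_of_surjective _ Ideal.Quotient.mk_surjective, ← Ideal.map_pow] at h2
      have h3 : (J ^ k).map ψ.toRingHom = ⊥ := by
        rw [eq_bot_iff, Ideal.map_le_iff_le_comap]
        exact fun y hy => hk y hy
      rw [h3, Ideal.mem_bot] at h2
      exact Ideal.Quotient.eq_zero_iff_mem.mp h2
    rw [eq_bot_iff]
    refine (Ideal.mul_mono_left h1).trans ?_
    rw [← sq, hK]
  intro m
  induction m with
  | zero =>
    intro E _ _ K _ ψ _ h
    rw [pow_zero, one_mul] at h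
    let e : E ≃ₐ[A] E ⧸ K := AlgEquiv.ofBijective (Ideal.Quotient.mkₐ A K) ⟨fun x y hxy => by
      have := Ideal.Quotient.eq.mp hxy
      rwa [h, Ideal.mem_bot, sub_eq_zero] at this, Ideal.Quotient.mk_surjective⟩
    exact ⟨e.symm.toAlgHom.comp ψ, AlgHom.ext fun b => e.apply_symm_apply _⟩
  | succ m ih =>
    intro E _ _ K hK ψ hψ h
    let J' := (J.map ψ.toRingHom).comap (Ideal.Quotient.mk K)
    let K' := J' ^ m * K
    have hK'K : K' ≤ K := Ideal.mul_le_right
    have hK'2 : K' ^ 2 = ⊥ := by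
      rw [eq_bot_iff]
      exact (Ideal.pow_right_mono hK'K 2).trans hK.le
    let K₁ : Ideal (E ⧸ K') := K.map (Ideal.Quotient.mk K')
    have hK₁ : K₁ ^ 2 = ⊥ := by rw [← Ideal.map_pow, hK, Ideal.map_bot]
    let e : (E ⧸ K) ≃ₐ[A] (E ⧸ K') ⧸ K₁ := (DoubleQuot.quotQuotEquivQuotOfLEₐ A hK'K).symm
    have he : ∀ x, e (Ideal.Quotient.mk K x) = Ideal.Quotient.mk K₁ (Ideal.Quotient.mk K' x) := fun x => rfl
    let ψ₁ : B →ₐ[A] (E ⧸ K') ⧸ K₁ := e.toAlgHom.comp ψ
    have hψ₁ : ∃ k : ℕ, ∀ x ∈ J ^ k, ψ₁ x = 0 := hψ.imp fun k hk x hx => by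
      show e (ψ x) = 0
      rw [hk x hx, map_zero]
    have hJ₁ : (J.map ψ₁.toRingHom).comap (Ideal.Quotient.mk K₁) ≤ J'.map (Ideal.Quotient.mk K') := by
      intro z hz
      obtain ⟨x, rfl⟩ := Ideal.Quotient.mk_surjective z
      refine Ideal.mem_map_of_mem _ ?_
      rw [Ideal.mem_comap, ← he] at hz
      have h1 : J.map ψ₁.toRingHom = (J.map ψ.toRingHom).map e.toRingEquiv.toRingHom := by
        rw [Ideal.map_map]
        rfl
      rw [h1] at hz
      rw [Ideal.mem_comap]
      obtain ⟨y, hy, hyz⟩ := (Ideal.mem_map_iff_of_surjective _ e.surjective).mp hz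
      exact e.injective hyz ▸ hy
    obtain ⟨χ₁, hχ₁⟩ := ih (E ⧸ K') K₁ hK₁ ψ₁ hψ₁ (by
      rw [eq_bot_iff]
      refine (Ideal.mul_mono_left (Ideal.pow_right_mono hJ₁ m)).trans ?_
      rw [← Ideal.map_pow, ← Ideal.map_mul, Ideal.map_quotient_self])
    have hχ₁b : ∀ b x, χ₁ b = Ideal.Quotient.mk K' x → ψ b = Ideal.Quotient.mk K x := fun b x hx => by
      refine e.injective ?_
      rw [he, ← hx]
      exact (AlgHom.congr_fun hχ₁ b).symm
    have hJ'' : (J.map χ₁.toRingHom).comap (Ideal.Quotient.mk K') ≤ J' := by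
      intro x hx
      rw [Ideal.mem_comap] at hx ⊢
      have hc : (Ideal.Quotient.factor hK'K).comp χ₁.toRingHom = ψ.toRingHom := RingHom.ext fun b => by
        obtain ⟨y, hy⟩ := Ideal.Quotient.mk_surjective (χ₁ b)
        show Ideal.Quotient.factor hK'K (χ₁ b) = ψ b
        rw [← hy, Ideal.Quotient.factor_mk, hχ₁b b y hy.symm]
      have := Ideal.mem_map_of_mem (Ideal.Quotient.factor hK'K) hx
      rwa [Ideal.map_map, hc, Ideal.Quotient.factor_mk] at this
    obtain ⟨w, hw⟩ := exists_lift_of_killed J hΛ g hg K' hK'2 χ₁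
      (EGA41Lib.kills_power_of_nilpotent χ₁ ⟨2, by rw [hK₁, Ideal.zero_eq_bot]⟩ (hψ₁.imp fun k hk x hx =>
        (AlgHom.congr_fun hχ₁ x).trans (hk x hx))) (by
      rw [eq_bot_iff]
      refine (Ideal.mul_mono_left hJ'').trans ?_
      rw [← h, ← mul_assoc, ← pow_succ'])
    exact ⟨w, AlgHom.ext fun b => (hχ₁b b (w b) (AlgHom.congr_fun hw b).symm).symm⟩

end Lift

end Groth.Agent.RegFS6
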