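import Groth.Agent.RegFS6.Complete
import Groth.Agent.S2461

/-!
# Formally smooth algebras over rings with regular formal fibres
-/

set_option linter.style.haveILetI false

namespace Groth.Agent.RegFS6

universe u

open IsLocalRing TensorProduct

/-- Formal smoothness passes to the completions. -/
theorem fs_cpl {A B : Type u} [CommRing A] [CommRing B] [IsLocalRing A] [IsLocalRing B] [IsNoetherianRing A]
    [IsNoetherianRing B] [Algebra A B] [IsLocalRing (EGA4.Cpl A)] [IsLocalRing (EGA4.Cpl B)]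
    [Algebra (EGA4.Cpl A) (EGA4.Cpl B)] [IsScalarTower A (EGA4.Cpl A) (EGA4.Cpl B)]
    [IsLocalHom (algebraMap (EGA4.Cpl A) (EGA4.Cpl B))]
    (hfs : CAlgX.IsAdicFormallySmooth A B (maximalIdeal B)) :
    CAlgX.IsAdicFormallySmooth (EGA4.Cpl A) (EGA4.Cpl B) (maximalIdeal (EGA4.Cpl B)) := by
  have hA : CAlgX.IsAdicFormallySmooth A (EGA4.Cpl B) (maximalIdeal (EGA4.Cpl B)) := by
    rw [S4537.result]
    have h := (S2461.result (A := A) ⊥ (maximalIdeal B)).mp ((S4537.result _).mp hfs)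
    rwa [← AdicCompletion.maximalIdeal_eq_map_of_fg (IsNoetherian.noetherian _)] at h
  intro E _ _ J hJ ψ hψ
  obtain ⟨k, hk⟩ := hψ
  letI : Algebra A E := ((algebraMap (EGA4.Cpl A) E).comp (algebraMap A (EGA4.Cpl A))).toAlgebra
  haveI : IsScalarTower A (EGA4.Cpl A) E := IsScalarTower.of_algebraMap_eq fun _ => rfl
  obtain ⟨w, hw⟩ := hA E J hJ (ψ.restrictScalars A) ⟨k, hk⟩
  refine ⟨{ w.toRingHom with commutes' := fun x => ?_ }, AlgHom.ext fun y => AlgHom.congr_fun hw y⟩
  obtain ⟨a, ha⟩ := CplFib6.exists_sub_mem_pow A (k * 2) x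
  rw [Ideal.map_pow, ← AdicCompletion.maximalIdeal_eq_map_of_fg (IsNoetherian.noetherian _)] at ha
  have hJ0 : ∀ z ∈ maximalIdeal (EGA4.Cpl A) ^ k, algebraMap (EGA4.Cpl A) E z ∈ J := fun z hz => by
    rw [← Ideal.Quotient.eq_zero_iff_mem]
    exact (ψ.commutes z).symm.trans (hk _ (EGA41Lib.mem_pow_of_forall_mem _ (fun t ht => map_nonunit _ t ht) k z hz))
  have h1 : algebraMap (EGA4.Cpl A) E (x - algebraMap A (EGA4.Cpl A) a) = 0 := by
    rw [pow_mul] at ha
    have := EGA41Lib.mem_pow_of_forall_mem (algebraMap (EGA4.Cpl A) E) hJ0 2 _ ha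
    rwa [hJ, Ideal.mem_bot] at this
  have hwJ : ∀ y ∈ maximalIdeal (EGA4.Cpl B) ^ k, w y ∈ J := fun y hy => by
    rw [← Ideal.Quotient.eq_zero_iff_mem]
    exact (AlgHom.congr_fun hw y).trans (hk y hy)
  have h2 : w (algebraMap (EGA4.Cpl A) (EGA4.Cpl B) (x - algebraMap A (EGA4.Cpl A) a)) = 0 := by
    have h3 := EGA41Lib.mem_pow_of_forall_mem (algebraMap (EGA4.Cpl A) (EGA4.Cpl B))
      (fun t ht => map_nonunit _ t ht) (k * 2) _ ha
    rw [pow_mul] at h3
    have := EGA41Lib.mem_pow_of_forall_mem w hwJ 2 _ h3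
    rwa [hJ, Ideal.mem_bot] at this
  rw [map_sub, sub_eq_zero] at h1
  rw [map_sub, map_sub, sub_eq_zero] at h2
  show w (algebraMap (EGA4.Cpl A) (EGA4.Cpl B) x) = algebraMap (EGA4.Cpl A) E x
  rw [h2, h1, ← IsScalarTower.algebraMap_apply, AlgHom.commutes]
  rfl

/-- A formally smooth local algebra over a local ring with regular formal fibres is regular over it. -/
theorem isRegularHom_of_fs {A B : Type u} [CommRing A] [CommRing B] [IsLocalRing A] [IsLocalRing B]
    [IsNoetherianRing A] [IsNoetherianRing B] [Algebra A B] [IsLocalHom (algebraMap A B)]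
    (hA : CAlg.IsRegularHom A (EGA4.Cpl A)) (hfs : CAlgX.IsAdicFormallySmooth A B (maximalIdeal B)) :
    CAlg.IsRegularHom A B := by
  haveI := flat_of_fs hfs
  haveI := FlatLoc6.isLocalRing_cpl A
  haveI := FlatLoc6.isLocalRing_cpl B
  haveI := FlatLoc6.isNoetherianRing_cpl A
  haveI := FlatLoc6.isNoetherianRing_cpl B
  haveI := CplFib6.isAdicComplete_cpl A
  obtain ⟨_, hst, hff⟩ := FlatLoc6.exists_cplHom A B
  haveI := hst
  haveI : IsLocalHom (algebraMap (EGA4.Cpl A) (EGA4.Cpl B)) := by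
    refine ((local_hom_TFAE _).out 0 2).mpr ?_
    rw [AdicCompletion.maximalIdeal_eq_map_of_fg (IsNoetherian.noetherian _), Ideal.map_map,
      ← IsScalarTower.algebraMap_eq, IsScalarTower.algebraMap_eq A B (EGA4.Cpl B), ← Ideal.map_map,
      AdicCompletion.maximalIdeal_eq_map_of_fg (IsNoetherian.noetherian _)]
    exact Ideal.map_mono (((local_hom_TFAE (algebraMap A B)).out 0 2).mp (inferInstance : IsLocalHom (algebraMap A B)))
  have h := FlatLoc6.isRegularHom_comp A (EGA4.Cpl A) (EGA4.Cpl B) hA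
    (isRegularHom_of_fs_of_complete (fs_cpl hfs))
  haveI := FlatLoc6.faithfullyFlat_cpl B
  refine ⟨inferInstance, fun p _ => ⟨FlatLoc6.isNoetherianRing_fiber (B := B) p, fun L _ _ hL => ?_⟩⟩
  exact FlatLoc6.Permanence.cancel A B (EGA4.Cpl B) FlatLoc6.permanence_regular p L ((h.2 p).2 L hL)

end Groth.Agent.RegFS6
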