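import Groth.Agent.RegFS6.Lift
import Groth.Agent.RegFS6.Fibre
import Groth.Agent.S2462
import Groth.Agent.S4537
import Groth.Agent.SmallFlat.Misc
import Groth.Agent.FlatLoc6.Cpl

/-!
# Formally smooth local homomorphisms are flat
-/

set_option linter.style.haveILetI false

namespace Groth.Agent.RegFS6

universe u

open IsLocalRing TensorProduct

/-- The closed fibre of a formally smooth local homomorphism is geometrically regular. -/
theorem geometricallyRegular_fibre_of_fs {A B : Type u} [CommRing A] [CommRing B] [IsLocalRing A] [IsLocalRing B]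
    [IsNoetherianRing B] [Algebra A B] [IsLocalHom (algebraMap A B)]
    (hfs : CAlgX.IsAdicFormallySmooth A B (maximalIdeal B)) :
    CAlg.IsGeometricallyRegular (maximalIdeal A).ResidueField ((maximalIdeal A).Fiber B) := by
  let κ := (maximalIdeal A).ResidueField
  let T := (maximalIdeal A).Fiber B
  obtain ⟨e⟩ := closedFibre_equiv_quot A B
  let B₀ := B ⧸ (maximalIdeal A).map (algebraMap A B)
  haveI : Nontrivial B₀ := Ideal.Quotient.nontrivial_iff.mpr (ne_top_of_le_ne_top (maximalIdeal.isMaximal B).ne_top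
    (((local_hom_TFAE (algebraMap A B)).out 0 2).mp (inferInstance : IsLocalHom (algebraMap A B))))
  haveI : IsLocalRing B₀ :=
    IsLocalRing.of_surjective' (Ideal.Quotient.mk ((maximalIdeal A).map (algebraMap A B))) Ideal.Quotient.mk_surjective
  haveI : IsLocalRing T := e.symm.isLocalRing
  haveI : IsNoetherianRing T := isNoetherianRing_of_ringEquiv B₀ e.symm
  refine geometricallyRegular_of_fs fun E _ _ J hJ ψ hψ => ?_
  obtain ⟨N, hN⟩ := hψ
  letI : Algebra A E := ((algebraMap κ E).comp (algebraMap A κ)).toAlgebra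
  haveI : IsScalarTower A κ E := IsScalarTower.of_algebraMap_eq fun _ => rfl
  let inr : B →ₐ[A] T := Algebra.TensorProduct.includeRight
  let k := RingEquiv.ofBijective (algebraMap (A ⧸ maximalIdeal A) κ)
    (maximalIdeal A).bijective_algebraMap_quotient_residueField
  have hsurj : Function.Surjective inr := fun t => by
    induction t using TensorProduct.induction_on with
    | zero => exact ⟨0, map_zero _⟩
    | add x y hx hy =>
      obtain ⟨a, rfl⟩ := hx
      obtain ⟨b, rfl⟩ := hy
      exact ⟨a + b, map_add _ _ _⟩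
    | tmul r b =>
      obtain ⟨q, rfl⟩ := k.surjective r
      obtain ⟨a, rfl⟩ := Ideal.Quotient.mk_surjective q
      refine ⟨a • b, ?_⟩
      show (1 : κ) ⊗ₜ[A] (a • b) = algebraMap A κ a ⊗ₜ[A] b
      rw [tmul_smul, smul_tmul', Algebra.algebraMap_eq_smul_one]
  haveI : IsLocalHom inr.toRingHom := IsLocalHom.of_surjective inr.toRingHom hsurj
  obtain ⟨w, hw⟩ := hfs E J hJ ((ψ.restrictScalars A).comp inr) ⟨N, fun b hb => hN _
    (EGA41Lib.mem_pow_of_forall_mem inr (fun y hy => map_nonunit inr.toRingHom y hy) N b hb)⟩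
  let χ : T →ₐ[κ] E := Algebra.TensorProduct.lift (Algebra.ofId κ E) w fun _ _ => Commute.all _ _
  refine ⟨χ, AlgHom.ext fun t => ?_⟩
  obtain ⟨b, rfl⟩ := hsurj t
  show Ideal.Quotient.mk J (Algebra.TensorProduct.lift (Algebra.ofId κ E) w (fun _ _ => Commute.all _ _) ((1 : κ) ⊗ₜ[A] b)) = _
  rw [Algebra.TensorProduct.lift_tmul, map_one, one_mul]
  exact AlgHom.congr_fun hw b

/-- A map to a complete local ring extends to the completion. -/
theorem exists_cpl_lift {B C : Type u} [CommRing B] [CommRing C] [IsLocalRing B] [IsLocalRing C]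
    [IsAdicComplete (maximalIdeal C) C] (v : B →+* C) (hv : ∀ b ∈ maximalIdeal B, v b ∈ maximalIdeal C) :
    ∃ vh : EGA4.Cpl B →+* C, ∀ b, vh (algebraMap B (EGA4.Cpl B) b) = v b := by
  let I := maximalIdeal B
  let J := maximalIdeal C
  have h1 : ∀ n, I ^ n ≤ (J ^ n).comap v := fun n x hx => EGA41Lib.mem_pow_of_forall_mem v hv n x hx
  let G : ∀ n, EGA4.Cpl B →+* C ⧸ J ^ n := fun n =>
    (Ideal.quotientMap (J ^ n) v (h1 n)).comp (AdicCompletion.evalₐ I n).toRingHom
  have hG : ∀ {i j : ℕ} (hle : i ≤ j), (Ideal.Quotient.factorPow J hle).comp (G j) = G i := by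
    intro i j hle
    refine RingHom.ext fun x => ?_
    obtain ⟨g, rfl⟩ := AdicCompletion.mk_surjective I B x
    simp only [G, RingHom.comp_apply, AlgHom.toRingHom_eq_coe, RingHom.coe_coe, AdicCompletion.evalₐ_mk,
      Ideal.quotientMap_mk]
    show Ideal.Quotient.mk _ (v (g j)) = Ideal.Quotient.mk _ (v (g i))
    rw [Ideal.Quotient.eq, ← map_sub]
    refine h1 i ?_
    simpa using neg_mem (SModEq.sub_mem.1 (g.property hle))
  refine ⟨IsAdicComplete.liftRingHom J G hG, fun b => ?_⟩
  refine sub_eq_zero.1 (IsHausdorff.haus (I := J) (M := C) inferInstance _ fun n => ?_)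
  rw [SModEq.zero, smul_eq_mul, Ideal.mul_top, ← Ideal.Quotient.eq, IsAdicComplete.mk_liftRingHom]
  show Ideal.quotientMap (J ^ n) v (h1 n) (AdicCompletion.evalₐ I n (algebraMap B (EGA4.Cpl B) b)) = _
  rw [AlgHom.commutes]
  exact Ideal.quotientMap_mk

/-- A complete flat algebra with the closed fibre of a formally smooth one is its completion. -/
theorem exists_equiv_cpl_of_fs {A B C : Type u} [CommRing A] [CommRing B] [CommRing C] [IsLocalRing A] [IsLocalRing B]
    [IsLocalRing C] [IsNoetherianRing B] [IsNoetherianRing C] [IsAdicComplete (maximalIdeal C) C] [Algebra A B]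
    [Algebra A C] [IsLocalHom (algebraMap A B)] [Module.Flat A C]
    (hfs : CAlgX.IsAdicFormallySmooth A B (maximalIdeal B))
    [IsLocalRing (B ⧸ (maximalIdeal A).map (algebraMap A B))]
    (ρ : C →+* EGA4.Cpl (B ⧸ (maximalIdeal A).map (algebraMap A B))) (hρ : Function.Surjective ρ)
    (hker : RingHom.ker ρ = (maximalIdeal A).map (algebraMap A C))
    (hρa : ∀ a, ρ (algebraMap A C a) = algebraMap (B ⧸ (maximalIdeal A).map (algebraMap A B))
      (EGA4.Cpl (B ⧸ (maximalIdeal A).map (algebraMap A B)))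
      (Ideal.Quotient.mk ((maximalIdeal A).map (algebraMap A B)) (algebraMap A B a))) :
    Nonempty (EGA4.Cpl B ≃ₐ[A] C) := by
  let mB : Ideal B := (maximalIdeal A).map (algebraMap A B)
  have hmB : mB ≤ maximalIdeal B :=
    ((local_hom_TFAE (algebraMap A B)).out 0 2).mp (inferInstance : IsLocalHom (algebraMap A B))
  let B₀ := B ⧸ mB
  haveI := FlatLoc6.isLocalRing_cpl B₀
  haveI := FlatLoc6.isNoetherianRing_cpl B₀
  haveI := CplFib6.isAdicComplete_cpl B₀
  -- lift `B → B̂₀` to `C`
  let J := RingHom.ker ρ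
  have hJ : J ≠ ⊤ := RingHom.ker_ne_top ρ
  let E := RingHom.quotientKerEquivOfSurjective hρ
  let u₀ : B →+* C ⧸ J := E.symm.toRingHom.comp ((algebraMap B₀ (EGA4.Cpl B₀)).comp (Ideal.Quotient.mk mB))
  have hu₀ : ∀ a, u₀ (algebraMap A B a) = algebraMap A (C ⧸ J) a := fun a => by
    apply E.injective
    show E (E.symm _) = E (Ideal.Quotient.mk J (algebraMap A C a))
    rw [E.apply_symm_apply, RingHom.quotientKerEquivOfSurjective_apply_mk hρ, hρa]
    rfl
  let u : B →ₐ[A] C ⧸ J := { u₀ with commutes' := hu₀ }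
  haveI : Nontrivial (C ⧸ J) := Ideal.Quotient.nontrivial_iff.mpr hJ
  haveI : IsLocalHom ρ := IsLocalHom.of_surjective ρ hρ
  haveI : IsLocalHom (algebraMap B₀ (EGA4.Cpl B₀)) := ((local_hom_TFAE _).out 0 2).mpr
    (AdicCompletion.maximalIdeal_eq_map_of_fg (IsNoetherian.noetherian _)).ge
  haveI : IsLocalHom (Ideal.Quotient.mk mB) := IsLocalHom.of_surjective _ Ideal.Quotient.mk_surjective
  have hu : (maximalIdeal B).map u.toRingHom ≤ (maximalIdeal C).map (Ideal.Quotient.mk J) := by
    rw [Ideal.map_le_iff_le_comap]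
    intro b hb
    obtain ⟨c, hc⟩ := Ideal.Quotient.mk_surjective (u b)
    rw [Ideal.mem_comap]
    show u b ∈ _
    rw [← hc]
    refine Ideal.mem_map_of_mem _ fun hcu => ?_
    have h1 := (hcu.map ρ)
    rw [← RingHom.quotientKerEquivOfSurjective_apply_mk hρ c, hc] at h1
    change IsUnit (E (E.symm _)) at h1
    rw [E.apply_symm_apply] at h1
    change IsUnit (algebraMap B₀ (EGA4.Cpl B₀) (Ideal.Quotient.mk mB b)) at h1
    exact (mem_maximalIdeal b).mp hb (isUnit_of_map_unit _ _ (isUnit_of_map_unit _ _ h1))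
  obtain ⟨v, hvm, hv⟩ := S2462.result ⊥ (maximalIdeal B) ((S4537.result _).mp hfs)
    (by rw [Ideal.map_bot]; exact bot_le) J hJ u hu
  have hρv : ∀ b, ρ (v b) = algebraMap B₀ (EGA4.Cpl B₀) (Ideal.Quotient.mk mB b) := fun b => by
    rw [← RingHom.quotientKerEquivOfSurjective_apply_mk hρ (v b)]
    show E ((Ideal.Quotient.mkₐ A J).comp v b) = _
    rw [hv]
    exact E.apply_symm_apply _
  obtain ⟨vh, hvh⟩ := exists_cpl_lift v.toRingHom fun b hb => hvm (Ideal.mem_map_of_mem v.toRingHom hb)
  haveI := FlatLoc6.isLocalRing_cpl B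
  haveI := FlatLoc6.isNoetherianRing_cpl B
  haveI := CplFib6.isAdicComplete_cpl B
  let Bh := EGA4.Cpl B
  have fgB : (maximalIdeal B).FG := IsNoetherian.noetherian _
  have hmax : maximalIdeal Bh = (maximalIdeal B).map (algebraMap B Bh) :=
    AdicCompletion.maximalIdeal_eq_map_of_fg fgB
  have hcomm : ∀ a, vh (algebraMap A Bh a) = algebraMap A C a := fun a => by
    rw [IsScalarTower.algebraMap_apply A B Bh, hvh]
    exact v.commutes a
  let π : Bh →ₐ[A] C := { vh with commutes' := hcomm }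
  have hvmap : (maximalIdeal Bh).map vh = (maximalIdeal B).map v.toRingHom := by
    rw [hmax, Ideal.map_map]
    exact congrArg (fun f => Ideal.map f (maximalIdeal B)) (RingHom.ext hvh)
  have hmax₀ : maximalIdeal (EGA4.Cpl B₀) = ((maximalIdeal B).map v.toRingHom).map ρ := by
    rw [AdicCompletion.maximalIdeal_eq_map_of_fg (IsNoetherian.noetherian _)]
    refine (congrArg (Ideal.map (algebraMap B₀ (EGA4.Cpl B₀))) (IsLocalRing.map_maximalIdeal_of_surjective
      (Ideal.Quotient.mk mB) Ideal.Quotient.mk_surjective).symm).trans ?_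
    rw [Ideal.map_map, Ideal.map_map]
    exact congrArg (fun f => Ideal.map f (maximalIdeal B)) (RingHom.ext fun b => (hρv b).symm)
  have hmC : maximalIdeal C = (maximalIdeal B).map v.toRingHom := by
    refine le_antisymm (fun x hx => ?_) hvm
    have h1 : ρ x ∈ maximalIdeal (EGA4.Cpl B₀) := map_nonunit ρ x hx
    rw [hmax₀, ← Ideal.mem_comap, Ideal.comap_map_of_surjective' ρ hρ, hker] at h1
    have h2 : (maximalIdeal A).map (algebraMap A C) ≤ (maximalIdeal B).map v.toRingHom := by
      refine le_trans ?_ (Ideal.map_mono hmB)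
      rw [Ideal.map_map]
      exact (congrArg (fun f => Ideal.map f (maximalIdeal A)) (v.comp_algebraMap)).ge
    exact sup_le (le_refl ((maximalIdeal B).map v.toRingHom)) h2 h1
  have hπs : Function.Surjective π := by
    refine PSLib.surjective_of_first_order vh (I := maximalIdeal Bh) (J := maximalIdeal C)
      (IsNoetherian.noetherian _) (IsLocalRing.maximalIdeal_le_jacobson _) (by rw [hvmap, hmC])
      (by rw [hvmap, hmC]; exact le_sup_left) fun c => ?_
    obtain ⟨b₀, hb₀⟩ := CplFib6.exists_sub_mem B₀ (ρ c)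
    obtain ⟨b, rfl⟩ := Ideal.Quotient.mk_surjective b₀
    refine ⟨algebraMap B Bh b, ?_⟩
    rw [hvh]
    show c - v b ∈ _
    intro hu
    rw [← hρv, ← map_sub] at hb₀
    exact (mem_maximalIdeal _).mp hb₀ (hu.map ρ)
  -- the kernel lies in `mB̂`
  let a : Ideal Bh := (maximalIdeal A).map (algebraMap A Bh)
  have hω : ∀ x, ρ (vh x) = 0 → x ∈ a := by
    intro x hx
    have hloc : ∀ y ∈ maximalIdeal Bh, ρ (vh y) ∈ maximalIdeal (EGA4.Cpl B₀) := fun y hy =>
      map_nonunit ρ _ ((hvmap.trans hmC.symm).le (Ideal.mem_map_of_mem vh hy))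
    have hclosed : ∀ N, x ∈ a ⊔ maximalIdeal Bh ^ N := by
      intro N
      obtain ⟨b, hb⟩ := CplFib6.exists_sub_mem_pow B N x
      rw [Ideal.map_pow, ← hmax] at hb
      have h1 := EGA41Lib.mem_pow_of_forall_mem (ρ.comp vh) hloc N _ hb
      rw [RingHom.comp_apply, map_sub, map_sub, hx, zero_sub, neg_mem_iff, hvh] at h1
      change ρ (v b) ∈ _ at h1
      rw [hρv, AdicCompletion.maximalIdeal_eq_map_of_fg (IsNoetherian.noetherian _), ← Ideal.map_pow,
        ← Ideal.mem_comap] at h1
      haveI := FlatLoc6.faithfullyFlat_cpl B₀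
      rw [Ideal.comap_map_eq_self_of_faithfullyFlat,
        ← IsLocalRing.map_maximalIdeal_of_surjective (Ideal.Quotient.mk mB) Ideal.Quotient.mk_surjective,
        ← Ideal.map_pow, ← Ideal.mem_comap, Ideal.comap_map_of_surjective' _ Ideal.Quotient.mk_surjective,
        Ideal.mk_ker] at h1
      have h2 := Ideal.mem_map_of_mem (algebraMap B Bh) h1
      rw [Ideal.map_sup, Ideal.map_pow, ← hmax, Ideal.map_map, ← IsScalarTower.algebraMap_eq, sup_comm] at h2
      have h3 := add_mem (Submodule.mem_sup_right (S := a) hb) h2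
      rwa [sub_add_cancel] at h3
    rw [← Ideal.Quotient.eq_zero_iff_mem]
    haveI : IsHausdorff (maximalIdeal Bh) (Bh ⧸ a) :=
      IsHausdorff.of_le_jacobson _ _ (IsLocalRing.maximalIdeal_le_jacobson _)
    refine IsHausdorff.haus (I := maximalIdeal Bh) (M := Bh ⧸ a) inferInstance _ fun N => ?_
    rw [SModEq.zero, Ideal.smul_top_eq_map, Submodule.restrictScalars_mem]
    show Ideal.Quotient.mk a x ∈ (maximalIdeal Bh ^ N).map (Ideal.Quotient.mk a)
    rw [← Ideal.mem_comap, Ideal.comap_map_of_surjective' _ Ideal.Quotient.mk_surjective, Ideal.mk_ker, sup_comm]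
    exact hclosed N
  haveI : IsLocalHom (algebraMap B Bh) := ((local_hom_TFAE _).out 0 2).mpr hmax.ge
  have ha : a ≤ (⊥ : Ideal Bh).jacobson := by
    refine le_trans ?_ (IsLocalRing.maximalIdeal_le_jacobson _)
    rw [hmax]
    show Ideal.map _ _ ≤ _
    rw [IsScalarTower.algebraMap_eq A B Bh, ← Ideal.map_map]
    exact Ideal.map_mono hmB
  have hinj : RingHom.ker π = ⊥ := by
    refine Submodule.eq_bot_of_le_smul_of_le_jacobson_bot a (RingHom.ker π) (IsNoetherian.noetherian _)
      (fun x hx => ?_) ha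
    rw [smul_eq_mul]
    refine mem_map_mul_ker_of_flat π hπs (maximalIdeal A) hx (hω x ?_)
    rw [show vh x = 0 from hx, map_zero]
  exact ⟨AlgEquiv.ofBijective π ⟨(RingHom.injective_iff_ker_eq_bot π.toRingHom).mpr hinj, hπs⟩⟩

/-- Formal smoothness implies flatness. -/
theorem flat_of_fs {A B : Type u} [CommRing A] [CommRing B] [IsLocalRing A] [IsLocalRing B]
    [IsNoetherianRing A] [IsNoetherianRing B] [Algebra A B] [IsLocalHom (algebraMap A B)]
    (hfs : CAlgX.IsAdicFormallySmooth A B (maximalIdeal B)) : Module.Flat A B := by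
  let mB : Ideal B := (maximalIdeal A).map (algebraMap A B)
  have hmB : mB ≤ maximalIdeal B :=
    ((local_hom_TFAE (algebraMap A B)).out 0 2).mp (inferInstance : IsLocalHom (algebraMap A B))
  let B₀ := B ⧸ mB
  haveI : Nontrivial B₀ := Ideal.Quotient.nontrivial_iff.mpr (ne_top_of_le_ne_top (maximalIdeal.isMaximal B).ne_top hmB)
  haveI : IsLocalRing B₀ := IsLocalRing.of_surjective' (Ideal.Quotient.mk mB) Ideal.Quotient.mk_surjective
  haveI : IsRegularLocalRing B₀ := by
    obtain ⟨e⟩ := closedFibre_equiv_quot A B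
    haveI := FlatLoc6.isRegularRing_of_geometricallyRegular (geometricallyRegular_fibre_of_fs hfs)
    haveI : IsLocalRing ((maximalIdeal A).Fiber B) := e.symm.isLocalRing
    haveI : IsRegularLocalRing ((maximalIdeal A).Fiber B) := IsRegularLocalRing.of_isRegularRing_of_isLocalRing _
    exact IsRegularLocalRing.of_ringEquiv e
  letI : Algebra (ResidueField A) B₀ := (Ideal.Quotient.lift (maximalIdeal A)
    ((Ideal.Quotient.mk mB).comp (algebraMap A B)) fun a ha =>
      Ideal.Quotient.eq_zero_iff_mem.mpr (Ideal.mem_map_of_mem _ ha)).toAlgebra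
  haveI := FlatLoc6.isLocalRing_cpl B₀
  haveI := FlatLoc6.isNoetherianRing_cpl B₀
  haveI := CplFib6.isAdicComplete_cpl B₀
  haveI : IsRegularLocalRing (EGA4.Cpl B₀) := (S0548.result B₀).1 inferInstance
  obtain ⟨C, _, _, _, _, _, ρ, hC, hflat, hρ, hker, hρa⟩ := exists_flat_complete_lift A (EGA4.Cpl B₀)
  haveI := hC
  haveI := hflat
  obtain ⟨e⟩ := exists_equiv_cpl_of_fs hfs ρ hρ hker fun a => hρa a
  haveI : Module.Flat A (EGA4.Cpl B) := Module.Flat.of_linearEquiv e.toLinearEquiv
  haveI := FlatLoc6.faithfullyFlat_cpl B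
  exact SmallFlat.flat_of_faithfullyFlat_tower A B (EGA4.Cpl B)

/-- The criterion for local homomorphisms. -/
theorem fs_iff_flat_and_geometricallyRegular {A B : Type u} [CommRing A] [CommRing B] [IsLocalRing A] [IsLocalRing B]
    [IsNoetherianRing A] [IsNoetherianRing B] [Algebra A B] [IsLocalHom (algebraMap A B)] :
    CAlgX.IsAdicFormallySmooth A B (maximalIdeal B) ↔
      (Module.Flat A B ∧
        CAlg.IsGeometricallyRegular (maximalIdeal A).ResidueField ((maximalIdeal A).Fiber B)) :=
  ⟨fun h => ⟨flat_of_fs h, geometricallyRegular_fibre_of_fs h⟩,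
    fun ⟨_, h⟩ => fs_of_flat_of_geometricallyRegular h⟩

end Groth.Agent.RegFS6
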