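import Groth.Agent.CohenLib.PowerSeries
import Groth.Agent.LocalCrit.Flatness
import Groth.Agent.FlatLoc6.Miracle
import Groth.Agent.S0546
import Mathlib.RingTheory.MvPowerSeries.Rename

/-!
# Killing some variables of a power series ring
-/

set_option linter.style.haveILetI false

namespace Groth.Agent.RegFS6

universe u

open IsLocalRing RingTheory.Sequence

/-- The ideal of some of the variables, by coefficients. -/
theorem mem_span_X_of_coeff {σ R : Type*} [CommRing R] [DecidableEq σ] (s : Finset σ) :
    ∀ f : MvPowerSeries σ R, (∀ d : σ →₀ ℕ, (∀ i ∈ s, d i = 0) → MvPowerSeries.coeff d f = 0) →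
      f ∈ Ideal.span ((fun i => MvPowerSeries.X i) '' (s : Set σ)) := by
  induction s using Finset.induction_on with
  | empty =>
    intro f hf
    rw [show f = 0 from MvPowerSeries.ext fun d => by rw [map_zero]; exact hf d (by simp)]
    exact zero_mem _
  | insert a s ha ih =>
    intro f hf
    let f₁ : MvPowerSeries σ R := fun d => if d a = 0 then MvPowerSeries.coeff d f else 0
    have hc : ∀ d, MvPowerSeries.coeff d f₁ = if d a = 0 then MvPowerSeries.coeff d f else 0 := fun d => rfl
    have h1 : f₁ ∈ Ideal.span ((fun i => MvPowerSeries.X i) '' (s : Set σ)) := ih f₁ fun d hd => by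
      rw [hc]
      split_ifs with h
      · exact hf d fun i hi => by
          rcases Finset.mem_insert.mp hi with rfl | hi
          · exact h
          · exact hd i hi
      · rfl
    have h2 : MvPowerSeries.X a ∣ f - f₁ := by
      rw [MvPowerSeries.X_dvd_iff]
      intro d hd
      rw [map_sub, hc, if_pos hd, sub_self]
    obtain ⟨g, hg⟩ := h2
    rw [show f = f₁ + (f - f₁) by ring, hg]
    refine add_mem (Ideal.span_mono (Set.image_mono ?_) h1) (Ideal.mul_mem_right _ _ (Ideal.subset_span ?_))
    · simp
    · exact ⟨a, by simp, rfl⟩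

/-- Coefficients free of the variables in the ideal vanish. -/
theorem coeff_eq_zero_of_mem_span_X {σ R : Type*} [CommRing R] (s : Set σ) {f : MvPowerSeries σ R}
    (hf : f ∈ Ideal.span ((fun i => MvPowerSeries.X i) '' s)) :
    ∀ d : σ →₀ ℕ, (∀ i ∈ s, d i = 0) → MvPowerSeries.coeff d f = 0 := by
  classical
  induction hf using Submodule.span_induction with
  | mem x hx =>
    obtain ⟨i, hi, rfl⟩ := hx
    intro d hd
    rw [MvPowerSeries.coeff_X, if_neg]
    rintro rfl
    simpa using hd i hi
  | zero => intro d _; rw [map_zero]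
  | add x y _ _ hx hy => intro d hd; rw [map_add, hx d hd, hy d hd, add_zero]
  | smul a x _ hx =>
    intro d hd
    rw [smul_eq_mul, MvPowerSeries.coeff_mul]
    refine Finset.sum_eq_zero fun p hp => ?_
    rw [Finset.HasAntidiagonal.mem_antidiagonal] at hp
    rw [hx p.2 fun i hi => ?_, mul_zero]
    have := hd i hi
    rw [← hp, Finsupp.add_apply] at this
    omega

/-- Some variables followed by constants regular on the coefficients form a regular sequence. -/
theorem isWeaklyRegular_vars_append (Λ : Type u) [CommRing Λ] (n m : ℕ) (l : List Λ) (hl : l = [] ∨ ∃ c, l = [c] ∧ IsSMulRegular Λ c) :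
    IsWeaklyRegular (MvPowerSeries (Fin (n + m)) Λ)
      ((List.ofFn fun i : Fin n => MvPowerSeries.X (Fin.castAdd m i)) ++ l.map MvPowerSeries.C) := by
  classical
  let R := MvPowerSeries (Fin (n + m)) Λ
  let L : List R := List.ofFn fun i : Fin n => MvPowerSeries.X (Fin.castAdd m i)
  let S : ℕ → Finset (Fin (n + m)) := fun j => Finset.univ.filter fun t => (t : ℕ) < j
  have hof : ∀ j, j ≤ n → Ideal.ofList (L.take j) = Ideal.span ((fun i => MvPowerSeries.X i) '' (S j : Set (Fin (n + m)))) := by
    intro j hj
    rw [Ideal.ofList]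
    congr 1
    ext x
    simp only [Set.mem_setOf_eq, List.mem_take_iff_getElem, L, List.getElem_ofFn, List.length_ofFn,
      Set.mem_image, S, Finset.coe_filter, Finset.mem_univ, true_and]
    constructor
    · rintro ⟨i, hi, rfl⟩
      exact ⟨Fin.castAdd m ⟨i, by omega⟩, by simp; omega, rfl⟩
    · rintro ⟨i, hi, rfl⟩
      exact ⟨i, by omega, rfl⟩
  have hmod : ∀ j, j ≤ n → ∀ (c : R) (hc : ∀ g : R, (∀ d, (∀ i ∈ S j, d i = 0) → MvPowerSeries.coeff d (c * g) = 0) →
      ∀ d, (∀ i ∈ S j, d i = 0) → MvPowerSeries.coeff d g = 0),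
      IsSMulRegular (R ⧸ (Ideal.ofList (L.take j) • ⊤ : Submodule R R)) c := by
    intro j hj c hc
    rw [isSMulRegular_iff_right_eq_zero_of_smul]
    intro x hx
    obtain ⟨g, rfl⟩ := Submodule.Quotient.mk_surjective _ x
    rw [← Submodule.Quotient.mk_smul, Submodule.Quotient.mk_eq_zero, smul_eq_mul, smul_eq_mul, Ideal.mul_top,
      hof j hj] at hx
    rw [Submodule.Quotient.mk_eq_zero, smul_eq_mul, Ideal.mul_top, hof j hj]
    exact mem_span_X_of_coeff _ g (hc g (coeff_eq_zero_of_mem_span_X _ hx))
  rw [isWeaklyRegular_append_iff]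
  constructor
  · refine ⟨fun j hj => ?_⟩
    rw [List.length_ofFn] at hj
    refine hmod j hj.le _ fun g hg d hd => ?_
    have h1 := hg (d + Finsupp.single (Fin.castAdd m ⟨j, hj⟩) 1) fun i hi => by
      have hne : Fin.castAdd m ⟨j, hj⟩ ≠ i := by
        rintro rfl
        simp [S] at hi
      rw [Finsupp.add_apply, hd i hi, Finsupp.single_eq_of_ne' hne, add_zero]
    rw [List.getElem_ofFn, mul_comm, MvPowerSeries.X_def, MvPowerSeries.coeff_add_mul_monomial, mul_one] at h1
    exact h1
  · have htake : L.take n = L := List.take_of_length_le (by simp [L])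
    rcases hl with rfl | ⟨c, rfl, hc⟩
    · exact IsWeaklyRegular.nil _ _
    · rw [List.map_singleton, isWeaklyRegular_singleton_iff]
      have := hmod n le_rfl (MvPowerSeries.C c) fun g hg d hd => by
        have h1 := hg d hd
        rw [MvPowerSeries.coeff_C_mul] at h1
        exact hc.right_eq_zero_of_smul (by rw [smul_eq_mul]; exact h1)
      rwa [htake] at this

end Groth.Agent.RegFS6
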