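import Groth.Agent.CoeffField.AdicSmooth
import Groth.Agent.EGA41Lib.Adic
import Groth.Agent.FlatLoc6.Cpl
import Groth.Agent.CplFib6.Setup
import Groth.Agent.CplFib6.CplFinite
import Groth.Agent.S0548
import Groth.Prelude.Def_CAlgX

/-!
# Formal smoothness over a perfect field
-/

namespace Groth.Agent.RegFS6

universe u

open IsLocalRing

/-- An injective ring endomorphism from a surjective one. -/
theorem injective_of_surjective_endo {R : Type u} [CommRing R] [IsNoetherianRing R] (h : R →+* R)
    (hs : Function.Surjective h) : Function.Injective h := by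
  let K : ℕ →o Ideal R := ⟨fun j => RingHom.ker (h ^ j : R →+* R), monotone_nat_of_le_succ fun j x hx => by
    rw [RingHom.mem_ker] at hx ⊢
    rw [RingHom.coe_pow, Function.iterate_succ_apply'] at *
    rw [hx, map_zero]⟩
  obtain ⟨N, hN⟩ := monotone_stabilizes_iff_noetherian.mpr ‹IsNoetherianRing R› K
  rw [injective_iff_map_eq_zero]
  intro x hx
  obtain ⟨y, rfl⟩ : ∃ y, (h ^ N : R →+* R) y = x := by
    rw [RingHom.coe_pow]
    exact (hs.iterate N) x
  have h1 : y ∈ K (N + 1) := by
    show (h ^ (N + 1) : R →+* R) y = 0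
    rw [RingHom.coe_pow, Function.iterate_succ_apply']
    rw [RingHom.coe_pow] at hx
    exact hx
  rw [← hN (N + 1) N.le_succ] at h1
  exact h1

variable (P : Type u) [Field P] [PerfectField P]

/-- A complete local algebra over a perfect field is covered by power series over its residue field,
with variables going to a minimal system of generators. -/
theorem exists_ps_hom (R : Type u) [CommRing R] [IsLocalRing R] [IsNoetherianRing R]
    [IsAdicComplete (maximalIdeal R) R] [Algebra P R] :
    ∃ (n : ℕ) (ψ : MvPowerSeries (Fin n) (ResidueField R) →ₐ[P] R), Function.Surjective ψ ∧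
      n = (maximalIdeal R).spanFinrank ∧
      Ideal.span (Set.range fun i => ψ (MvPowerSeries.X i)) = maximalIdeal R := by
  classical
  obtain ⟨σ, hσ⟩ := CoeffField.exists_section P R
  letI : Algebra (ResidueField R) R := σ.toRingHom.toAlgebra
  haveI : IsScalarTower P (ResidueField R) R := IsScalarTower.of_algebraMap_eq fun x => (σ.commutes x).symm
  obtain ⟨s, hs, hspan⟩ := Submodule.FG.exists_span_finset_card_eq_spanFinrank
    (IsNoetherian.noetherian (maximalIdeal R))
  let b : Fin s.card → R := fun i => (s.equivFin.symm i : R)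
  have hrange : Set.range b = (s : Set R) := by
    ext x
    constructor
    · rintro ⟨i, rfl⟩; exact (s.equivFin.symm i).2
    · intro hx; exact ⟨s.equivFin ⟨x, hx⟩, by simp [b]⟩
  have hb : ∀ i, b i ∈ maximalIdeal R := fun i =>
    hspan ▸ Submodule.subset_span (hrange ▸ Set.mem_range_self i)
  obtain ⟨ψ, hψ⟩ := PSLib.exists_algHom (R := ResidueField R) (maximalIdeal R) b hb
  have hgen : Ideal.span (Set.range fun i => ψ (MvPowerSeries.X i)) = maximalIdeal R := by
    rw [funext hψ, hrange]; exact hspan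
  exact ⟨s.card, ψ.restrictScalars P,
    PSLib.surjective_of_span (fun x => ⟨x, hσ x⟩) ψ (fun i => hψ i ▸ hb i) (hgen.ge.trans le_sup_left), hs, hgen⟩

/-- The kernel of a minimal cover is of second order. -/
theorem mem_vars_sq_of_minimal {F R : Type u} [Field F] [CommRing R] [IsLocalRing R] [IsNoetherianRing R] {n : ℕ}
    (ψ : MvPowerSeries (Fin n) F →+* R) (hn : n = (maximalIdeal R).spanFinrank)
    (hgen : Ideal.span (Set.range fun i => ψ (MvPowerSeries.X i)) = maximalIdeal R)
    (f : MvPowerSeries (Fin n) F) (hf : ψ f ∈ maximalIdeal R ^ 2) : f ∈ PSLib.vars n F ^ 2 := by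
  classical
  have hvm : (PSLib.vars n F).map ψ = maximalIdeal R := by
    rw [PSLib.vars, Ideal.map_span, ← Set.range_comp]
    exact hgen
  have hf1 : f ∈ PSLib.vars n F := by
    rw [← PSLib.maximalIdeal_eq_vars, mem_maximalIdeal]
    exact fun hu => (mem_maximalIdeal _).mp (Ideal.pow_le_self two_ne_zero hf) (hu.map ψ)
  obtain ⟨c, hc⟩ := (Submodule.mem_span_range_iff_exists_fun _).mp hf1
  have hmem : ∀ i, c i ∈ PSLib.vars n F := by
    intro i
    by_contra hi
    rw [← PSLib.maximalIdeal_eq_vars, mem_maximalIdeal, mem_nonunits_iff, not_not] at hi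
    let b : Fin n → R := fun j => ψ (MvPowerSeries.X j)
    let N : Ideal R := Ideal.span ((Finset.univ.erase i).image b : Set R)
    have hsum : ψ f = ψ (c i) * b i + ∑ j ∈ Finset.univ.erase i, ψ (c j) * b j := by
      rw [← hc, map_sum, ← Finset.add_sum_erase _ _ (Finset.mem_univ i)]
      simp [b]
    have hbi : b i ∈ N ⊔ maximalIdeal R ^ 2 := by
      refine (Ideal.unit_mul_mem_iff_mem _ (hi.map ψ)).mp ?_
      rw [show ψ (c i) * b i = ψ f - ∑ j ∈ Finset.univ.erase i, ψ (c j) * b j by rw [hsum]; ring]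
      refine sub_mem (Submodule.mem_sup_right hf) (Submodule.mem_sup_left (Ideal.sum_mem _ fun j hj => ?_))
      exact Ideal.mul_mem_left _ _ (Ideal.subset_span (Finset.mem_coe.mpr (Finset.mem_image_of_mem _ hj)))
    have hle : maximalIdeal R ≤ N := by
      refine Submodule.le_of_le_smul_of_le_jacobson_bot (IsNoetherian.noetherian _)
        (maximalIdeal_le_jacobson (⊥ : Ideal R)) ?_
      rw [smul_eq_mul, ← sq]
      conv_lhs => rw [← hgen]
      rw [Ideal.span_le]
      rintro _ ⟨j, rfl⟩
      rcases eq_or_ne j i with rfl | hji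
      · exact hbi
      · exact Submodule.mem_sup_left (Ideal.subset_span (Finset.mem_coe.mpr
          (Finset.mem_image_of_mem _ (Finset.mem_erase.mpr ⟨hji, Finset.mem_univ j⟩))))
    have heq : N = maximalIdeal R := le_antisymm (by
      rw [Ideal.span_le, ← hgen]
      intro x hx
      obtain ⟨j, -, rfl⟩ := Finset.mem_image.mp (Finset.mem_coe.mp hx)
      exact Ideal.subset_span ⟨j, rfl⟩) hle
    have h1 : (maximalIdeal R).spanFinrank ≤ ((Finset.univ.erase i).image b).card := by
      rw [← heq]
      exact (Submodule.spanFinrank_span_le_ncard_of_finite (Finset.finite_toSet _)).trans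
        (by rw [Set.ncard_coe_finset])
    have h2 := h1.trans Finset.card_image_le
    rw [← hn, Finset.card_erase_of_mem (Finset.mem_univ i), Finset.card_univ, Fintype.card_fin] at h2
    have := i.pos
    omega
  rw [← hc, pow_two]
  exact Ideal.sum_mem _ fun i _ => Ideal.mul_mem_mul (hmem i) (Ideal.subset_span ⟨i, rfl⟩)

/-- A regular local algebra over a perfect field is formally smooth. -/
theorem fs_of_regular (A : Type u) [CommRing A] [IsRegularLocalRing A] [Algebra P A] :
    CAlgX.IsAdicFormallySmooth P A (maximalIdeal A) := by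
  intro E _ _ J hJ u hu
  obtain ⟨k, hk⟩ := hu
  haveI := FlatLoc6.isLocalRing_cpl A
  haveI := FlatLoc6.isNoetherianRing_cpl A
  haveI := CplFib6.isAdicComplete_cpl A
  haveI : IsRegularLocalRing (EGA4.Cpl A) := (S0548.result A).1 inferInstance
  obtain ⟨n, ψ, hs, hn, hgen⟩ := exists_ps_hom P (EGA4.Cpl A)
  have hbij : Function.Bijective ψ := PSLib.bijective_of_surjective _ n ψ.toRingHom hs (by
    rw [← IsRegularLocalRing.spanFinrank_maximalIdeal, hn])
  let e := AlgEquiv.ofBijective ψ hbij
  let u' : (A ⧸ maximalIdeal A ^ k) →ₐ[P] E ⧸ J := Ideal.Quotient.liftₐ _ u hk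
  let φ : EGA4.Cpl A →ₐ[P] E ⧸ J := u'.comp ((AdicCompletion.evalₐ (maximalIdeal A) k).restrictScalars P)
  have hφ : ∀ x ∈ maximalIdeal (EGA4.Cpl A) ^ k, φ x = 0 := by
    intro x hx
    rw [AdicCompletion.maximalIdeal_eq_map_of_fg (IsNoetherian.noetherian _), ← Ideal.map_pow] at hx
    have : AdicCompletion.evalₐ (maximalIdeal A) k x = 0 := by
      refine (Ideal.map_le_iff_le_comap (K := RingHom.ker (AdicCompletion.evalₐ (maximalIdeal A) k).toRingHom)).mpr
        (fun a ha => ?_) hx
      show AdicCompletion.evalₐ (maximalIdeal A) k (algebraMap A _ a) = 0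
      rw [AlgHom.commutes]
      exact Ideal.Quotient.eq_zero_iff_mem.mpr ha
    show u' (AdicCompletion.evalₐ (maximalIdeal A) k x) = 0
    rw [this, map_zero]
  haveI : Algebra.FormallySmooth P (ResidueField (EGA4.Cpl A)) := CoeffField.formallySmooth_of_perfectField P _
  obtain ⟨χ, hχ⟩ := CoeffField.lift_powerSeries (k := P) (K := ResidueField (EGA4.Cpl A)) n E J hJ
    (φ.comp e.toAlgHom) ⟨k, fun x hx => hφ _ (EGA41Lib.mem_pow_of_forall_mem e (fun y hy => by
      rw [mem_maximalIdeal] at hy ⊢
      exact fun hu => hy (by simpa using hu.map e.symm)) k x hx)⟩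
  refine ⟨(χ.comp e.symm.toAlgHom).comp (IsScalarTower.toAlgHom P A (EGA4.Cpl A)), AlgHom.ext fun a => ?_⟩
  have h1 := AlgHom.congr_fun hχ (e.symm (algebraMap A (EGA4.Cpl A) a))
  refine h1.trans ?_
  show φ (e (e.symm (algebraMap A (EGA4.Cpl A) a))) = u a
  rw [e.apply_symm_apply]
  show u' (AdicCompletion.evalₐ (maximalIdeal A) k (algebraMap A _ a)) = _
  rw [AlgHom.commutes]
  rfl

/-- A formally smooth local algebra over a perfect field is regular. -/
theorem regular_of_fs (A : Type u) [CommRing A] [IsLocalRing A] [IsNoetherianRing A] [Algebra P A]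
    (hfs : CAlgX.IsAdicFormallySmooth P A (maximalIdeal A)) : IsRegularLocalRing A := by
  haveI := FlatLoc6.isLocalRing_cpl A
  haveI := FlatLoc6.isNoetherianRing_cpl A
  haveI := CplFib6.isAdicComplete_cpl A
  obtain ⟨n, ψ, hs, hn, hgen⟩ := exists_ps_hom P (EGA4.Cpl A)
  let F := ResidueField (EGA4.Cpl A)
  have fg : (maximalIdeal A).FG := IsNoetherian.noetherian _
  have hmk : ∀ k, (maximalIdeal (EGA4.Cpl A) ^ k) =
      (maximalIdeal A ^ k).map (algebraMap A (EGA4.Cpl A)) := fun k => by
    rw [AdicCompletion.maximalIdeal_eq_map_of_fg fg, Ideal.map_pow]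
  have hloc : ∀ f, f ∈ PSLib.vars n F → ψ f ∈ maximalIdeal (EGA4.Cpl A) := fun f hf => by
    rw [← hgen]
    have h1 : (PSLib.vars n F).map ψ.toRingHom = Ideal.span (Set.range fun i => ψ (MvPowerSeries.X i)) := by
      rw [PSLib.vars, Ideal.map_span, ← Set.range_comp]
      rfl
    rw [← h1]
    exact Ideal.mem_map_of_mem ψ.toRingHom hf
  have key : ∀ k, ∀ f, ψ f ∈ maximalIdeal (EGA4.Cpl A) ^ (k + 2) → f ∈ PSLib.vars n F ^ (k + 2) := by
    intro k
    set N := k + 2 with hN
    let W := MvPowerSeries (Fin n) F ⧸ PSLib.vars n F ^ N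
    let V : Ideal W := (PSLib.vars n F).map (Ideal.Quotient.mk (PSLib.vars n F ^ N))
    have hVN : V ^ N = ⊥ := by rw [← Ideal.map_pow, Ideal.map_quotient_self]
    let eN : EGA4.Cpl A →ₐ[P] A ⧸ maximalIdeal A ^ N :=
      (AdicCompletion.evalₐ (maximalIdeal A) N).restrictScalars P
    have heN : ∀ x ∈ maximalIdeal (EGA4.Cpl A) ^ N, eN x = 0 := fun x hx => by
      rw [hmk] at hx
      refine (Ideal.map_le_iff_le_comap (K := RingHom.ker eN.toRingHom)).mpr (fun a ha => ?_) hx
      show AdicCompletion.evalₐ (maximalIdeal A) N (algebraMap A _ a) = 0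
      rw [AlgHom.commutes]
      exact Ideal.Quotient.eq_zero_iff_mem.mpr ha
    let q : W →ₐ[P] A ⧸ maximalIdeal A ^ N := Ideal.Quotient.liftₐ _ (eN.comp ψ) fun x hx =>
      heN _ (EGA41Lib.mem_pow_of_forall_mem ψ hloc N x hx)
    have hq : ∀ f, q (Ideal.Quotient.mk _ f) = eN (ψ f) := fun f => rfl
    have hqs : Function.Surjective q := fun y => by
      obtain ⟨a, rfl⟩ := Ideal.Quotient.mk_surjective y
      obtain ⟨f, hf⟩ := hs (algebraMap A (EGA4.Cpl A) a)
      refine ⟨Ideal.Quotient.mk _ f, ?_⟩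
      rw [hq, hf]
      exact (AdicCompletion.evalₐ (maximalIdeal A) N).commutes a
    have hqker : ∀ f, q (Ideal.Quotient.mk _ f) = 0 → f ∈ PSLib.vars n F ^ 2 := by
      intro f hf
      refine mem_vars_sq_of_minimal ψ.toRingHom hn hgen f ?_
      rw [hq] at hf
      obtain ⟨a, ha⟩ := CplFib6.exists_sub_mem_pow A N (ψ f)
      have h2 : ψ f ∈ maximalIdeal (EGA4.Cpl A) ^ N := by
        rw [← hmk] at ha
        have h1 := heN _ ha
        rw [map_sub, hf, zero_sub, neg_eq_zero] at h1
        have h3 : a ∈ maximalIdeal A ^ N :=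
          Ideal.Quotient.eq_zero_iff_mem.mp (((AdicCompletion.evalₐ (maximalIdeal A) N).commutes a).symm.trans h1)
        have h4 := add_mem ha ((hmk N).ge (Ideal.mem_map_of_mem (algebraMap A (EGA4.Cpl A)) h3))
        rwa [sub_add_cancel] at h4
      exact Ideal.pow_le_pow_right (by omega) h2
    let e := Ideal.quotientKerAlgEquivOfSurjective hqs
    have hJ : IsNilpotent (RingHom.ker q) := by
      refine ⟨N, ?_⟩
      rw [Ideal.zero_eq_bot, eq_bot_iff, ← hVN]
      refine Ideal.pow_right_mono (fun w hw => ?_) N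
      obtain ⟨f, rfl⟩ := Ideal.Quotient.mk_surjective w
      exact Ideal.mem_map_of_mem _ (Ideal.pow_le_self two_ne_zero (hqker f hw))
    obtain ⟨g, hg⟩ := EGA41Lib.lift_of_isAdicFormallySmooth hfs (RingHom.ker q) hJ
      (e.symm.toAlgHom.comp (Ideal.Quotient.mkₐ P (maximalIdeal A ^ N)))
      ⟨N, fun x hx => by
        show e.symm (Ideal.Quotient.mk _ x) = 0
        rw [Ideal.Quotient.eq_zero_iff_mem.mpr hx, map_zero]⟩
    have hqg : ∀ a, q (g a) = Ideal.Quotient.mk _ a := fun a => by
      have h1 := congrArg e (AlgHom.congr_fun hg a)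
      rw [AlgHom.comp_apply, AlgHom.comp_apply] at h1
      simpa [e] using h1
    have hgm : ∀ a ∈ maximalIdeal A, g a ∈ V := by
      intro a ha
      obtain ⟨f, hf⟩ := Ideal.Quotient.mk_surjective (g a)
      rw [← hf]
      refine Ideal.mem_map_of_mem _ ?_
      rw [← PSLib.maximalIdeal_eq_vars, mem_maximalIdeal]
      intro hu
      have h1 := (hu.map (Ideal.Quotient.mk (PSLib.vars n F ^ N))).map q
      rw [hf, hqg] at h1
      haveI : Nontrivial (A ⧸ maximalIdeal A ^ N) := Ideal.Quotient.nontrivial_iff.mpr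
        (ne_top_of_le_ne_top (maximalIdeal.isMaximal A).ne_top (Ideal.pow_le_self (by omega)))
      haveI : IsLocalRing (A ⧸ maximalIdeal A ^ N) :=
        IsLocalRing.of_surjective' (Ideal.Quotient.mk _) Ideal.Quotient.mk_surjective
      haveI : IsLocalHom (Ideal.Quotient.mk (maximalIdeal A ^ N)) := IsLocalHom.of_surjective _ Ideal.Quotient.mk_surjective
      exact (mem_maximalIdeal a).mp ha (isUnit_of_map_unit _ a h1)
    let g' : (A ⧸ maximalIdeal A ^ N) →ₐ[P] W := Ideal.Quotient.liftₐ _ g fun x hx => by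
      have h1 := EGA41Lib.mem_pow_of_forall_mem g hgm N x hx
      rwa [hVN, Ideal.mem_bot] at h1
    let h : W →+* W := (g'.comp q).toRingHom
    have hcong : ∀ w, q (h w) = q w := fun w => by
      obtain ⟨a, ha⟩ := Ideal.Quotient.mk_surjective (q w)
      show q (g' (q w)) = q w
      rw [← ha]
      exact hqg a
    have hsub : ∀ w, w - h w ∈ V ^ 2 := fun w => by
      obtain ⟨f, hf⟩ := Ideal.Quotient.mk_surjective (w - h w)
      rw [← hf, ← Ideal.map_pow]
      refine Ideal.mem_map_of_mem _ (hqker f ?_)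
      rw [hf, map_sub, hcong, sub_self]
    have hsurj : Function.Surjective h := by
      haveI := CoeffField.isAdicComplete_of_pow_eq_bot hVN
      refine PSLib.surjective_of_first_order h (I := V) (J := V)
        (IsNoetherian.noetherian V) (IsAdicComplete.le_jacobson_bot _) ?_ ?_ ?_
      · rw [Ideal.map_le_iff_le_comap]
        intro w hw
        have := sub_mem hw (Ideal.pow_le_self two_ne_zero (hsub w))
        simpa using this
      · intro w hw
        refine Submodule.mem_sup.mpr ⟨h w, Ideal.mem_map_of_mem h hw, w - h w, hsub w, add_sub_cancel _ _⟩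
      · exact fun b => ⟨b, Ideal.pow_le_self two_ne_zero (hsub b)⟩
    have hinj := injective_of_surjective_endo h hsurj
    intro f hf
    rw [← Ideal.Quotient.eq_zero_iff_mem]
    refine hinj ?_
    rw [map_zero]
    show g' (q (Ideal.Quotient.mk _ f)) = 0
    rw [hq, heN _ hf, map_zero]
  have hbij : Function.Bijective ψ := ⟨(injective_iff_map_eq_zero ψ).mpr fun f hf =>
    PSLib.eq_zero_of_forall_mem_pow fun N => Ideal.pow_le_pow_right (Nat.le_add_right N 2)
      (key N f (by rw [hf]; exact zero_mem _)), hs⟩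
  haveI := PSLib.isRegularLocalRing F n
  haveI : IsRegularLocalRing (EGA4.Cpl A) :=
    IsRegularLocalRing.of_ringEquiv (RingEquiv.ofBijective ψ.toRingHom hbij)
  exact (S0548.result A).2 inferInstance

end Groth.Agent.RegFS6
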