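import Groth.Agent.RegFS6.Field
import Groth.Agent.EGA41Lib.FieldFS
import Groth.Agent.SmoothingLib.GeomFrameBasic

/-!
# Formal smoothness when the residue field is separable
-/

set_option linter.style.haveILetI false

namespace Groth.Agent.RegFS6

universe u

open IsLocalRing TensorProduct

attribute [local instance 10000] Ring.toIntAlgebra

/-- Derivations extend along formally smooth field extensions. -/
theorem exists_derivation_extend_of_formallySmooth {k K F : Type u} [Field k] [Field K] [Field F] [Algebra k K]
    [Algebra k F] [Algebra K F] [IsScalarTower k K F] [Algebra.FormallySmooth k K] (δ : Derivation ℤ k F) :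
    ∃ D : Derivation ℤ K F, ∀ a, D (algebraMap k K a) = δ a := by
  let f := KaehlerDifferential.mapBaseChange ℤ k K
  have hinj : LinearMap.ker f = ⊥ := by
    rw [(Algebra.H1Cotangent.exact_δ_mapBaseChange ℤ k K).linearMap_ker_eq, LinearMap.range_eq_bot]
    exact Subsingleton.elim _ _
  obtain ⟨g, hg⟩ := f.exists_leftInverse_of_injective hinj
  refine ⟨((LinearMap.liftBaseChange K δ.liftKaehlerDifferential).comp g).compDer (KaehlerDifferential.D ℤ K),
    fun a => ?_⟩
  show LinearMap.liftBaseChange K δ.liftKaehlerDifferential (g (KaehlerDifferential.D ℤ K (algebraMap k K a))) = δ a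
  have h1 : KaehlerDifferential.D ℤ K (algebraMap k K a) = f ((1 : K) ⊗ₜ KaehlerDifferential.D ℤ k a) := by
    simp [f]
  rw [h1, ← LinearMap.comp_apply g, hg, LinearMap.id_apply, LinearMap.liftBaseChange_tmul, one_smul,
    Derivation.liftKaehlerDifferential_comp_D]

/-- A regular local algebra with separable residue field is formally smooth. -/
theorem fs_of_regular_of_separable_residue {k A : Type u} [Field k] [CommRing A] [IsRegularLocalRing A] [Algebra k A]
    [Algebra.IsGeometricallyReduced k (ResidueField A)] :
    CAlgX.IsAdicFormallySmooth k A (maximalIdeal A) := by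
  haveI := EGA41Lib.FieldFS.formallySmooth_of_isGeometricallyReduced k (ResidueField A)
  suffices H : ∀ (P : Type u) [Field P] [PerfectField P] [Algebra P k],
      CAlgX.IsAdicFormallySmooth k A (maximalIdeal A) by
    rcases CharP.exists' k with h0 | ⟨p, hp, hk⟩
    · exact H k
    · haveI := hp
      let P := ULift.{u} (ZMod p)
      haveI : Finite P := Finite.of_equiv _ Equiv.ulift.symm
      haveI : PerfectField P := PerfectField.ofFinite
      letI : Algebra P k := ((ZMod.castHom dvd_rfl k).comp (ULift.ringEquiv (R := ZMod p)).toRingHom).toAlgebra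
      exact H P
  intro P _ _ _
  refine fs_of_derivation_extend P fun F _ _ _ _ hF δ => ?_
  let g : ResidueField A →+* F := Ideal.Quotient.lift _ (algebraMap A F) hF
  letI : Algebra (ResidueField A) F := g.toAlgebra
  haveI : IsScalarTower A (ResidueField A) F := IsScalarTower.of_algebraMap_eq fun _ => rfl
  haveI : IsScalarTower k (ResidueField A) F := IsScalarTower.of_algebraMap_eq fun c => by
    rw [IsScalarTower.algebraMap_apply k A (ResidueField A), ← IsScalarTower.algebraMap_apply A (ResidueField A) F,
      ← IsScalarTower.algebraMap_apply]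
  obtain ⟨D, hD⟩ := exists_derivation_extend_of_formallySmooth (K := ResidueField A) δ
  refine ⟨D.compAlgebraMap A, fun c => ?_⟩
  show D (algebraMap A (ResidueField A) (algebraMap k A c)) = δ c
  rw [← IsScalarTower.algebraMap_apply k A (ResidueField A)]
  exact hD c

/-- The completion of a formally smooth algebra with separable residue field. -/
theorem exists_cpl_equiv_powerSeries_over {k A : Type u} [Field k] [CommRing A] [IsLocalRing A] [IsNoetherianRing A]
    [Algebra k A] [Algebra.IsGeometricallyReduced k (ResidueField A)]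
    (hfs : CAlgX.IsAdicFormallySmooth k A (maximalIdeal A)) :
    ∃ (n : ℕ) (e : EGA4.Cpl A ≃+* MvPowerSeries (Fin n) (ResidueField A)), ∀ x : k,
      e (algebraMap A (EGA4.Cpl A) (algebraMap k A x)) =
        algebraMap (ResidueField A) (MvPowerSeries (Fin n) (ResidueField A)) (algebraMap k (ResidueField A) x) := by
  classical
  haveI := FlatLoc6.isRegularRing_of_geometricallyRegular (geometricallyRegular_of_fs hfs)
  haveI : IsRegularLocalRing A := IsRegularLocalRing.of_isRegularRing_of_isLocalRing A
  haveI := FlatLoc6.isLocalRing_cpl A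
  haveI := FlatLoc6.isNoetherianRing_cpl A
  haveI := CplFib6.isAdicComplete_cpl A
  haveI : IsRegularLocalRing (EGA4.Cpl A) := (S0548.result A).1 inferInstance
  haveI := EGA41Lib.FieldFS.formallySmooth_of_isGeometricallyReduced k (ResidueField A)
  let R := EGA4.Cpl A
  haveI : IsLocalHom (algebraMap A R) := ((local_hom_TFAE _).out 0 2).mpr
    (AdicCompletion.maximalIdeal_eq_map_of_fg (IsNoetherian.noetherian _)).ge
  let f := ResidueField.map (algebraMap A R)
  have hf : Function.Bijective f := ⟨f.injective, fun y => by
    obtain ⟨x, rfl⟩ := residue_surjective y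
    obtain ⟨a, ha⟩ := CplFib6.exists_sub_mem A x
    exact ⟨residue A a, ((residue_eq_zero_iff _).2 ha |> fun h => (sub_eq_zero.mp ((map_sub _ _ _).symm.trans h))).symm⟩⟩
  letI : Algebra k R := ((algebraMap A R).comp (algebraMap k A)).toAlgebra
  have hfk : ∀ c : k, f (algebraMap k (ResidueField A) c) = algebraMap k (ResidueField R) c := fun c => by
    rw [IsScalarTower.algebraMap_apply k A (ResidueField A), IsScalarTower.algebraMap_apply k R (ResidueField R)]
    rfl
  let e₀ : ResidueField A ≃ₐ[k] ResidueField R := AlgEquiv.ofRingEquiv (f := RingEquiv.ofBijective f hf) hfk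
  haveI : Algebra.FormallySmooth k (R ⧸ maximalIdeal R) := Algebra.FormallySmooth.of_equiv e₀
  obtain ⟨σ, hσ⟩ := Algebra.FormallySmooth.exists_mkₐ_comp_eq_of_isAdicComplete
    (AlgHom.id k (R ⧸ maximalIdeal R))
  let τ : ResidueField A →+* R := σ.toRingHom.comp f
  letI : Algebra (ResidueField A) R := τ.toAlgebra
  have hτ : ∀ x, residue R (τ x) = f x := fun x => AlgHom.congr_fun hσ (f x)
  have hτk : ∀ c, τ (algebraMap k (ResidueField A) c) = algebraMap A R (algebraMap k A c) := fun c => by
    show σ (f _) = _
    rw [hfk]
    exact σ.commutes c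
  obtain ⟨s, hs, hspan⟩ := Submodule.FG.exists_span_finset_card_eq_spanFinrank
    (IsNoetherian.noetherian (maximalIdeal R))
  let b : Fin s.card → R := fun i => (s.equivFin.symm i : R)
  have hrange : Set.range b = (s : Set R) := by
    ext x
    constructor
    · rintro ⟨i, rfl⟩; exact (s.equivFin.symm i).2
    · intro hx; exact ⟨s.equivFin ⟨x, hx⟩, by simp [b]⟩
  have hb : ∀ i, b i ∈ maximalIdeal R := fun i =>
    hspan ▸ Submodule.subset_span (hrange ▸ Set.mem_range_self i)
  obtain ⟨ψ, hψ⟩ := PSLib.exists_algHom (R := ResidueField A) (maximalIdeal R) b hb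
  have hgen : Ideal.span (Set.range fun i => ψ (MvPowerSeries.X i)) = maximalIdeal R := by
    rw [funext hψ, hrange]; exact hspan
  have hsurj := PSLib.surjective_of_span (fun y => by
    obtain ⟨x, hx⟩ := hf.2 y
    exact ⟨x, (hτ x).trans hx⟩) ψ (fun i => hψ i ▸ hb i) (hgen.ge.trans le_sup_left)
  have hbij : Function.Bijective ψ := PSLib.bijective_of_surjective _ s.card ψ.toRingHom hsurj (by
    rw [← IsRegularLocalRing.spanFinrank_maximalIdeal, hs])
  refine ⟨s.card, (RingEquiv.ofBijective ψ.toRingHom hbij).symm, fun x => ?_⟩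
  rw [RingEquiv.symm_apply_eq]
  exact (hτk x).symm.trans (ψ.commutes _).symm

end Groth.Agent.RegFS6
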