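import Groth.Agent.RegFS6.BaseLift
import Groth.Agent.CplFib6.FieldTensor
import Groth.Agent.CplFib6.PSDeriv
import Groth.Agent.CplFib6.GRing
import Groth.Agent.FlatLoc6.GeomComp

/-!
# Formally smooth algebras over complete local rings are regular
-/

set_option linter.style.haveILetI false

namespace Groth.Agent.RegFS6

universe u

open IsLocalRing TensorProduct CplFib6

attribute [local instance 10000] Ring.toIntAlgebra

/-- Power series over a field or a Cohen ring have characteristic zero or enough derivations. -/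
theorem enough_mvPowerSeries {Λ : Type u} [CommRing Λ] (hΛ : IsField Λ ∨ CAlg.IsCohenRing Λ) (n : ℕ) :
    CharZero (MvPowerSeries (Fin n) Λ) ∨ ∃ p : ℕ, p.Prime ∧ CharP (MvPowerSeries (Fin n) Λ) p ∧
      EnoughDer p (MvPowerSeries (Fin n) Λ) := by
  rcases hΛ with hF | hC
  · let := hF.toField
    obtain ⟨c, hc⟩ := CharP.exists Λ
    rcases CharP.char_is_prime_or_zero Λ c with hcp | rfl
    · haveI : Fact c.Prime := ⟨hcp⟩
      exact Or.inr ⟨c, hcp, charP_of_injective_ringHom MvPowerSeries.C_injective c, enoughDer_mvPowerSeries Λ c n⟩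
    · haveI := CharP.charP_to_charZero Λ
      exact Or.inl (charZero_of_injective_ringHom MvPowerSeries.C_injective)
  · obtain ⟨_, _, -, p, hp, hm⟩ := hC
    haveI : CharZero Λ := by
      obtain ⟨c, hc⟩ := CharP.exists Λ
      rcases CharP.char_is_prime_or_zero Λ c with hcp | rfl
      · exfalso
        refine IsDiscreteValuationRing.not_a_field Λ ?_
        rw [hm, Ideal.span_singleton_eq_bot]
        by_contra hp0
        rcases eq_or_ne c p with rfl | hne
        · exact hp0 (CharP.cast_eq_zero Λ c)
        have hco : IsCoprime (c : ℤ) (p : ℤ) :=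
          Nat.isCoprime_iff_coprime.mpr ((Nat.coprime_primes hcp hp).mpr hne)
        obtain ⟨a, b, hab⟩ := hco
        have h1 : (p : Λ) ∈ maximalIdeal Λ := hm ▸ Ideal.subset_span rfl
        refine (maximalIdeal.isMaximal Λ).ne_top ((Ideal.eq_top_iff_one _).mpr ?_)
        have h2 := congrArg (Int.cast : ℤ → Λ) hab
        push_cast at h2
        rw [CharP.cast_eq_zero, mul_zero, zero_add] at h2
        exact h2 ▸ Ideal.mul_mem_left _ _ h1
      · exact CharP.charP_to_charZero Λ
    exact Or.inl (charZero_of_injective_ringHom MvPowerSeries.C_injective)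

/-- The generic fibre of a formally smooth algebra over a complete local domain is geometrically regular. -/
theorem regular_tensor_of_fs {A B : Type u} [CommRing A] [IsDomain A] [IsLocalRing A] [IsNoetherianRing A]
    [IsAdicComplete (maximalIdeal A) A] [CommRing B] [IsLocalRing B] [IsNoetherianRing B] [Algebra A B]
    [IsLocalHom (algebraMap A B)] (hfs : CAlgX.IsAdicFormallySmooth A B (maximalIdeal B))
    (L : Type u) [Field L] [Algebra A L] [FaithfulSMul A L] [Algebra.IsAlgebraic A L] [Algebra.EssFiniteType A L] :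
    IsRegularRing (L ⊗[A] B) := by
  obtain ⟨Λ, _, n, f, hΛ, hf, hfin, hres⟩ := CohenLib.exists_finite_injective A
  let C := MvPowerSeries (Fin n) Λ
  haveI : IsDomain C := hf.isDomain
  obtain ⟨hN, hreg, -⟩ := CohenLib.isRegular_complete_mvPowerSeries hΛ n
  haveI := hN
  haveI := hreg
  letI : Algebra C A := f.toAlgebra
  haveI : Module.Finite C A := hfin
  haveI : FaithfulSMul C A := (faithfulSMul_iff_algebraMap_injective C A).mpr hf
  haveI : Algebra.IsIntegral C A := Algebra.IsIntegral.of_finite C A
  haveI : IsLocalHom (algebraMap C A) := (RingHom.IsIntegral.isLocalHom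
    (Algebra.IsIntegral.isIntegral (R := C) (A := A)) hf)
  obtain ⟨T, _, _, hTreg, hExt, ⟨e⟩⟩ := exists_base_lift (C := C) hres hfs
  haveI := hTreg
  letI : Algebra C L := ((algebraMap A L).comp (algebraMap C A)).toAlgebra
  haveI : IsScalarTower C A L := IsScalarTower.of_algebraMap_eq' rfl
  haveI : FaithfulSMul C L := (faithfulSMul_iff_algebraMap_injective C L).mpr
    ((FaithfulSMul.algebraMap_injective A L).comp hf)
  haveI : Algebra.IsAlgebraic C A := Algebra.IsIntegral.isAlgebraic
  haveI : Algebra.IsAlgebraic C L := Algebra.IsAlgebraic.trans C A L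
  haveI : Algebra.EssFiniteType C L := Algebra.EssFiniteType.comp C A L
  haveI := regular_tensor_field T hExt (enough_mvPowerSeries hΛ n) L
  haveI : IsRegularRing (L ⊗[A] EGA4.Cpl B) := IsRegularRing.of_ringEquiv (R := L ⊗[C] T)
    ((Algebra.TensorProduct.cancelBaseChange C A L L T).symm.toRingEquiv.trans
      (Algebra.TensorProduct.congr (AlgEquiv.refl (R := A) (A₁ := L)) e.symm).toRingEquiv)
  haveI := FlatLoc6.faithfullyFlat_cpl B
  haveI : IsRegularRing ((B ⊗[A] L) ⊗[B] EGA4.Cpl B) := IsRegularRing.of_ringEquiv (R := L ⊗[A] EGA4.Cpl B)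
    (((Algebra.TensorProduct.comm B (B ⊗[A] L) (EGA4.Cpl B)).toRingEquiv.trans
      (Algebra.TensorProduct.cancelBaseChange A B (EGA4.Cpl B) (EGA4.Cpl B) L).toRingEquiv).trans
      (Algebra.TensorProduct.comm A (EGA4.Cpl B) L).toRingEquiv).symm
  haveI : IsRegularRing (B ⊗[A] L) := FlatLoc6.permanence_regular.desc (B ⊗[A] L) ((B ⊗[A] L) ⊗[B] EGA4.Cpl B) inferInstance
  exact IsRegularRing.of_ringEquiv (Algebra.TensorProduct.comm A B L).toRingEquiv

/-- A formally smooth local algebra over a complete local ring is regular over it. -/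
theorem isRegularHom_of_fs_of_complete {A B : Type u} [CommRing A] [CommRing B] [IsLocalRing A] [IsLocalRing B]
    [IsNoetherianRing A] [IsNoetherianRing B] [IsAdicComplete (maximalIdeal A) A] [Algebra A B]
    [IsLocalHom (algebraMap A B)] (hfs : CAlgX.IsAdicFormallySmooth A B (maximalIdeal B)) :
    CAlg.IsRegularHom A B := by
  haveI := flat_of_fs hfs
  refine ⟨inferInstance, fun q _ => ⟨FlatLoc6.isNoetherianRing_fiber (B := B) q, fun L _ _ hL => ?_⟩⟩
  haveI := hL
  have hqm : q ≤ maximalIdeal A := IsLocalRing.le_maximalIdeal (Ideal.IsPrime.ne_top inferInstance)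
  haveI hlr := isLocalRing_quots (C := A) (D := B) q hqm
  haveI := hlr.1
  haveI := hlr.2
  haveI := isLocalHom_quot (C := A) (D := B) q
  haveI := isAdicComplete_quot q
  let B' := B ⧸ q.map (algebraMap A B)
  have hfs' : CAlgX.IsAdicFormallySmooth (A ⧸ q) B' (maximalIdeal B') := by
    intro E _ _ J hJ ψ hψ
    obtain ⟨N, hN⟩ := hψ
    letI : Algebra A E := ((algebraMap (A ⧸ q) E).comp (Ideal.Quotient.mk q)).toAlgebra
    haveI : IsScalarTower A (A ⧸ q) E := IsScalarTower.of_algebraMap_eq fun _ => rfl
    let mk' : B →ₐ[A] B' := Ideal.Quotient.mkₐ A _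
    haveI : IsLocalHom mk'.toRingHom := IsLocalHom.of_surjective mk'.toRingHom Ideal.Quotient.mk_surjective
    obtain ⟨w, hw⟩ := hfs E J hJ ((ψ.restrictScalars A).comp mk') ⟨N, fun b hb => hN _
      (EGA41Lib.mem_pow_of_forall_mem mk' (fun y hy => map_nonunit mk'.toRingHom y hy) N b hb)⟩
    have hw0 : ∀ b ∈ q.map (algebraMap A B), w b = 0 := by
      intro b hb
      induction hb using Submodule.span_induction with
      | mem y hy =>
        obtain ⟨a, ha, rfl⟩ := hy
        rw [AlgHom.commutes]
        show algebraMap (A ⧸ q) E (Ideal.Quotient.mk q a) = 0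
        rw [Ideal.Quotient.eq_zero_iff_mem.mpr ha, map_zero]
      | zero => exact map_zero _
      | add y z _ _ hy hz => rw [map_add, hy, hz, add_zero]
      | smul r y _ hy => rw [smul_eq_mul, map_mul, hy, mul_zero]
    refine ⟨{ Ideal.Quotient.lift _ w.toRingHom hw0 with commutes' := fun z => ?_ }, AlgHom.ext fun z => ?_⟩
    · obtain ⟨a, rfl⟩ := Ideal.Quotient.mk_surjective z
      exact w.commutes a
    · obtain ⟨b, rfl⟩ := Ideal.Quotient.mk_surjective z
      exact AlgHom.congr_fun hw b
  letI : Algebra A L := ((algebraMap q.ResidueField L).comp (algebraMap A q.ResidueField)).toAlgebra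
  haveI : IsScalarTower A q.ResidueField L := IsScalarTower.of_algebraMap_eq' rfl
  letI : Algebra (A ⧸ q) L := ((algebraMap q.ResidueField L).comp (algebraMap (A ⧸ q) q.ResidueField)).toAlgebra
  haveI : IsScalarTower (A ⧸ q) q.ResidueField L := IsScalarTower.of_algebraMap_eq' rfl
  haveI : IsScalarTower A (A ⧸ q) L := IsScalarTower.of_algebraMap_eq fun a => by
    show algebraMap q.ResidueField L (algebraMap A q.ResidueField a) = _
    rw [IsScalarTower.algebraMap_apply A (A ⧸ q) q.ResidueField]
    rfl
  haveI : FaithfulSMul (A ⧸ q) L := (faithfulSMul_iff_algebraMap_injective _ L).mpr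
    ((algebraMap q.ResidueField L).injective.comp (IsFractionRing.injective (A ⧸ q) q.ResidueField))
  haveI : Algebra.IsAlgebraic q.ResidueField L := Algebra.IsAlgebraic.of_finite _ _
  haveI : Algebra.IsAlgebraic (A ⧸ q) L :=
    (IsFractionRing.comap_isAlgebraic_iff (A := A ⧸ q) (K := q.ResidueField) (C := L)).mpr inferInstance
  haveI : Algebra.EssFiniteType (A ⧸ q) q.ResidueField :=
    Algebra.EssFiniteType.of_isLocalization q.ResidueField (nonZeroDivisors (A ⧸ q))
  haveI : Algebra.EssFiniteType (A ⧸ q) L := Algebra.EssFiniteType.comp (A ⧸ q) q.ResidueField L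
  haveI := regular_tensor_of_fs hfs' L
  exact IsRegularRing.of_ringEquiv (R := L ⊗[A ⧸ q] B')
    (((Algebra.TensorProduct.congr (AlgEquiv.refl (R := A ⧸ q) (A₁ := L)) (quotEquiv q)).toRingEquiv.trans
      (Algebra.TensorProduct.cancelBaseChange A (A ⧸ q) L L B).toRingEquiv).trans
      (Algebra.TensorProduct.cancelBaseChange A q.ResidueField L L B).symm.toRingEquiv)

end Groth.Agent.RegFS6
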