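import Groth.Agent.RegFS6.FlatConv
import Groth.Agent.CplFib6.DerivExt
import Groth.Agent.S4542
import Groth.Agent.AdicLib.Basic
import Groth.Agent.CplFib6.QuotReg
import Mathlib.RingTheory.Regular.Flat

/-!
# A formally smooth algebra over a finite extension of a regular complete ring comes from below
-/

set_option linter.style.haveILetI false

namespace Groth.Agent.RegFS6

universe u

open IsLocalRing TensorProduct RingTheory.Sequence

attribute [local instance 10000] Ring.toIntAlgebra

/-- Derivations of the base extend to a complete formally smooth algebra. -/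
theorem ext_derivation_of_fs {C T : Type u} [CommRing C] [CommRing T] [IsLocalRing T] [IsNoetherianRing T]
    [IsAdicComplete (maximalIdeal T) T] [Algebra C T]
    (hfs : CAlgX.IsAdicFormallySmooth C T (maximalIdeal T)) (D : Derivation ℤ C C) :
    CplFib6.Ext (algebraMap C T) D := by
  haveI : Module.Finite T (TrivSqZeroExt T T) := inferInstanceAs (Module.Finite T (T × T))
  haveI : IsNoetherianRing (TrivSqZeroExt T T) := IsNoetherianRing.of_finite T _
  let 𝔠 : Ideal (TrivSqZeroExt T T) := (maximalIdeal T).map (algebraMap T (TrivSqZeroExt T T))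
  haveI : IsAdicComplete 𝔠 (TrivSqZeroExt T T) :=
    (IsAdicComplete.map_algebraMap_iff (S := TrivSqZeroExt T T) (maximalIdeal T) (TrivSqZeroExt T T)).mpr
      (AdicLib.isAdicComplete_of_finite (maximalIdeal T) (TrivSqZeroExt T T))
  let ι : C →+* TrivSqZeroExt T T := CplFib6.homOfDerivation (algebraMap C T) D
  let π : TrivSqZeroExt T T →+* T := (TrivSqZeroExt.fstHom T T T).toRingHom
  let J : Ideal (TrivSqZeroExt T T) := RingHom.ker π
  have hJ : J ^ 2 = ⊥ := by
    rw [eq_bot_iff, sq, Ideal.mul_le]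
    intro a ha b hb
    rw [Ideal.mem_bot]
    have ha' : TrivSqZeroExt.fst a = 0 := ha
    have hb' : TrivSqZeroExt.fst b = 0 := hb
    ext <;> simp [ha', hb']
  let inlT : T →+* TrivSqZeroExt T T := TrivSqZeroExt.inlHom T T
  have hinl : ∀ t, inlT t = algebraMap T (TrivSqZeroExt T T) t := fun t => rfl
  letI : Algebra C (TrivSqZeroExt T T) := ι.toAlgebra
  have hu₀ : ∀ c, Ideal.Quotient.mk J (inlT (algebraMap C T c)) = Ideal.Quotient.mk J (ι c) := fun c => by
    rw [Ideal.Quotient.eq, RingHom.mem_ker, map_sub, sub_eq_zero]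
    exact (TrivSqZeroExt.fst_inl T (algebraMap C T c)).trans (CplFib6.fst_homOfDerivation _ D c).symm
  let u : T →ₐ[C] TrivSqZeroExt T T ⧸ J := { (Ideal.Quotient.mk J).comp inlT with commutes' := hu₀ }
  haveI : IsHausdorff (𝔠.map (Ideal.Quotient.mk J)) (TrivSqZeroExt T T ⧸ J) := by
    refine IsHausdorff.of_le_jacobson _ _ ?_
    intro x hx
    obtain ⟨y, hy, rfl⟩ := (Ideal.mem_map_iff_of_surjective _ Ideal.Quotient.mk_surjective).mp hx
    rw [Ideal.mem_jacobson_bot]
    intro z
    obtain ⟨z, rfl⟩ := Ideal.Quotient.mk_surjective z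
    rw [← map_mul, ← map_one (Ideal.Quotient.mk J), ← map_add]
    exact (Ideal.mem_jacobson_bot.mp (IsAdicComplete.le_jacobson_bot 𝔠 hy) z).map _
  obtain ⟨v, -, hv⟩ := S4542.result ⊥ (maximalIdeal T) 𝔠 ((S4537.result _).mp hfs)
    ⟨1, by rw [pow_one, Ideal.map_bot]; exact bot_le⟩ J ⟨2, hJ.le.trans bot_le⟩ u ⟨1, by
      rw [pow_one, Ideal.map_le_iff_le_comap]
      intro t ht
      exact Ideal.mem_map_of_mem _ (Ideal.mem_map_of_mem (algebraMap T (TrivSqZeroExt T T)) ht)⟩
  have hfst : ∀ t, (v t).fst = t := fun t => by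
    have h1 : v t - inlT t ∈ J := Ideal.Quotient.eq.mp (AlgHom.congr_fun hv t)
    rw [RingHom.mem_ker, map_sub, sub_eq_zero] at h1
    exact h1
  obtain ⟨E, hE⟩ := CplFib6.exists_derivation_of_hom v.toRingHom hfst
  refine ⟨E, fun c => ?_⟩
  rw [hE]
  show (v (algebraMap C T c)).snd = _
  rw [AlgHom.commutes]
  exact CplFib6.snd_homOfDerivation _ _ _

/-- A formally smooth algebra over a finite extension with the same residue field of a complete regular ring is,
up to completion, a base change of a regular algebra to which derivations extend. -/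
theorem exists_base_lift {C A B : Type u} [CommRing C] [IsRegularLocalRing C]
    [CommRing A] [IsLocalRing A] [IsNoetherianRing A] [Algebra C A] [Module.Finite C A]
    [IsLocalHom (algebraMap C A)] (hres : Function.Surjective ((residue A).comp (algebraMap C A)))
    [CommRing B] [IsLocalRing B] [IsNoetherianRing B] [Algebra A B] [IsLocalHom (algebraMap A B)]
    (hfs : CAlgX.IsAdicFormallySmooth A B (maximalIdeal B)) :
    ∃ (T : Type u) (_ : CommRing T) (_ : Algebra C T), IsRegularRing T ∧
      (∀ D : Derivation ℤ C C, CplFib6.Ext (algebraMap C T) D) ∧ Nonempty (EGA4.Cpl B ≃ₐ[A] A ⊗[C] T) := by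
  let mB : Ideal B := (maximalIdeal A).map (algebraMap A B)
  have hmB : mB ≤ maximalIdeal B :=
    ((local_hom_TFAE (algebraMap A B)).out 0 2).mp (inferInstance : IsLocalHom (algebraMap A B))
  let B₀ := B ⧸ mB
  haveI : Nontrivial B₀ := Ideal.Quotient.nontrivial_iff.mpr (ne_top_of_le_ne_top (maximalIdeal.isMaximal B).ne_top hmB)
  haveI : IsLocalRing B₀ := IsLocalRing.of_surjective' (Ideal.Quotient.mk mB) Ideal.Quotient.mk_surjective
  haveI : IsRegularLocalRing B₀ := by
    obtain ⟨e⟩ := closedFibre_equiv_quot A B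
    haveI := FlatLoc6.isRegularRing_of_geometricallyRegular (geometricallyRegular_fibre_of_fs hfs)
    haveI : IsLocalRing ((maximalIdeal A).Fiber B) := e.symm.isLocalRing
    haveI : IsRegularLocalRing ((maximalIdeal A).Fiber B) := IsRegularLocalRing.of_isRegularRing_of_isLocalRing _
    exact IsRegularLocalRing.of_ringEquiv e
  haveI := FlatLoc6.isLocalRing_cpl B₀
  haveI := FlatLoc6.isNoetherianRing_cpl B₀
  haveI := CplFib6.isAdicComplete_cpl B₀
  haveI : IsRegularLocalRing (EGA4.Cpl B₀) := (S0548.result B₀).1 inferInstance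
  let αA : A →+* EGA4.Cpl B₀ := (algebraMap B₀ (EGA4.Cpl B₀)).comp ((Ideal.Quotient.mk mB).comp (algebraMap A B))
  have hαA : ∀ a ∈ maximalIdeal A, αA a = 0 := fun a ha => by
    show algebraMap B₀ _ (Ideal.Quotient.mk mB (algebraMap A B a)) = 0
    rw [Ideal.Quotient.eq_zero_iff_mem.mpr (Ideal.mem_map_of_mem _ ha), map_zero]
  let αk : ResidueField A →+* EGA4.Cpl B₀ := Ideal.Quotient.lift _ αA hαA
  letI : Algebra (ResidueField C) (EGA4.Cpl B₀) := (αk.comp (ResidueField.map (algebraMap C A))).toAlgebra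
  have hαC : ∀ c, algebraMap (ResidueField C) (EGA4.Cpl B₀) (residue C c) = αA (algebraMap C A c) := fun c => rfl
  obtain ⟨T, _, _, _, _, _, ρ, hTc, hTflat, hρ, hker, hρc⟩ := exists_flat_complete_lift C (EGA4.Cpl B₀)
  haveI := hTc
  haveI := hTflat
  haveI : IsLocalHom ρ := IsLocalHom.of_surjective ρ hρ
  haveI hTq : IsRegularLocalRing (T ⧸ (maximalIdeal C).map (algebraMap C T)) := IsRegularLocalRing.of_ringEquiv
    ((Ideal.quotEquivOfEq hker.symm).trans (RingHom.quotientKerEquivOfSurjective hρ)).symm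
  haveI hTreg : IsRegularLocalRing T := by
    obtain ⟨rs, hreg, hm⟩ := RegLoc6.exists_regularSequence_maximalIdeal C
    refine RegLoc6.of_quotient_list _ T (rs.map (algebraMap C T)) rfl ?_ hreg.toIsWeaklyRegular.of_flat ?_
    · intro r hr
      obtain ⟨c, hc, rfl⟩ := List.mem_map.mp hr
      exact map_nonunit (algebraMap C T) c (hm ▸ Ideal.subset_span hc)
    · rw [← Ideal.map_ofList, hm]
      exact hTq
  -- the residue fields of `C` and `A` agree
  have hsurjC : ∀ a : A, ∃ c : C, a - algebraMap C A c ∈ maximalIdeal A := fun a => by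
    obtain ⟨c, hc⟩ := hres (residue A a)
    exact ⟨c, by rw [← residue_eq_zero_iff, map_sub, sub_eq_zero]; exact hc.symm⟩
  -- formal smoothness
  have hTfs : CAlgX.IsAdicFormallySmooth C T (maximalIdeal T) := by
    refine fs_of_flat fun E _ _ hE J hJ ψ hψ => ?_
    let g : ResidueField A ≃+* ResidueField C := (RingEquiv.ofBijective (ResidueField.map (algebraMap C A))
      ⟨RingHom.injective _, fun y => by
        obtain ⟨a, rfl⟩ := residue_surjective y
        obtain ⟨c, hc⟩ := hsurjC a
        exact ⟨residue C c, (Ideal.Quotient.eq.mpr hc).symm⟩⟩).symm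
    let fC : ResidueField C →+* E := Ideal.Quotient.lift _ (algebraMap C E) hE
    letI : Algebra A E := ((fC.comp g.toRingHom).comp (residue A)).toAlgebra
    have hAE : ∀ c, algebraMap A E (algebraMap C A c) = algebraMap C E c := fun c => by
      show fC (g (residue A (algebraMap C A c))) = _
      rw [show residue A (algebraMap C A c) = g.symm (residue C c) from rfl, g.apply_symm_apply]
      rfl
    have hAE0 : ∀ a ∈ maximalIdeal A, algebraMap A E a = 0 := fun a ha => by
      show fC (g (residue A a)) = _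
      rw [(residue_eq_zero_iff a).mpr ha, map_zero, map_zero]
    let EE := RingHom.quotientKerEquivOfSurjective hρ
    have hψker : ∀ t ∈ RingHom.ker ρ, ψ t = 0 := fun t ht => hψ t fun hu => by
      have h0 := hu.map ρ
      rw [show ρ t = 0 from ht, isUnit_zero_iff] at h0
      exact zero_ne_one h0
    let ψ₁ : EGA4.Cpl B₀ →+* E ⧸ J := (Ideal.Quotient.lift (RingHom.ker ρ) ψ.toRingHom hψker).comp EE.symm.toRingHom
    have hψ₁ : ∀ t, ψ₁ (ρ t) = ψ t := fun t => by
      show Ideal.Quotient.lift (RingHom.ker ρ) ψ.toRingHom hψker (EE.symm (ρ t)) = _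
      rw [← RingHom.quotientKerEquivOfSurjective_apply_mk hρ t, show EE.symm (EE (Ideal.Quotient.mk _ t)) = _ from
        EE.symm_apply_apply _]
      rfl
    have hψ₁m : ∀ y ∈ maximalIdeal (EGA4.Cpl B₀), ψ₁ y = 0 := fun y hy => by
      obtain ⟨t, rfl⟩ := hρ y
      rw [hψ₁]
      exact hψ t fun hu => (mem_maximalIdeal _).mp hy (hu.map ρ)
    let uB₀ : B →+* E ⧸ J := ψ₁.comp ((algebraMap B₀ (EGA4.Cpl B₀)).comp (Ideal.Quotient.mk mB))
    have huB : ∀ a, uB₀ (algebraMap A B a) = Ideal.Quotient.mk J (algebraMap A E a) := fun a => by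
      show ψ₁ (αA a) = _
      obtain ⟨c, hc⟩ := hsurjC a
      rw [show a = algebraMap C A c + (a - algebraMap C A c) by ring, map_add αA, hαA _ hc, add_zero, map_add,
        hAE0 _ hc, add_zero, hAE, ← hαC, ← hρc, hψ₁, AlgHom.commutes]
      rfl
    let uB : B →ₐ[A] E ⧸ J := { uB₀ with commutes' := huB }
    haveI : IsLocalHom (algebraMap B₀ (EGA4.Cpl B₀)) := ((local_hom_TFAE _).out 0 2).mpr
      (AdicCompletion.maximalIdeal_eq_map_of_fg (IsNoetherian.noetherian _)).ge
    haveI : IsLocalHom (Ideal.Quotient.mk mB) := IsLocalHom.of_surjective _ Ideal.Quotient.mk_surjective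
    have huBm : ∀ b ∈ maximalIdeal B, uB b = 0 := fun b hb =>
      hψ₁m _ (map_nonunit (algebraMap B₀ (EGA4.Cpl B₀)) (Ideal.Quotient.mk mB b) (map_nonunit (Ideal.Quotient.mk mB) b hb))
    obtain ⟨w, hw⟩ := hfs E J hJ uB ⟨1, fun b hb => huBm b (by rwa [pow_one] at hb)⟩
    have hwmB : ∀ b ∈ mB, w b = 0 := by
      intro b hb
      induction hb using Submodule.span_induction with
      | mem y hy =>
        obtain ⟨a, ha, rfl⟩ := hy
        rw [AlgHom.commutes, hAE0 a ha]
      | zero => exact map_zero _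
      | add y z _ _ hy hz => rw [map_add, hy, hz, add_zero]
      | smul r y _ hy => rw [smul_eq_mul, map_mul, hy, mul_zero]
    let w₀ : B₀ →+* E := Ideal.Quotient.lift mB w.toRingHom hwmB
    have hw₀ : ∀ y ∈ maximalIdeal B₀ ^ 2, w₀ y = 0 := by
      intro y hy
      have hsub : ∀ z ∈ maximalIdeal B₀, w₀ z ∈ J := fun z hz => by
        obtain ⟨b, rfl⟩ := Ideal.Quotient.mk_surjective z
        show w b ∈ J
        rw [← Ideal.Quotient.eq_zero_iff_mem]
        exact (AlgHom.congr_fun hw b).trans (huBm b fun hu => (mem_maximalIdeal _).mp hz (hu.map _))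
      have := EGA41Lib.mem_pow_of_forall_mem w₀ hsub 2 y hy
      rwa [hJ, Ideal.mem_bot] at this
    let wh : EGA4.Cpl B₀ →+* E := (Ideal.Quotient.lift _ w₀ hw₀).comp
      (AdicCompletion.evalₐ (maximalIdeal B₀) 2).toRingHom
    have hwh : ∀ z, wh (algebraMap B₀ (EGA4.Cpl B₀) z) = w₀ z := fun z => by
      show Ideal.Quotient.lift _ w₀ hw₀ (AdicCompletion.evalₐ (maximalIdeal B₀) 2 (algebraMap B₀ _ z)) = _
      rw [AlgHom.commutes]
      rfl
    have hwm : ∀ y ∈ maximalIdeal (EGA4.Cpl B₀), Ideal.Quotient.mk J (wh y) = 0 := fun y hy => by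
      rw [AdicCompletion.maximalIdeal_eq_map_of_fg (IsNoetherian.noetherian _)] at hy
      refine (Ideal.map_le_iff_le_comap (K := RingHom.ker ((Ideal.Quotient.mk J).comp wh))).mpr (fun z hz => ?_) hy
      show Ideal.Quotient.mk J (wh (algebraMap B₀ _ z)) = 0
      obtain ⟨b, rfl⟩ := Ideal.Quotient.mk_surjective z
      rw [hwh]
      exact (AlgHom.congr_fun hw b).trans (huBm b fun hu => (mem_maximalIdeal _).mp hz (hu.map _))
    refine ⟨{ wh.comp ρ with commutes' := fun c => ?_ }, AlgHom.ext fun t => ?_⟩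
    · show wh (ρ (algebraMap C T c)) = _
      rw [hρc, hαC]
      show wh (algebraMap B₀ _ (Ideal.Quotient.mk mB (algebraMap A B (algebraMap C A c)))) = _
      rw [hwh]
      show w (algebraMap A B (algebraMap C A c)) = _
      rw [AlgHom.commutes, hAE]
    · show Ideal.Quotient.mk J (wh (ρ t)) = ψ t
      rw [← hψ₁]
      obtain ⟨z, hz⟩ := CplFib6.exists_sub_mem B₀ (ρ t)
      rw [show ρ t = algebraMap B₀ _ z + (ρ t - algebraMap B₀ _ z) by ring, map_add, map_add, map_add, hwm _ hz,
        hψ₁m _ hz, add_zero, add_zero, hwh]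
      obtain ⟨b, rfl⟩ := Ideal.Quotient.mk_surjective z
      exact AlgHom.congr_fun hw b
  refine ⟨T, inferInstance, inferInstance, CplFib6.isRegularRing_of_local T, ext_derivation_of_fs hTfs, ?_⟩
  -- the base change
  have hαA' : ∀ a, algebraMap A (EGA4.Cpl B₀) a = αA a := fun a =>
    IsScalarTower.algebraMap_apply A B₀ (EGA4.Cpl B₀) a
  letI : Algebra C (EGA4.Cpl B₀) := ((algebraMap A (EGA4.Cpl B₀)).comp (algebraMap C A)).toAlgebra
  haveI : IsScalarTower C A (EGA4.Cpl B₀) := IsScalarTower.of_algebraMap_eq fun _ => rfl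
  let ρC : T →ₐ[C] EGA4.Cpl B₀ := { ρ with commutes' := fun c => ((hρc c).trans (hαC c)).trans (hαA' _).symm }
  let S := A ⊗[C] T
  let ρ' : S →ₐ[A] EGA4.Cpl B₀ :=
    Algebra.TensorProduct.lift (Algebra.ofId A _) ρC fun _ _ => Commute.all _ _
  have hρ'r : ∀ t, ρ' ((1 : A) ⊗ₜ[C] t) = ρ t := fun t => by
    show Algebra.TensorProduct.lift (Algebra.ofId A _) ρC _ ((1 : A) ⊗ₜ[C] t) = _
    rw [Algebra.TensorProduct.lift_tmul, map_one, one_mul]
    rfl
  have hρ's : Function.Surjective ρ' := fun y => by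
    obtain ⟨t, rfl⟩ := hρ y
    exact ⟨_, hρ'r t⟩
  let mS : Ideal S := (maximalIdeal A).map (algebraMap A S)
  let inr : T →ₐ[C] S := Algebra.TensorProduct.includeRight
  have hker' : RingHom.ker ρ'.toRingHom = mS := by
    refine le_antisymm (fun z hz => ?_) (Ideal.map_le_iff_le_comap.mpr fun a ha => ?_)
    · have hdec : ∀ z : S, ∃ t, z - inr t ∈ mS := by
        intro z
        induction z using TensorProduct.induction_on with
        | zero => exact ⟨0, by simp⟩
        | add x y hx hy =>
          obtain ⟨s, hs⟩ := hx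
          obtain ⟨t, ht⟩ := hy
          exact ⟨s + t, by rw [map_add, add_sub_add_comm]; exact add_mem hs ht⟩
        | tmul a t =>
          obtain ⟨c, hc⟩ := hsurjC a
          refine ⟨c • t, ?_⟩
          have h1 : a ⊗ₜ[C] t - inr (c • t) = algebraMap A S (a - algebraMap C A c) * inr t := by
            show a ⊗ₜ[C] t - (1 : A) ⊗ₜ[C] (c • t) = ((a - algebraMap C A c) ⊗ₜ[C] (1 : T)) * ((1 : A) ⊗ₜ[C] t)
            rw [Algebra.TensorProduct.tmul_mul_tmul, mul_one, one_mul, sub_tmul, tmul_smul, smul_tmul',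
              Algebra.algebraMap_eq_smul_one]
          rw [h1]
          exact Ideal.mul_mem_right _ _ (Ideal.mem_map_of_mem _ hc)
      obtain ⟨t, ht⟩ := hdec z
      have h0 : ρ t = 0 := by
        have h1 : ρ' (z - inr t) = 0 := by
          refine (Ideal.map_le_iff_le_comap (K := RingHom.ker ρ'.toRingHom)).mpr (fun a ha => ?_) ht
          show ρ' (algebraMap A S a) = 0
          rw [AlgHom.commutes, hαA']
          exact hαA a ha
        rw [map_sub, show ρ' z = 0 from hz, zero_sub, neg_eq_zero, show ρ' (inr t) = ρ t from hρ'r t] at h1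
        exact h1
      have htm : t ∈ (maximalIdeal C).map (algebraMap C T) := hker ▸ h0
      have hinr : inr t ∈ mS := by
        refine (Ideal.map_le_iff_le_comap (K := mS.comap inr.toRingHom)).mpr (fun c hc => ?_) htm
        show inr (algebraMap C T c) ∈ mS
        rw [AlgHom.commutes, IsScalarTower.algebraMap_apply C A S]
        exact Ideal.mem_map_of_mem _ (map_nonunit _ c hc)
      simpa using add_mem ht hinr
    · show ρ' (algebraMap A S a) = 0
      rw [AlgHom.commutes, hαA']
      exact hαA a ha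
  letI : Algebra T S := inr.toRingHom.toAlgebra
  haveI : Module.Finite T S := by
    show inr.toRingHom.Finite
    have h1 : ((Algebra.TensorProduct.includeLeft : T →ₐ[C] T ⊗[C] A).toRingHom).Finite :=
      RingHom.finite_algebraMap.mpr (inferInstance : Module.Finite T (T ⊗[C] A))
    have h2 := (RingHom.Finite.of_surjective (Algebra.TensorProduct.comm C T A).toRingEquiv.toRingHom
      (Algebra.TensorProduct.comm C T A).surjective).comp h1
    rwa [show inr.toRingHom = (Algebra.TensorProduct.comm C T A).toRingEquiv.toRingHom.comp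
      (Algebra.TensorProduct.includeLeft : T →ₐ[C] T ⊗[C] A).toRingHom from
      RingHom.ext fun t => (Algebra.TensorProduct.comm_tmul C t (1 : A)).symm]
  haveI : IsNoetherianRing S := IsNoetherianRing.of_finite T S
  haveI : Algebra.IsIntegral T S := Algebra.IsIntegral.of_finite T S
  haveI : Algebra.IsIntegral C A := Algebra.IsIntegral.of_finite C A
  have hS0 : ∀ n : Ideal S, n.IsMaximal → n = RingHom.ker ρ'.toRingHom ⊔ n := fun n hn => by
    refine (sup_eq_right.mpr ?_).symm
    rw [hker']
    refine Ideal.map_le_iff_le_comap.mpr ?_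
    have hnT : n.comap (algebraMap T S) = maximalIdeal T :=
      IsLocalRing.eq_maximalIdeal (Ideal.isMaximal_comap_of_isIntegral_of_isMaximal (R := T) n)
    have hle : maximalIdeal C ≤ (n.comap (algebraMap A S)).comap (algebraMap C A) := fun c hc => by
      show algebraMap A S (algebraMap C A c) ∈ n
      rw [← IsScalarTower.algebraMap_apply, ← inr.commutes]
      exact hnT.ge (map_nonunit (algebraMap C T) c hc)
    haveI : ((n.comap (algebraMap A S)).comap (algebraMap C A)).IsMaximal := by
      rw [← (maximalIdeal.isMaximal C).eq_of_le (Ideal.IsPrime.comap _).ne_top hle]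
      exact maximalIdeal.isMaximal C
    exact (IsLocalRing.eq_maximalIdeal
      (Ideal.isMaximal_of_isIntegral_of_isMaximal_comap (R := C) (n.comap (algebraMap A S)) this)).ge
  haveI : Nontrivial S := hρ's.nontrivial (f := ρ')
  haveI : IsLocalHom ρ'.toRingHom := by
    refine ⟨fun z hz => ?_⟩
    by_contra hnu
    obtain ⟨n, hn, hzn⟩ := exists_max_ideal_of_mem_nonunits hnu
    have hle : RingHom.ker ρ'.toRingHom ≤ n := (hS0 n hn).ge.trans' le_sup_left
    obtain ⟨y, hy⟩ := hρ's ↑hz.unit⁻¹
    have h1 : z * y - 1 ∈ RingHom.ker ρ'.toRingHom := by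
      rw [RingHom.mem_ker]
      show ρ' (z * y - 1) = 0
      rw [map_sub, map_mul, map_one, hy]
      exact sub_eq_zero.mpr hz.mul_val_inv
    refine hn.ne_top ((Ideal.eq_top_iff_one _).mpr ?_)
    have := n.sub_mem (n.mul_mem_right y hzn) (hle h1)
    rwa [sub_sub_cancel] at this
  haveI : IsLocalRing S := RingHom.domain_isLocalRing ρ'.toRingHom
  haveI : IsAdicComplete (maximalIdeal S) S := by
    haveI : IsAdicComplete ((maximalIdeal T).map (algebraMap T S)) S :=
      (IsAdicComplete.map_algebraMap_iff (S := S) (maximalIdeal T) S).mpr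
        (AdicLib.isAdicComplete_of_finite (maximalIdeal T) S)
    have hle : (maximalIdeal T).map (algebraMap T S) ≤ maximalIdeal S :=
      IsLocalRing.le_maximalIdeal fun h => by
        have := IsAdicComplete.le_jacobson_bot ((maximalIdeal T).map (algebraMap T S))
        rw [h, top_le_iff, Ideal.jacobson_eq_top_iff] at this
        exact bot_ne_top this
    haveI : IsArtinianRing (S ⧸ (maximalIdeal T).map (algebraMap T S)) := by
      letI := Ideal.Quotient.field (maximalIdeal T)
      haveI : Module.Finite (T ⧸ maximalIdeal T) (S ⧸ (maximalIdeal T).map (algebraMap T S)) :=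
        Module.Finite.of_restrictScalars_finite T _ _
      exact IsArtinianRing.of_finite (T ⧸ maximalIdeal T) _
    obtain ⟨N, hN⟩ := IsArtinianRing.isNilpotent_jacobson_bot (R := S ⧸ (maximalIdeal T).map (algebraMap T S))
    have hN' : maximalIdeal S ^ (N + 1) ≤ (maximalIdeal T).map (algebraMap T S) := by
      rw [← Ideal.mk_ker (I := (maximalIdeal T).map (algebraMap T S)), ← Ideal.map_eq_bot_iff_le_ker,
        Ideal.map_pow, eq_bot_iff]
      refine (Ideal.pow_right_mono (J := (⊥ : Ideal (S ⧸ (maximalIdeal T).map (algebraMap T S))).jacobson) ?_ _).trans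
        ((Ideal.pow_le_pow_right N.le_succ).trans hN.le)
      refine le_trans (Ideal.map_mono (IsLocalRing.maximalIdeal_le_jacobson (⊥ : Ideal S))) ?_
      intro y hy
      obtain ⟨s, hs, rfl⟩ := (Ideal.mem_map_iff_of_surjective _ Ideal.Quotient.mk_surjective).mp hy
      rw [Ideal.mem_jacobson_bot]
      intro z
      obtain ⟨z, rfl⟩ := Ideal.Quotient.mk_surjective z
      rw [← map_mul, ← map_one (Ideal.Quotient.mk _), ← map_add]
      exact (Ideal.mem_jacobson_bot.mp hs z).map _
    exact (AdicLib.iff_of_pow_le (M := S) Nat.one_pos N.succ_pos (by rw [pow_one]; exact hle) hN').mp inferInstance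
  exact exists_equiv_cpl_of_fs hfs ρ'.toRingHom hρ's hker' fun a => (ρ'.commutes a).trans (hαA' a)

end Groth.Agent.RegFS6
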