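import Groth.Agent.RegFS6.PSRegSeq
import Groth.Agent.RegFS6.Perfect
import Groth.Agent.CohenLib.PowerSeries
import Groth.Agent.CplFib6.Quot

/-!
# Flat covers of power series over a residue field
-/

set_option linter.style.haveILetI false

namespace Groth.Agent.RegFS6

universe u

open IsLocalRing RingTheory.Sequence

/-- A Cohen ring maps to a complete ring along a given map to the first quotient. -/
theorem exists_lift_cohenRing (Λ : Type u) [CommRing Λ] [IsDomain Λ] [IsDiscreteValuationRing Λ]
    [IsAdicComplete (maximalIdeal Λ) Λ] {p : ℕ} (hp : p.Prime)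
    (hm : maximalIdeal Λ = Ideal.span {(p : Λ)}) {R : Type u} [CommRing R] (I : Ideal R)
    [IsAdicComplete I R] (hpR : (p : R) ∈ I) (φ : Λ →+* R ⧸ I) :
    ∃ σ : Λ →+* R, (Ideal.Quotient.mk I).comp σ = φ := by
  have step : ∀ (n : ℕ) (f : Λ →+* R ⧸ I ^ (n + 1)), ∃ g : Λ →+* R ⧸ I ^ (n + 2),
      (Ideal.Quotient.factor (Ideal.pow_le_pow_right (Nat.le_succ (n + 1)))).comp g = f := by
    intro n f
    refine CohenLib.exists_lift_step Λ hp hm _ (Ideal.Quotient.factor_surjective _) ?_ (N := n + 2)
      (by omega) ?_ f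
    · rw [Ideal.Quotient.factor_ker, ← Ideal.map_pow, Ideal.map_eq_bot_iff_le_ker, Ideal.mk_ker,
        ← pow_mul]
      exact Ideal.pow_le_pow_right (by omega)
    · rw [← map_natCast (Ideal.Quotient.mk _), ← map_pow, Ideal.Quotient.eq_zero_iff_mem]
      exact Ideal.pow_mem_pow hpR _
  choose g hg using step
  let e₁ : R ⧸ I →+* R ⧸ I ^ (0 + 1) := Ideal.Quotient.factor (le_of_eq (by rw [zero_add, pow_one]))
  let F : (n : ℕ) → (Λ →+* R ⧸ I ^ (n + 1)) := fun n => Nat.rec (e₁.comp φ) (fun k f => g k f) n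
  have hF : ∀ {i j : ℕ} (hij : i ≤ j),
      (Ideal.Quotient.factor (Ideal.pow_le_pow_right (Nat.succ_le_succ hij) :
        I ^ (j + 1) ≤ I ^ (i + 1))).comp (F j) = F i := by
    intro i j hij
    induction j, hij using Nat.le_induction with
    | base => exact RingHom.ext fun x => by simp [Ideal.Quotient.factor_eq]
    | succ j hij ih =>
      rw [← ih]
      conv_rhs => rw [← hg j (F j)]
      rw [← RingHom.comp_assoc, Ideal.Quotient.factor_comp]
  let G : (n : ℕ) → (Λ →+* R ⧸ I ^ n) := fun n =>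
    (Ideal.Quotient.factor (Ideal.pow_le_pow_right (Nat.le_succ n))).comp (F n)
  have hG : ∀ {i j : ℕ} (hle : i ≤ j), (Ideal.Quotient.factorPow I hle).comp (G j) = G i := by
    intro i j hle
    show _ = (Ideal.Quotient.factor _).comp (F i)
    rw [← hF hle, ← RingHom.comp_assoc, ← RingHom.comp_assoc, Ideal.Quotient.factor_comp,
      Ideal.Quotient.factor_comp]
  refine ⟨IsAdicComplete.liftRingHom I G hG, RingHom.ext fun c => ?_⟩
  have h1 := IsAdicComplete.mk_liftRingHom I G hG 1 c
  have h2 : G 1 c = Ideal.Quotient.factor (S := I) (T := I ^ 1) (pow_one I).ge (φ c) := by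
    have h3 := RingHom.congr_fun (hF (Nat.zero_le 1)) c
    have h4 : F 0 c = e₁ (φ c) := rfl
    rw [h4] at h3
    exact h3
  obtain ⟨a, ha⟩ := Ideal.Quotient.mk_surjective (φ c)
  rw [h2, ← ha] at h1
  show Ideal.Quotient.mk I _ = φ c
  rw [← ha, Ideal.Quotient.eq]
  exact (pow_one I).le ((Ideal.Quotient.eq (I := I ^ 1)).1 (h1.trans (Ideal.Quotient.factor_mk _ a)))

section Core

variable {Λ Λ' K : Type u} [CommRing Λ] [IsLocalRing Λ] [CommRing Λ'] [IsLocalRing Λ'] [Field K]

variable {n m : ℕ}

/-- Kill the first variables and reduce the coefficients. -/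
noncomputable def reduce (π : Λ' →+* K) : MvPowerSeries (Fin (n + m)) Λ' →+* MvPowerSeries (Fin m) K :=
  (MvPowerSeries.map π).comp (MvPowerSeries.killCompl (R := Λ')
    ⟨Fin.natAdd n, Fin.natAdd_injective m n⟩).toRingHom

theorem reduce_surjective (π : Λ' →+* K) (hπ : Function.Surjective π) :
    Function.Surjective (reduce (n := n) (m := m) π) := by
  intro g
  choose c hc using fun d => hπ (MvPowerSeries.coeff d g)
  let e : Fin m ↪ Fin (n + m) := ⟨Fin.natAdd n, Fin.natAdd_injective m n⟩
  let gc : MvPowerSeries (Fin m) Λ' := c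
  refine ⟨MvPowerSeries.rename e gc, ?_⟩
  refine MvPowerSeries.ext fun d => ?_
  show MvPowerSeries.coeff d (MvPowerSeries.map π (MvPowerSeries.killCompl e (MvPowerSeries.rename e gc))) = _
  rw [MvPowerSeries.killCompl_rename_app]
  rw [MvPowerSeries.coeff_map]
  exact hc d

theorem reduce_C (π : Λ' →+* K) (c : Λ') :
    reduce (n := n) (m := m) π (MvPowerSeries.C c) = MvPowerSeries.C (π c) := by
  simp [reduce, MvPowerSeries.map_C]

theorem reduce_X (π : Λ' →+* K) (i : Fin n) :
    reduce (n := n) (m := m) π (MvPowerSeries.X (Fin.castAdd m i)) = 0 := by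
  simp only [reduce, RingHom.comp_apply, AlgHom.toRingHom_eq_coe, RingHom.coe_coe]
  rw [MvPowerSeries.killCompl_X_eq_zero, map_zero]
  rintro ⟨j, hj⟩
  have := congrArg Fin.val hj
  simp [Fin.natAdd, Fin.castAdd] at this
  omega

/-- The kernel of the reduction. -/
theorem ker_reduce (π : Λ' →+* K) (l : List ℕ) (hker : RingHom.ker π = Ideal.ofList (l.map (Nat.cast : ℕ → Λ')))
    (hl : l = [] ∨ ∃ p, l = [p]) :
    RingHom.ker (reduce (n := n) (m := m) π) = Ideal.ofList ((List.ofFn fun i : Fin n =>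
      (MvPowerSeries.X (Fin.castAdd m i) : MvPowerSeries (Fin (n + m)) Λ')) ++ l.map Nat.cast) := by
  classical
  have hnat : ∀ p : ℕ, (p : MvPowerSeries (Fin (n + m)) Λ') = MvPowerSeries.C (p : Λ') := fun p =>
    (map_natCast (MvPowerSeries.C (σ := Fin (n + m))) p).symm
  refine le_antisymm (fun f hf => ?_) ?_
  · let s : Finset (Fin (n + m)) := Finset.univ.image (Fin.castAdd m)
    have hs : ∀ d : Fin (n + m) →₀ ℕ, (∀ i ∈ s, d i = 0) →
        MvPowerSeries.coeff d f ∈ RingHom.ker π := by
      intro d hd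
      have hd' : d ∈ Set.range (Finsupp.embDomain (⟨Fin.natAdd n, Fin.natAdd_injective m n⟩ : Fin m ↪ Fin (n + m))) := by
        rw [Finsupp.mem_range_embDomain_iff]
        intro t ht
        induction t using Fin.addCases with
        | left i => exact absurd (hd _ (Finset.mem_image_of_mem _ (Finset.mem_univ i))) (Finsupp.mem_support_iff.mp ht)
        | right j => exact ⟨j, rfl⟩
      obtain ⟨x, rfl⟩ := hd'
      have h := congrArg (MvPowerSeries.coeff x) (show reduce (n := n) (m := m) π f = 0 from hf)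
      simpa [reduce, MvPowerSeries.coeff_map, MvPowerSeries.coeff_killCompl] using h
    rw [Ideal.ofList_append]
    have hX : Ideal.span ((fun i => (MvPowerSeries.X i : MvPowerSeries (Fin (n + m)) Λ')) '' (s : Set (Fin (n + m)))) =
        Ideal.ofList (List.ofFn fun i : Fin n => (MvPowerSeries.X (Fin.castAdd m i) : MvPowerSeries (Fin (n + m)) Λ')) := by
      rw [Ideal.ofList]
      congr 1
      ext x
      simp [s, List.mem_ofFn, eq_comm]
    rcases hl with rfl | ⟨p, rfl⟩
    · refine Submodule.mem_sup_left (hX ▸ mem_span_X_of_coeff s f fun d hd => ?_)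
      have := hs d hd
      rw [hker, List.map_nil, Ideal.ofList_nil] at this
      exact this
    · have hp : ∀ d : Fin (n + m) →₀ ℕ, ∃ c : Λ',
          (∀ i ∈ s, d i = 0) → MvPowerSeries.coeff d f = (p : Λ') * c := fun d => by
        by_cases hd : ∀ i ∈ s, d i = 0
        · have := hs d hd
          rw [hker, List.map_singleton, Ideal.ofList_singleton, Ideal.mem_span_singleton] at this
          obtain ⟨c, hc⟩ := this
          exact ⟨c, fun _ => hc⟩
        · exact ⟨0, fun h => absurd h hd⟩
      choose c hc using hp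
      let gc : MvPowerSeries (Fin (n + m)) Λ' := c
      rw [show f = (f - MvPowerSeries.C (p : Λ') * gc) + MvPowerSeries.C (p : Λ') * gc by ring]
      refine Submodule.add_mem_sup (hX ▸ mem_span_X_of_coeff s _ fun d hd => ?_) ?_
      · rw [map_sub, MvPowerSeries.coeff_C_mul, hc d hd]
        exact sub_self _
      · rw [List.map_singleton, Ideal.ofList_singleton, hnat]
        exact Ideal.mul_mem_right _ _ (Ideal.mem_span_singleton_self _)
  · rw [Ideal.ofList, Ideal.span_le]
    intro x hx
    simp only [Set.mem_setOf_eq, List.mem_append, List.mem_ofFn, List.mem_map] at hx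
    rw [SetLike.mem_coe, RingHom.mem_ker]
    rcases hx with ⟨i, rfl⟩ | ⟨p, hp, rfl⟩
    · exact reduce_X π i
    · rw [hnat, reduce_C, show π (p : Λ') = 0 from RingHom.mem_ker.mp (hker ▸ Ideal.subset_span
        (List.mem_map_of_mem hp)), map_zero]

/-- The cover of power series over the residue field. -/
theorem exists_cover_core [IsNoetherianRing (MvPowerSeries (Fin n) Λ)] [IsNoetherianRing (MvPowerSeries (Fin (n + m)) Λ')]
    [IsAdicComplete (maximalIdeal (MvPowerSeries (Fin (n + m)) Λ')) (MvPowerSeries (Fin (n + m)) Λ')]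
    (π : Λ' →+* K) (hπ : Function.Surjective π) (l : List ℕ)
    (hl : l = [] ∨ ∃ p, l = [p] ∧ IsSMulRegular Λ' (p : Λ'))
    (hΛ : maximalIdeal Λ = Ideal.ofList (l.map (Nat.cast : ℕ → Λ)))
    (hΛ' : maximalIdeal Λ' = Ideal.ofList (l.map (Nat.cast : ℕ → Λ')))
    (g : Λ →+* MvPowerSeries (Fin (n + m)) Λ') :
    ∃ G : MvPowerSeries (Fin n) Λ →+* MvPowerSeries (Fin (n + m)) Λ',
      (∀ c, G (MvPowerSeries.C c) = g c) ∧ G.Flat ∧
        RingHom.ker (reduce π) = (maximalIdeal (MvPowerSeries (Fin n) Λ)).map G := by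
  let R := MvPowerSeries (Fin (n + m)) Λ'
  let S := MvPowerSeries (Fin n) Λ
  letI : Algebra Λ R := g.toAlgebra
  obtain ⟨φ, hφ⟩ := PSLib.exists_algHom (R := Λ) (maximalIdeal R) (fun i : Fin n => MvPowerSeries.X (Fin.castAdd m i))
    fun i => by rw [CohenLib.mem_maximalIdeal_mvPowerSeries_iff, MvPowerSeries.constantCoeff_X]; exact zero_mem _
  have hkerπ : RingHom.ker π = maximalIdeal Λ' := IsLocalRing.eq_maximalIdeal (RingHom.ker_isMaximal_of_surjective _ hπ)
  have hker := ker_reduce (n := n) (m := m) π l (hkerπ.trans hΛ') (hl.imp id fun ⟨p, hp, _⟩ => ⟨p, hp⟩)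
  let rs : List S := (List.ofFn fun i : Fin n => (MvPowerSeries.X i : S)) ++ l.map Nat.cast
  have hrs : maximalIdeal S = Ideal.ofList rs := by
    refine le_antisymm (fun f hf => ?_) ?_
    · rw [CohenLib.mem_maximalIdeal_mvPowerSeries_iff, hΛ] at hf
      rw [show f = (f - MvPowerSeries.C (MvPowerSeries.constantCoeff f)) + MvPowerSeries.C (MvPowerSeries.constantCoeff f) by ring,
        Ideal.ofList_append]
      refine Submodule.add_mem_sup ?_ ?_
      · have h1 : f - MvPowerSeries.C (MvPowerSeries.constantCoeff f) ∈ PSLib.vars n Λ := PSLib.mem_vars_iff.mpr (by simp)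
        refine Ideal.span_mono (t := {x | x ∈ List.ofFn fun i : Fin n => (MvPowerSeries.X i : S)}) ?_ h1
        rintro _ ⟨i, rfl⟩
        exact List.mem_ofFn.mpr ⟨i, rfl⟩
      · have h1 := Ideal.mem_map_of_mem (MvPowerSeries.C (σ := Fin n)) hf
        rw [Ideal.map_ofList, List.map_map] at h1
        convert h1 using 3
        exact funext fun p => (map_natCast (MvPowerSeries.C (σ := Fin n) (R := Λ)) p).symm
    · rw [Ideal.ofList, Ideal.span_le]
      intro x hx
      simp only [Set.mem_setOf_eq, rs, List.mem_append, List.mem_ofFn, List.mem_map] at hx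
      rw [SetLike.mem_coe, CohenLib.mem_maximalIdeal_mvPowerSeries_iff]
      rcases hx with ⟨i, rfl⟩ | ⟨p, hp, rfl⟩
      · rw [MvPowerSeries.constantCoeff_X]; exact zero_mem _
      · rw [map_natCast]
        exact hΛ ▸ Ideal.subset_span (List.mem_map_of_mem hp)
  have himg : rs.map φ.toRingHom = (List.ofFn fun i : Fin n => (MvPowerSeries.X (Fin.castAdd m i) : R)) ++ l.map Nat.cast := by
    rw [List.map_append, List.map_ofFn, List.map_map]
    congr 1
    · exact congrArg List.ofFn (funext hφ)
    · exact List.map_congr_left fun p _ => map_natCast φ.toRingHom p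
  have hker' : RingHom.ker (reduce π) = (maximalIdeal S).map φ.toRingHom := by
    rw [hrs, Ideal.map_ofList, himg, hker]
  have hreg : IsWeaklyRegular R (rs.map φ.toRingHom) := by
    rw [himg, show l.map (Nat.cast : ℕ → R) = (l.map (Nat.cast : ℕ → Λ')).map MvPowerSeries.C by
      rw [List.map_map]; exact List.map_congr_left fun p _ => (map_natCast (MvPowerSeries.C (σ := Fin (n + m))) p).symm]
    refine isWeaklyRegular_vars_append Λ' n m _ ?_
    rcases hl with rfl | ⟨p, rfl, hp⟩
    · exact Or.inl rfl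
    · exact Or.inr ⟨_, rfl, hp⟩
  refine ⟨φ.toRingHom, fun c => φ.commutes c, ?_, hker'⟩
  letI : Algebra S R := φ.toRingHom.toAlgebra
  show Module.Flat S R
  refine LocalCrit.flat_of_le_jacobson (B := R) (M := R) (maximalIdeal S) ?_ ?_ (LocalCrit.keepsInjective_of_isMaximal _ _)
  · refine le_trans ?_ (IsLocalRing.maximalIdeal_le_jacobson (⊥ : Ideal R))
    show (maximalIdeal S).map φ.toRingHom ≤ _
    rw [← hker']
    exact IsLocalRing.le_maximalIdeal (RingHom.ker_ne_top _)
  · rw [hrs]
    exact FlatLoc6.rTensor_ofList_injective rs ((isWeaklyRegular_map_algebraMap_iff R R rs).mp hreg)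

end Core

/-- Flat covers of power series over an extension of the residue field. -/
theorem exists_cover {Λ : Type u} [CommRing Λ] [IsLocalRing Λ] (hΛ : IsField Λ ∨ CAlg.IsCohenRing Λ) (n : ℕ)
    {K : Type u} [Field K] {m : ℕ} (h : Λ →+* MvPowerSeries (Fin m) K) (hh : ∀ c ∈ maximalIdeal Λ, h c = 0) :
    ∃ (R : Type u) (_ : CommRing R) (_ : IsLocalRing R) (_ : IsNoetherianRing R)
      (G : MvPowerSeries (Fin n) Λ →+* R) (ρ : R →+* MvPowerSeries (Fin m) K),
      IsAdicComplete (maximalIdeal R) R ∧ G.Flat ∧ Function.Surjective ρ ∧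
        RingHom.ker ρ = (maximalIdeal (MvPowerSeries (Fin n) Λ)).map G ∧
        ∀ c, ρ (G (MvPowerSeries.C c)) = h c := by
  haveI := (CohenLib.isRegular_complete_mvPowerSeries hΛ n).1
  rcases hΛ with hF | hC
  · -- a field
    have hm0 : maximalIdeal Λ = ⊥ := IsLocalRing.isField_iff_maximalIdeal_eq.1 hF
    obtain ⟨hN, _, hc⟩ := CohenLib.isRegular_complete_mvPowerSeries (Λ := K) (Or.inl (Field.toIsField K)) (n + m)
    let e : Fin m ↪ Fin (n + m) := ⟨Fin.natAdd n, Fin.natAdd_injective m n⟩
    obtain ⟨G, hG, hflat, hker⟩ := exists_cover_core (Λ := Λ) (n := n) (m := m) (RingHom.id K)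
      Function.surjective_id [] (Or.inl rfl) (by rw [hm0, List.map_nil, Ideal.ofList_nil])
      (by rw [IsLocalRing.maximalIdeal_eq_bot, List.map_nil, Ideal.ofList_nil])
      ((MvPowerSeries.rename (R := K) e).toRingHom.comp h)
    refine ⟨MvPowerSeries (Fin (n + m)) K, inferInstance, inferInstance, hN, G, reduce (RingHom.id K), hc, hflat,
      reduce_surjective _ Function.surjective_id, hker, fun c => ?_⟩
    rw [hG]
    simp only [reduce, RingHom.comp_apply, AlgHom.toRingHom_eq_coe, RingHom.coe_coe, MvPowerSeries.map_id]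
    exact MvPowerSeries.killCompl_rename_app (h c)
  · -- a Cohen ring
    obtain ⟨hdom, hdvr, hcΛ, p, hp, hpm⟩ := hC
    have hpK : (p : K) = 0 := by
      have h1 := hh p (hpm ▸ Ideal.mem_span_singleton_self _)
      have h2 := congrArg MvPowerSeries.constantCoeff h1
      rwa [map_natCast, map_natCast, map_zero] at h2
    haveI := Fact.mk hp
    haveI : CharP K p := CharP.of_ringHom_of_ne_zero (ZMod.castHom (ringChar.dvd hpK) K) p hp.ne_zero
    obtain ⟨Λ', _, _, hΛ', ⟨e⟩⟩ := CohenLib.exists_isCohenRing p K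
    obtain ⟨hN, _, hc⟩ := CohenLib.isRegular_complete_mvPowerSeries (Or.inr hΛ') (n + m)
    obtain ⟨hdom', hdvr', hcΛ', q, hq, hqm⟩ := hΛ'
    have hqp : q = p := by
      have h0 : e (residue Λ' (q : Λ')) = 0 := by
        rw [(residue_eq_zero_iff _).2 (hqm ▸ Ideal.mem_span_singleton_self _), map_zero]
      rw [map_natCast, map_natCast, CharP.cast_eq_zero_iff K p] at h0
      exact ((Nat.prime_dvd_prime_iff_eq hp hq).mp h0).symm
    subst hqp
    let π : Λ' →+* K := e.toRingHom.comp (residue Λ')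
    have hπ : Function.Surjective π := e.surjective.comp residue_surjective
    let R := MvPowerSeries (Fin (n + m)) Λ'
    let ρ := reduce (n := n) (m := m) π
    have hρ : Function.Surjective ρ := reduce_surjective π hπ
    let E := RingHom.quotientKerEquivOfSurjective hρ
    haveI : IsAdicComplete (RingHom.ker ρ) R := S0546.result R (RingHom.ker ρ) (maximalIdeal R)
      (IsLocalRing.le_maximalIdeal (RingHom.ker_ne_top _)) (IsNoetherian.noetherian _) R
    obtain ⟨g, hg⟩ := exists_lift_cohenRing Λ hp hpm (RingHom.ker ρ) (by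
      rw [RingHom.mem_ker, map_natCast, ← map_natCast (MvPowerSeries.C (σ := Fin m) (R := K)), hpK, map_zero])
      (E.symm.toRingHom.comp h)
    have hsm : IsSMulRegular Λ' (q : Λ') := IsSMulRegular.of_ne_zero fun h0 =>
      IsDiscreteValuationRing.not_a_field Λ' (by rw [hqm, h0]; exact Ideal.span_singleton_eq_bot.2 rfl)
    obtain ⟨G, hG, hflat, hker⟩ := exists_cover_core (Λ := Λ) (n := n) (m := m) π hπ [q] (Or.inr ⟨q, rfl, hsm⟩)
      (by rw [List.map_singleton, Ideal.ofList_singleton]; exact hpm)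
      (by rw [List.map_singleton, Ideal.ofList_singleton]; exact hqm) g
    refine ⟨R, inferInstance, inferInstance, hN, G, ρ, hc, hflat, hρ, hker, fun c => ?_⟩
    rw [hG, ← RingHom.quotientKerEquivOfSurjective_apply_mk hρ (g c)]
    show E (Ideal.Quotient.mk _ (g c)) = h c
    rw [show Ideal.Quotient.mk _ (g c) = E.symm (h c) from RingHom.congr_fun hg c, E.apply_symm_apply]

end Groth.Agent.RegFS6
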