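import Groth.Agent.RegFS6.Field
import Groth.Agent.RegLoc6.Seq
import Mathlib.RingTheory.Flat.Equalizer

/-!
# Formal smoothness of flat local homomorphisms with smooth closed fibre
-/

set_option linter.style.haveILetI false

namespace Groth.Agent.RegFS6

universe u

open IsLocalRing TensorProduct RingTheory.Sequence

/-- If a lifted sequence is regular on the quotient, its ideal meets the kernel in the product. -/
theorem mem_mul_ker_of_isWeaklyRegular {P B : Type u} [CommRing P] [CommRing B] (π : P →+* B)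
    (hπ : Function.Surjective π) (Ys : List P) (hreg : IsWeaklyRegular B (Ys.map π)) :
    ∀ u ∈ Ideal.ofList Ys, π u = 0 → u ∈ Ideal.ofList Ys * RingHom.ker π := by
  suffices H : ∀ n, n ≤ Ys.length → ∀ u ∈ Ideal.ofList (Ys.take n), π u = 0 →
      u ∈ Ideal.ofList (Ys.take n) * RingHom.ker π by
    intro u hu hu0
    have := H Ys.length le_rfl u (by rwa [List.take_length]) hu0
    rwa [List.take_length] at this
  intro n
  induction n with
  | zero =>
    intro _ u hu _
    rw [List.take_zero, Ideal.ofList_nil, Ideal.mem_bot] at hu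
    rw [hu]
    exact zero_mem _
  | succ n ih =>
    intro hn u hu hu0
    have hn' : n < Ys.length := hn
    have htake : Ideal.ofList (Ys.take (n + 1)) = Ideal.ofList (Ys.take n) ⊔ Ideal.span {Ys[n]} := by
      rw [List.take_succ_eq_append_getElem hn', Ideal.ofList_append, Ideal.ofList_singleton]
    rw [htake] at hu
    obtain ⟨v, hv, w, hw, rfl⟩ := Submodule.mem_sup.mp hu
    obtain ⟨a, rfl⟩ := Ideal.mem_span_singleton'.mp hw
    have hmap : (Ideal.ofList (Ys.take n)).map π = Ideal.ofList ((Ys.map π).take n) := by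
      rw [Ideal.map_ofList, List.map_take]
    have h1 := hreg.regular_mod_prev n (by rwa [List.length_map])
    have h2 : π a ∈ Ideal.ofList ((Ys.map π).take n) := by
      have h3 : π a * π Ys[n] ∈ Ideal.ofList ((Ys.map π).take n) := by
        rw [map_add, map_mul, add_eq_zero_iff_eq_neg] at hu0
        rw [← neg_mem_iff, ← hu0, ← hmap]
        exact Ideal.mem_map_of_mem π hv
      have h4 := h1.right_eq_zero_of_smul
        (x := Submodule.Quotient.mk (π a)) (by
          rw [List.getElem_map, ← Submodule.Quotient.mk_smul, Submodule.Quotient.mk_eq_zero, smul_eq_mul,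
            smul_eq_mul, Ideal.mul_top, mul_comm]
          exact h3)
      rwa [Submodule.Quotient.mk_eq_zero, smul_eq_mul, Ideal.mul_top] at h4
    rw [← hmap, Ideal.mem_map_iff_of_surjective π hπ] at h2
    obtain ⟨b, hb, hba⟩ := h2
    have he : a - b ∈ RingHom.ker π := by rw [RingHom.mem_ker, map_sub, hba, sub_self]
    have h5 := ih hn'.le (v + b * Ys[n]) (add_mem hv (Ideal.mul_mem_right _ _ hb)) (by
      rw [map_add, map_mul, hba, ← map_mul, ← map_add]; exact hu0)
    rw [htake, Ideal.sup_mul, show v + a * Ys[n] = (v + b * Ys[n]) + Ys[n] * (a - b) by ring]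
    exact Submodule.add_mem_sup h5 (Ideal.mul_mem_mul (Ideal.mem_span_singleton_self _) he)

/-- A flat quotient meets the extension of an ideal of the base in the product. -/
theorem mem_map_mul_ker_of_flat {A P B : Type u} [CommRing A] [CommRing P] [CommRing B] [Algebra A P] [Algebra A B]
    [Module.Flat A B] (π : P →ₐ[A] B) (hπ : Function.Surjective π) (𝔞 : Ideal A) {x : P}
    (hx : x ∈ RingHom.ker π) (hxa : x ∈ 𝔞.map (algebraMap A P)) :
    x ∈ 𝔞.map (algebraMap A P) * RingHom.ker π := by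
  let I := LinearMap.ker π.toLinearMap
  have hinj := LinearMap.lTensor_injective_of_exact_of_flat π.toLinearMap hπ I.subtype I.injective_subtype
    (LinearMap.exact_subtype_ker_map _) (A ⧸ 𝔞)
  have h0 : (1 : A ⧸ 𝔞) ⊗ₜ[A] (⟨x, hx⟩ : I) = 0 := by
    refine hinj ?_
    rw [map_zero, LinearMap.lTensor_tmul]
    refine (TensorProduct.quotTensorEquivQuotSMul P 𝔞).injective ?_
    rw [map_zero]
    show TensorProduct.quotTensorEquivQuotSMul P 𝔞 ((Ideal.Quotient.mk 𝔞 1) ⊗ₜ[A] x) = 0
    rw [TensorProduct.quotTensorEquivQuotSMul_mk_tmul, one_smul, Submodule.Quotient.mk_eq_zero,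
      Ideal.smul_top_eq_map]
    exact hxa
  have h1 : (⟨x, hx⟩ : I) ∈ 𝔞 • (⊤ : Submodule A I) := by
    have := congrArg (TensorProduct.quotTensorEquivQuotSMul I 𝔞) h0
    rw [map_zero, show (1 : A ⧸ 𝔞) = Ideal.Quotient.mk 𝔞 1 from rfl,
      TensorProduct.quotTensorEquivQuotSMul_mk_tmul, one_smul, Submodule.Quotient.mk_eq_zero] at this
    exact this
  suffices H : ∀ y : I, y ∈ 𝔞 • (⊤ : Submodule A I) → (y : P) ∈ 𝔞.map (algebraMap A P) * RingHom.ker π from
    H _ h1
  intro y hy
  induction hy using Submodule.smul_induction_on' with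
  | smul a ha z _ =>
    rw [Submodule.coe_smul, Algebra.smul_def]
    exact Ideal.mul_mem_mul (Ideal.mem_map_of_mem _ ha) z.2
  | add a _ b _ ha hb => exact add_mem ha hb

/-- Extend a linear map into a module killed by a maximal ideal. -/
theorem exists_extend_of_isTorsionBySet {R V W : Type u} [CommRing R] [AddCommGroup V] [Module R V] [AddCommGroup W]
    [Module R W] {M : Ideal R} [M.IsMaximal] (hV : Module.IsTorsionBySet R V M) {U : Type u} [AddCommGroup U]
    [Module R U] (ι : U →ₗ[R] V) (f : U →ₗ[R] W) (hker : LinearMap.ker ι ≤ LinearMap.ker f) :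
    ∃ g : V →ₗ[R] W, ∀ u, g (ι u) = f u := by
  haveI : IsSemisimpleModule R V := by
    letI := hV.module
    letI : Field (R ⧸ M) := Ideal.Quotient.field M
    exact hV.isSemisimpleModule_iff.mp inferInstance
  obtain ⟨S, hS⟩ := exists_isCompl (LinearMap.range ι)
  refine ⟨LinearMap.ofIsCompl hS (((LinearMap.ker ι).liftQ f hker).comp ι.quotKerEquivRange.symm.toLinearMap) 0,
    fun u => ?_⟩
  refine (LinearMap.ofIsCompl_left_apply hS ⟨ι u, LinearMap.mem_range_self ι u⟩).trans ?_
  rw [LinearMap.comp_apply]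
  erw [LinearMap.quotKerEquivRange_symm_apply_image]
  rfl

/-- Lifting of the closed fibre. -/
def FibreLift (A B : Type u) [CommRing A] [CommRing B] [IsLocalRing A] [IsLocalRing B] [Algebra A B] : Prop :=
  ∀ (E : Type u) [CommRing E] [Algebra A E], (∀ a ∈ maximalIdeal A, algebraMap A E a = 0) →
    ∀ (J : Ideal E), J ^ 2 = ⊥ → ∀ ψ : B →ₐ[A] E ⧸ J, (∀ x ∈ maximalIdeal B, ψ x = 0) →
      ∃ χ : B →ₐ[A] E, (Ideal.Quotient.mkₐ A J).comp χ = ψ

/-- The conormal map of a smooth closed fibre is injective at the closed point. -/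
theorem mem_mul_ker_of_mem_sq {A P B : Type u} [CommRing A] [CommRing B] [CommRing P] [IsLocalRing A] [IsLocalRing B]
    [Algebra A P] [Algebra A B] [IsLocalHom (algebraMap A B)] [Module.Flat A B]
    [IsRegularLocalRing (B ⧸ (maximalIdeal A).map (algebraMap A B))] (π : P →ₐ[A] B) (hπ : Function.Surjective π)
    (p : P) (hp : p ∈ RingHom.ker π)
    (hpN : p ∈ (maximalIdeal B).comap π * (maximalIdeal B).comap π ⊔ (maximalIdeal A).map (algebraMap A P)) :
    p ∈ (maximalIdeal B).comap π * RingHom.ker π := by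
  let I : Ideal P := RingHom.ker π
  let M : Ideal P := (maximalIdeal B).comap π
  let mP : Ideal P := (maximalIdeal A).map (algebraMap A P)
  let B₀ := B ⧸ (maximalIdeal A).map (algebraMap A B)
  let π₀ : P →+* B₀ := (Ideal.Quotient.mk _).comp π.toRingHom
  have hπ₀ : Function.Surjective π₀ := Ideal.Quotient.mk_surjective.comp hπ
  have hker : RingHom.ker π₀ = I ⊔ mP := by
    show Ideal.comap π.toRingHom (RingHom.ker (Ideal.Quotient.mk _)) = _
    rw [Ideal.mk_ker, ← π.comp_algebraMap, ← Ideal.map_map]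
    exact Ideal.comap_map_of_surjective' π.toRingHom hπ mP |>.trans (sup_comm _ _)
  obtain ⟨rs, hrs, hrsm⟩ := RegLoc6.exists_regularSequence_maximalIdeal B₀
  choose Y hY using hπ₀
  let Ys := rs.map Y
  have hYs : Ys.map π₀ = rs := by
    rw [List.map_map, show π₀ ∘ Y = id from funext hY, List.map_id]
  have hM : M = Ideal.ofList Ys ⊔ (I ⊔ mP) := by
    rw [← hker, ← Ideal.comap_map_of_surjective' π₀ (fun b => ⟨Y b, hY b⟩), Ideal.map_ofList, hYs, hrsm]
    show Ideal.comap π.toRingHom _ = Ideal.comap π.toRingHom (Ideal.comap (Ideal.Quotient.mk _) (maximalIdeal B₀))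
    have h1 : (maximalIdeal B₀).comap (Ideal.Quotient.mk ((maximalIdeal A).map (algebraMap A B))) = maximalIdeal B :=
      IsLocalRing.eq_maximalIdeal (Ideal.comap_isMaximal_of_surjective _ Ideal.Quotient.mk_surjective)
    rw [h1]
  have hle : M * M ⊔ mP ≤ Ideal.ofList Ys ⊔ (M * I ⊔ mP) := by
    refine sup_le ?_ (le_sup_right.trans le_sup_right)
    refine (Ideal.mul_mono le_rfl hM.le).trans ?_
    rw [Ideal.mul_sup, Ideal.mul_sup]
    have e1 : M * Ideal.ofList Ys ≤ Ideal.ofList Ys := Ideal.mul_le_right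
    have e2 : M * mP ≤ mP := Ideal.mul_le_right
    exact sup_le (le_trans e1 le_sup_left)
      (sup_le (le_trans (le_sup_left (a := M * I) (b := mP)) le_sup_right)
        (le_trans e2 (le_trans (le_sup_right (a := M * I) (b := mP)) le_sup_right)))
  obtain ⟨y, hy, r, hr, rfl⟩ := Submodule.mem_sup.mp (hle hpN)
  have hr' : r ∈ I ⊔ mP := sup_le_sup_right Ideal.mul_le_right mP hr
  have hy0 : π₀ y = 0 := by
    have h1 : y + r - r ∈ RingHom.ker π₀ := hker ▸ sub_mem (Submodule.mem_sup_left hp) hr'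
    rwa [add_sub_cancel_right] at h1
  have h2 := mem_mul_ker_of_isWeaklyRegular π₀ (fun b => ⟨Y b, hY b⟩) Ys (hYs.symm ▸ hrs.toIsWeaklyRegular) y hy hy0
  rw [hker, Ideal.mul_sup] at h2
  have hYM : Ideal.ofList Ys ≤ M := hM ▸ le_sup_left
  have hmPM : mP ≤ M := hM ▸ le_sup_right.trans le_sup_right
  have h3 : y + r ∈ M * I ⊔ mP :=
    add_mem (sup_le_sup (Ideal.mul_mono_left hYM) Ideal.mul_le_right h2) hr
  obtain ⟨z, hz, w, hw, hzw⟩ := Submodule.mem_sup.mp h3
  have hwI : w ∈ I := by
    have := I.sub_mem hp (Ideal.mul_le_right hz)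
    rwa [← hzw, add_sub_cancel_left] at this
  rw [← hzw]
  exact add_mem hz (Ideal.mul_mono_left hmPM (mem_map_mul_ker_of_flat π hπ (maximalIdeal A) hwI hw))

/-- Descend along a surjection. -/
theorem exists_factor {A P B T : Type u} [CommRing A] [CommRing P] [CommRing B] [CommRing T] [Algebra A P]
    [Algebra A B] [Algebra A T] (π : P →ₐ[A] B) (hπ : Function.Surjective π) (G : P →ₐ[A] T)
    (h : ∀ p ∈ RingHom.ker π, G p = 0) : ∃ φ : B →ₐ[A] T, ∀ p, φ (π p) = G p := by
  refine ⟨(Ideal.Quotient.liftₐ _ G h).comp (Ideal.quotientKerAlgEquivOfSurjective hπ).symm.toAlgHom, fun p => ?_⟩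
  rw [AlgHom.comp_apply,
    show π p = Ideal.quotientKerAlgEquivOfSurjective hπ (Ideal.Quotient.mk _ p) from rfl]
  simp only [AlgEquiv.coe_toAlgHom, AlgEquiv.symm_apply_apply]
  rfl

/-- Correct a lift on a presentation. -/
theorem exists_lift_of_presentation {A P B C : Type u} [CommRing A] [CommRing B] [CommRing P] [CommRing C]
    [IsLocalRing A] [IsLocalRing B] [IsLocalRing C] [IsNoetherianRing B] [Algebra A P] [Algebra A B] [Algebra A C]
    [IsLocalHom (algebraMap A B)] [Module.Flat A B]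
    [IsRegularLocalRing (B ⧸ (maximalIdeal A).map (algebraMap A B))] (hfib : FibreLift A B)
    (J : Ideal C) (hkill : ∀ c ∈ maximalIdeal C, ∀ y ∈ J, c * y = 0) (hJJ : ∀ a ∈ J, ∀ b ∈ J, a * b = 0)
    (π : P →ₐ[A] B) (hπ : Function.Surjective π) (ψ : B →ₐ[A] C ⧸ J) (hψ : ∀ b, IsUnit (ψ b) → IsUnit b)
    (F : P →ₐ[A] C) (hF : ∀ p, Ideal.Quotient.mk J (F p) = ψ (π p)) :
    ∃ χ : B →ₐ[A] C, (Ideal.Quotient.mkₐ A J).comp χ = ψ := by
  classical
  let I : Ideal P := RingHom.ker π
  have hFI : ∀ p ∈ I, F p ∈ J := fun p hp => by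
    rw [← Ideal.Quotient.eq_zero_iff_mem, hF, show π p = 0 from hp, map_zero]
  let M : Ideal P := (maximalIdeal B).comap π
  haveI : M.IsMaximal := Ideal.comap_isMaximal_of_surjective _ hπ
  have hFM : ∀ p ∈ M, F p ∈ maximalIdeal C := fun p hp hu => by
    have h1 := hu.map (Ideal.Quotient.mk J)
    rw [hF] at h1
    exact hp (hψ _ h1)
  let mP : Ideal P := (maximalIdeal A).map (algebraMap A P)
  have hmPM : mP ≤ M := Ideal.map_le_iff_le_comap.mpr fun a ha => by
    show π (algebraMap A P a) ∈ maximalIdeal B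
    rw [AlgHom.commutes]
    exact map_nonunit (algebraMap A B) a ha
  have hIM : I ≤ M := fun p hp => by
    show π p ∈ maximalIdeal B
    rw [show π p = 0 from hp]
    exact zero_mem _
  -- the kernel of the conormal map
  let N : Ideal P := M * M ⊔ mP
  have hIN : ∀ p ∈ I, p ∈ N → p ∈ M * I := by
    intro p hp hpN
    exact mem_mul_ker_of_mem_sq π hπ p hp hpN
  have hFMI : ∀ p ∈ M * I, F p = 0 := fun p hp =>
    Submodule.mul_induction_on (C := fun p => F p = 0) hp
      (fun a ha b hb => by rw [map_mul]; exact hkill _ (hFM a ha) _ (hFI b hb))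
      (fun a b ha hb => by rw [map_add, ha, hb, add_zero])
  -- the fibre lift
  let E := P ⧸ N
  let V : Ideal E := M.map (Ideal.Quotient.mk N)
  have hNM : N ≤ M := sup_le Ideal.mul_le_left hmPM
  have hV : V ^ 2 = ⊥ := by
    rw [← Ideal.map_pow, Ideal.map_eq_bot_iff_le_ker, Ideal.mk_ker, sq]
    exact le_sup_left
  have hVmem : ∀ p, Ideal.Quotient.mk N p ∈ V ↔ p ∈ M := fun p => by
    rw [← Ideal.mem_comap, Ideal.comap_map_of_surjective' _ Ideal.Quotient.mk_surjective, Ideal.mk_ker,
      sup_eq_left.mpr hNM]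
  let ψP : P →ₐ[A] E ⧸ V := (Ideal.Quotient.mkₐ A V).comp (Ideal.Quotient.mkₐ A N)
  obtain ⟨ψ₀, hψ₀'⟩ := exists_factor π hπ ψP fun p hp =>
    Ideal.Quotient.eq_zero_iff_mem.mpr ((hVmem p).mpr (hIM hp))
  have hψ₀ : ∀ p, ψ₀ (π p) = Ideal.Quotient.mk V (Ideal.Quotient.mk N p) := hψ₀'
  obtain ⟨lam, hlam⟩ := hfib E (fun a ha => Ideal.Quotient.eq_zero_iff_mem.mpr
    (Submodule.mem_sup_right (Ideal.mem_map_of_mem _ ha))) V hV ψ₀ fun b hb => by
      obtain ⟨p, rfl⟩ := hπ b
      rw [hψ₀, Ideal.Quotient.eq_zero_iff_mem, hVmem]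
      exact hb
  have hlam' : ∀ p, Ideal.Quotient.mk N p - lam (π p) ∈ V := fun p => by
    rw [← Ideal.Quotient.eq, ← hψ₀]
    exact (AlgHom.congr_fun hlam _).symm
  -- the correction
  letI : Algebra P C := F.toRingHom.toAlgebra
  let Vm : Submodule P E := V.restrictScalars P
  have htor : Module.IsTorsionBySet P Vm (M : Set P) := fun v m => Subtype.ext (by
    show (m : P) • (v : E) = 0
    have := Ideal.mul_mem_mul ((hVmem m).mpr m.2) v.2
    rw [← sq, hV, Ideal.mem_bot] at this
    rw [Algebra.smul_def]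
    exact this)
  let ι : I →ₗ[P] Vm :=
    (((Ideal.Quotient.mkₐ P N).toLinearMap).comp I.subtype).codRestrict Vm fun p => (hVmem _).mpr (hIM p.2)
  let f : I →ₗ[P] C :=
    { toFun := fun p => F p
      map_add' := fun a b => map_add F _ _
      map_smul' := fun a b => map_mul F _ _ }
  obtain ⟨g, hg⟩ := exists_extend_of_isTorsionBySet (M := M) htor ι
    (f.codRestrict (J.restrictScalars P) fun p => hFI p p.2) (fun p hp => by
      have h1 : (p : P) ∈ N := Ideal.Quotient.eq_zero_iff_mem.mp (congrArg Subtype.val hp)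
      exact Subtype.ext (hFMI p (hIN p p.2 h1)))
  let θ : P → C := fun p => g ⟨Ideal.Quotient.mk N p - lam (π p), hlam' p⟩
  have hθJ : ∀ p, θ p ∈ J := fun p => (g _).2
  have hθadd : ∀ p q, θ (p + q) = θ p + θ q := fun p q => by
    simp only [θ, ← Submodule.coe_add, ← map_add]
    congr 2
    exact Subtype.ext (by simp only [map_add, Submodule.coe_add]; ring)
  have hθmul : ∀ p q, θ (p * q) = F p * θ q + F q * θ p := fun p q => by
    show _ = ((p • g _ + q • g _ : J.restrictScalars P) : C)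
    simp only [θ]
    rw [← map_smul, ← map_smul, ← map_add]
    congr 2
    refine Subtype.ext ?_
    simp only [map_mul, Submodule.coe_add, Submodule.coe_smul, Algebra.smul_def, Ideal.Quotient.algebraMap_eq]
    have h1 := Ideal.mul_mem_mul (hlam' p) (hlam' q)
    rw [← sq, hV, Ideal.mem_bot] at h1
    linear_combination -h1
  have hθI : ∀ p ∈ I, θ p = F p := fun p hp => by
    have h := congrArg Subtype.val (hg ⟨p, hp⟩)
    refine Eq.trans ?_ h
    simp only [θ]
    congr 2
    refine Subtype.ext ?_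
    show Ideal.Quotient.mk N p - lam (π p) = Ideal.Quotient.mk N p
    rw [show π p = 0 from hp, map_zero, sub_zero]
  have hθC : ∀ a, θ (algebraMap A P a) = 0 := fun a => by
    simp only [θ]
    rw [show (⟨Ideal.Quotient.mk N (algebraMap A P a) - lam (π (algebraMap A P a)), hlam' _⟩ : Vm) = 0 from
      Subtype.ext (by
        show Ideal.Quotient.mk N (algebraMap A P a) - lam (π (algebraMap A P a)) = 0
        rw [π.commutes, lam.commutes]
        exact sub_self _), map_zero]
    rfl
  have hθ1 : θ 1 = 0 := by rw [← map_one (algebraMap A P), hθC]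
  let F' : P →ₐ[A] C :=
    { toFun := fun p => F p - θ p
      map_one' := by rw [map_one, hθ1, sub_zero]
      map_mul' := fun p q => by
        rw [map_mul, hθmul]
        linear_combination -(hJJ _ (hθJ p) _ (hθJ q))
      map_zero' := by rw [hθI 0 (zero_mem _), sub_self]
      map_add' := fun p q => by rw [map_add, hθadd]; ring
      commutes' := fun a => by rw [hθC, sub_zero, AlgHom.commutes] }
  obtain ⟨χ, hχ⟩ := exists_factor π hπ F' fun p hp => by
    show F p - θ p = 0
    rw [hθI p hp, sub_self]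
  refine ⟨χ, AlgHom.ext fun b => ?_⟩
  obtain ⟨p, rfl⟩ := hπ b
  show Ideal.Quotient.mk J (χ (π p)) = _
  rw [hχ]
  show Ideal.Quotient.mk J (F p - θ p) = ψ (π p)
  rw [map_sub, Ideal.Quotient.eq_zero_iff_mem.mpr (hθJ p), sub_zero, hF]

/-- A flat local homomorphism with regular closed fibre which lifts is formally smooth. -/
theorem fs_of_flat {A B : Type u} [CommRing A] [CommRing B] [IsLocalRing A] [IsLocalRing B] [IsNoetherianRing B]
    [Algebra A B] [IsLocalHom (algebraMap A B)] [Module.Flat A B]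
    [IsRegularLocalRing (B ⧸ (maximalIdeal A).map (algebraMap A B))] (hfib : FibreLift A B) :
    CAlgX.IsAdicFormallySmooth A B (maximalIdeal B) := by
  classical
  refine AdicSmooth.isAdicFormallySmooth_of_smallLift fun C _ _ _ _ _ J hJ hlen _ ψ _ _ => ?_
  -- the line
  haveI : IsSimpleModule C J := Module.length_eq_one_iff.mp hlen
  haveI := IsSimpleModule.nontrivial C J
  obtain ⟨x, hx⟩ := exists_ne (0 : J)
  have hsimple := (isSimpleModule_iff_toSpanSingleton_surjective.mp ‹IsSimpleModule C J›).2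
  have hkillx : ∀ c ∈ maximalIdeal C, c * (x : C) = 0 := fun c hc => by
    by_contra hne
    obtain ⟨d, hd⟩ := hsimple ⟨c * x, J.mul_mem_left c x.2⟩ (fun h0 => hne (congrArg Subtype.val h0)) x
    have h1 : (1 - d * c) * (x : C) = 0 := by
      have := congrArg Subtype.val hd
      simp only [LinearMap.toSpanSingleton_apply, Submodule.coe_smul, smul_eq_mul] at this
      linear_combination -this
    have hu : IsUnit (1 - d * c) :=
      IsLocalRing.isUnit_one_sub_self_of_mem_nonunits _ (Ideal.mul_mem_left _ d hc)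
    exact hx (Subtype.ext (hu.mul_right_eq_zero.mp h1))
  have hspan : ∀ y ∈ J, ∃ c : C, y = c * x := fun y hy => by
    obtain ⟨c, hc⟩ := hsimple x hx ⟨y, hy⟩
    exact ⟨c, (congrArg Subtype.val hc).symm⟩
  have hkill : ∀ c ∈ maximalIdeal C, ∀ y ∈ J, c * y = 0 := fun c hc y hy => by
    obtain ⟨d, rfl⟩ := hspan y hy
    rw [mul_left_comm, hkillx c hc, mul_zero]
  have hJJ : ∀ a ∈ J, ∀ b ∈ J, a * b = 0 := fun a ha b hb => by
    have := Ideal.mul_mem_mul ha hb
    rwa [← sq, hJ] at this
  -- the presentation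
  let π : MvPolynomial B A →ₐ[A] B := MvPolynomial.aeval id
  have hπ : Function.Surjective π := fun b => ⟨MvPolynomial.X b, MvPolynomial.aeval_X _ _⟩
  choose c hc using fun b => Ideal.Quotient.mk_surjective (ψ b)
  refine exists_lift_of_presentation hfib J hkill hJJ π hπ ψ (fun b hb => isUnit_of_map_unit ψ.toRingHom b hb)
    (MvPolynomial.aeval c) fun p => ?_
  have : (Ideal.Quotient.mkₐ A J).comp (MvPolynomial.aeval c) = ψ.comp π := MvPolynomial.algHom_ext fun b => by
    show Ideal.Quotient.mk J (MvPolynomial.aeval c (MvPolynomial.X b)) = ψ (π (MvPolynomial.X b))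
    rw [MvPolynomial.aeval_X, MvPolynomial.aeval_X, hc]
    rfl
  exact AlgHom.congr_fun this p

end Groth.Agent.RegFS6
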