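import Groth.Agent.GeomReg.Basic
import Mathlib.RingTheory.Localization.BaseChange
import Mathlib.RingTheory.Localization.LocalizationLocalization

/-!
# Local rings over the generic point
-/

set_option linter.style.haveILetI false

namespace Groth.Agent.RegFS6

universe u

open TensorProduct

/-- A prime over zero sees the generic fibre. -/
theorem regular_atPrime_of_generic {B D : Type u} [CommRing B] [IsDomain B] [CommRing D] [Algebra B D]
    (L : Type u) [Field L] [Algebra B L] [IsFractionRing B L] [IsRegularRing (L ⊗[B] D)] (q : Ideal D) [q.IsPrime]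
    (hq : q.comap (algebraMap B D) = ⊥) : IsRegularLocalRing (Localization.AtPrime q) := by
  haveI : IsRegularRing (D ⊗[B] L) := IsRegularRing.of_ringEquiv (Algebra.TensorProduct.comm B L D).toRingEquiv
  let M : Submonoid D := Algebra.algebraMapSubmonoid D (nonZeroDivisors B)
  have hd : Disjoint (M : Set D) (q : Set D) := by
    rw [Set.disjoint_left]
    rintro _ ⟨b, hb, rfl⟩ hbq
    have h1 : b ∈ q.comap (algebraMap B D) := hbq
    rw [hq, Ideal.mem_bot] at h1
    exact nonZeroDivisors.ne_zero hb h1
  let Q := q.map (algebraMap D (D ⊗[B] L))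
  haveI : Q.IsPrime := IsLocalization.isPrime_of_isPrime_disjoint M (D ⊗[B] L) q ‹_› hd
  have hc : Q.comap (algebraMap D (D ⊗[B] L)) = q :=
    IsLocalization.under_map_of_isPrime_disjoint M (D ⊗[B] L) ‹_› hd
  haveI hloc := IsLocalization.isLocalization_isLocalization_atPrime_isLocalization M (Localization.AtPrime Q) Q
  simp only [hc] at hloc
  haveI := hloc
  haveI : IsRegularLocalRing (Localization.AtPrime Q) := IsRegularRing.isRegularLocalRing_localization Q
  exact IsRegularLocalRing.of_ringEquiv (R := Localization.AtPrime Q)
    (IsLocalization.algEquiv q.primeCompl (Localization.AtPrime Q) (Localization.AtPrime q)).toRingEquiv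

end Groth.Agent.RegFS6
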