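import Groth.Agent.RegFS6.Deriv

/-!
# Derivations from regularity after extensions of height one
-/

set_option linter.style.haveILetI false
set_option autoImplicit false

namespace Groth.Agent.RegFS6

universe u

open IsLocalRing TensorProduct EGA41 SmoothingLib.GeomDiff
open Groth.Agent.PRootLib (Separated rootIdeal)

variable (p : ℕ) [hp : Fact p.Prime] {k : Type u} [Field k] [CharP k p]

/-- In `k[X]/(Xᵢᵖ - tᵢ)` all `p`-th powers come from `k`. -/
theorem pow_mem_range_rootQuot {r : ℕ} (t : Fin r → k) (x : MvPolynomial (Fin r) k ⧸ rootIdeal p t) :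
    x ^ p ∈ (algebraMap k (MvPolynomial (Fin r) k ⧸ rootIdeal p t)).range := by
  rcases subsingleton_or_nontrivial (MvPolynomial (Fin r) k ⧸ rootIdeal p t) with h | h
  · exact ⟨0, Subsingleton.elim _ _⟩
  haveI : CharP (MvPolynomial (Fin r) k ⧸ rootIdeal p t) p :=
    charP_of_injective_algebraMap (algebraMap k _).injective p
  obtain ⟨P, rfl⟩ := Ideal.Quotient.mk_surjective x
  induction P using MvPolynomial.induction_on with
  | C a => exact ⟨a ^ p, by rw [map_pow]; rfl⟩
  | add f g hf hg =>
    rw [map_add, add_pow_char]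
    exact add_mem hf hg
  | mul_X f i hf =>
    rw [map_mul, mul_pow]
    refine mul_mem hf ⟨t i, ?_⟩
    rw [← map_pow]
    show Ideal.Quotient.mk (rootIdeal p t) (MvPolynomial.C (t i)) = Ideal.Quotient.mk _ (MvPolynomial.X i ^ p)
    symm
    rw [Ideal.Quotient.eq]
    exact Ideal.subset_span ⟨i, rfl⟩

variable {L : Type u} [CommRing L] [Algebra k L] [IsRegularLocalRing L]

/-- Separated elements of the base stay separated in a geometrically regular local algebra. -/
theorem separated_algebraMap [CharP L p] (hL : ∀ (k' : Type u) [Field k'] [Algebra k k'], Module.Finite k k' →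
    (∀ x : k', x ^ p ∈ (algebraMap k k').range) → IsRegularRing (k' ⊗[k] L)) {r : ℕ} {t : Fin r → k}
    (ht : Separated t) : Separated (fun i => algebraMap k L (t i)) := by
  haveI := module_finite_rootQuot p t
  letI := (isField_rootQuot p ht).toField
  haveI := hL (MvPolynomial (Fin r) k ⧸ rootIdeal p t) inferInstance (pow_mem_range_rootQuot p t)
  obtain ⟨e, he⟩ := exists_equiv_baseChange p (L := L) t
  haveI : IsRegularRing (MvPolynomial (Fin r) L ⧸ rootIdeal p (fun i => algebraMap k L (t i))) :=
    IsRegularRing.of_ringEquiv e.symm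
  obtain ⟨hloc, -, hiff⟩ := PRootLib.main p r (fun i => algebraMap k L (t i))
  haveI := hloc
  set BL := MvPolynomial (Fin r) L ⧸ rootIdeal p (fun i => algebraMap k L (t i))
  haveI : IsRegularLocalRing BL := IsRegularLocalRing.of_isRegularRing_of_isLocalRing _
  refine hiff.1 ?_
  have hinj : Function.Injective (algebraMap L BL) := by
    have h1 : Function.Injective (fun l : L => (1 : MvPolynomial (Fin r) k ⧸ rootIdeal p t) ⊗ₜ[k] l) :=
      Algebra.TensorProduct.includeRight_injective (algebraMap k _).injective
    intro x y hxy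
    refine h1 ?_
    show (1 : MvPolynomial (Fin r) k ⧸ rootIdeal p t) ⊗ₜ[k] x = _
    rw [← he, hxy, he]
  haveI : FaithfulSMul L BL := (faithfulSMul_iff_algebraMap_injective _ _).2 hinj
  haveI : Algebra.IsIntegral L BL := by
    refine ⟨fun b => ?_⟩
    obtain ⟨P, rfl⟩ := Ideal.Quotient.mk_surjective b
    induction P using MvPolynomial.induction_on with
    | C a => exact isIntegral_algebraMap (R := L) (x := a)
    | add f g hf hg => rw [map_add]; exact hf.add hg
    | mul_X f i hf =>
      rw [map_mul]
      refine hf.mul ⟨Polynomial.X ^ p - Polynomial.C (algebraMap k L (t i)), Polynomial.monic_X_pow_sub_C _ hp.out.ne_zero, ?_⟩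
      rw [Polynomial.eval₂_sub, Polynomial.eval₂_pow, Polynomial.eval₂_X, Polynomial.eval₂_C, ← map_pow]
      exact (Ideal.Quotient.eq_zero_iff_mem.2 (Ideal.subset_span ⟨i, rfl⟩) : Ideal.Quotient.mk (rootIdeal p (fun i => algebraMap k L (t i))) _ = 0) |>
        fun h => by rw [map_sub] at h; exact h
  have hdim : ringKrullDim BL = ringKrullDim L := VarDim.ringKrullDim_eq_of_isIntegral
  have h1 := IsRegularLocalRing.spanFinrank_maximalIdeal (R := L)
  have h2 := IsRegularLocalRing.spanFinrank_maximalIdeal (R := BL)
  rw [spanFinrank_maximalIdeal_eq_finrank_cotangentSpace] at h1 h2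
  rw [hdim, ← h1] at h2
  exact_mod_cast h2.symm

variable [CharP L p] {F : Type u} [Field F] [Algebra L F] [Algebra k F] [IsScalarTower k L F]

include p hp in
/-- Derivations of the base into a residue field extend to a geometrically regular local algebra. -/
theorem exists_derivation_extend (hL : ∀ (k' : Type u) [Field k'] [Algebra k k'], Module.Finite k k' →
    (∀ x : k', x ^ p ∈ (algebraMap k k').range) → IsRegularRing (k' ⊗[k] L))
    (hF : ∀ x ∈ maximalIdeal L, algebraMap L F x = 0) (δ : Derivation ℤ k F) :
    ∃ D : Derivation ℤ L F, ∀ c, D (algebraMap k L c) = δ c := by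
  classical
  obtain ⟨T, hT⟩ := exists_pbasis p k
  let e : T → F ⊗[L] Ω[L⁄ℤ] := fun t => (1 : F) ⊗ₜ[L] KaehlerDifferential.D ℤ L (algebraMap k L t)
  have hli : LinearIndependent F e := by
    rw [linearIndependent_iff']
    intro s g hg i hi
    let t : Fin s.card → T := fun l => s.equivFin.symm l
    have htinj : Function.Injective t := Subtype.val_injective.comp s.equivFin.symm.injective
    have hsep := separated_algebraMap p hL (separated_of_pbasis (k := k) hT t htinj)
    obtain ⟨D, hD⟩ := hsep (s.equivFin ⟨i, hi⟩)
    obtain ⟨ι, D', -, hD'⟩ := exists_derivation_comp hF D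
    have hv : ∀ j ∈ s, LinearMap.liftBaseChange F D'.liftKaehlerDifferential (e j) = if j = i then 1 else 0 := by
      intro j hj
      simp only [e, LinearMap.liftBaseChange_tmul, one_smul, Derivation.liftKaehlerDifferential_comp_D, hD']
      have := hD (s.equivFin ⟨j, hj⟩)
      simp only [t, Equiv.symm_apply_apply] at this
      rw [this]
      by_cases hji : j = i
      · subst hji; simp
      · rw [if_neg (fun h => hji (congrArg Subtype.val (s.equivFin.injective h))), if_neg hji, map_zero]
    have h := congrArg (LinearMap.liftBaseChange F D'.liftKaehlerDifferential) hg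
    rw [map_sum, map_zero, Finset.sum_eq_single_of_mem i hi] at h
    · rwa [map_smul, hv i hi, if_pos rfl, smul_eq_mul, mul_one] at h
    · intro j hj hji
      rw [map_smul, hv j hj, if_neg hji, smul_zero]
  obtain ⟨g, hg⟩ := LinearMap.exists_extend
    ((Finsupp.linearCombination F fun t : T => δ (t : k)).comp hli.repr :
      Submodule.span F (Set.range e) →ₗ[F] F)
  let D : Derivation ℤ L F :=
    ((g.restrictScalars L).comp (TensorProduct.mk L F (Ω[L⁄ℤ]) 1)).compDer (KaehlerDifferential.D ℤ L)
  refine ⟨D, fun c => ?_⟩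
  obtain ⟨δ', -, huniq⟩ := hT F (fun t => δ t)
  have h2 : D.compAlgebraMap k = δ' := huniq _ fun t => by
    show g (e t) = δ t
    have h1 := LinearMap.congr_fun hg ⟨_, Submodule.subset_span (Set.mem_range_self t)⟩
    rw [LinearMap.comp_apply, Submodule.subtype_apply] at h1
    rw [h1, LinearMap.comp_apply, LinearIndependent.repr_eq_single hli t _ rfl, Finsupp.linearCombination_single,
      one_smul]
  show D.compAlgebraMap k c = δ c
  rw [h2, ← huniq δ fun _ => rfl]

end Groth.Agent.RegFS6
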