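import Mathlib

/-!
# Absolute differentials and the prime field
-/

set_option linter.style.haveILetI false

namespace Groth.Agent.RegFS6

universe u v w

open TensorProduct KaehlerDifferential

/-- An unramified intermediate base does not change the differentials. -/
theorem map_bijective_of_unramified (Z : Type w) (P : Type v) (B : Type u) [CommRing Z] [CommRing P] [CommRing B]
    [Algebra Z P] [Algebra P B] [Algebra Z B] [IsScalarTower Z P B] [Algebra.FormallyUnramified Z P] :
    Function.Bijective (KaehlerDifferential.map Z P B B) := by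
  refine ⟨(injective_iff_map_eq_zero _).mpr fun x hx => ?_, KaehlerDifferential.map_surjective Z P B⟩
  obtain ⟨y, rfl⟩ := (KaehlerDifferential.exact_mapBaseChange_map Z P B x).mp hx
  rw [show y = 0 from ?_, map_zero]
  clear hx
  induction y using TensorProduct.induction_on with
  | zero => rfl
  | tmul b z => rw [Subsingleton.elim z 0, TensorProduct.tmul_zero]
  | add y z hy hz => rw [hy, hz, add_zero]

/-- Injectivity of the base change map is the same over an unramified intermediate base. -/
theorem lTensor_mapBaseChange_injective_iff (Z : Type w) (P k A C : Type u) [CommRing Z] [CommRing P] [CommRing k]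
    [CommRing A] [AddCommGroup C] [Module A C] [Algebra Z P] [Algebra P k] [Algebra Z k] [IsScalarTower Z P k]
    [Algebra k A] [Algebra Z A] [IsScalarTower Z k A] [Algebra P A] [IsScalarTower P k A] [IsScalarTower Z P A]
    [Algebra.FormallyUnramified Z P] :
    Function.Injective ((mapBaseChange Z k A).lTensor C) ↔ Function.Injective ((mapBaseChange P k A).lTensor C) := by
  let pk : (A ⊗[k] Ω[k⁄Z]) ≃ₗ[A] (A ⊗[k] Ω[k⁄P]) :=
    LinearEquiv.baseChange k A _ _ (LinearEquiv.ofBijective _ (map_bijective_of_unramified Z P k))
  let pA : Ω[A⁄Z] ≃ₗ[A] Ω[A⁄P] := LinearEquiv.ofBijective _ (map_bijective_of_unramified Z P A)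
  have hsq : (mapBaseChange P k A).comp pk.toLinearMap = pA.toLinearMap.comp (mapBaseChange Z k A) := by
    refine TensorProduct.AlgebraTensorModule.ext fun a x => ?_
    show mapBaseChange P k A (a ⊗ₜ[k] KaehlerDifferential.map Z P k k x) =
      KaehlerDifferential.map Z P A A (mapBaseChange Z k A (a ⊗ₜ[k] x))
    rw [mapBaseChange_tmul, mapBaseChange_tmul, map_smul]
    congr 1
    have hx : x ∈ Submodule.span k (Set.range (KaehlerDifferential.D Z k)) := by
      rw [KaehlerDifferential.span_range_derivation]
      trivial
    induction hx using Submodule.span_induction with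
    | mem y hy =>
      obtain ⟨c, rfl⟩ := hy
      simp
    | zero => simp
    | add s t _ _ hs ht => simp only [map_add, hs, ht]
    | smul r s _ hs => rw [map_smul, map_smul, map_smul, hs, LinearMap.map_smul_of_tower]
  have h1 := congrArg (LinearMap.lTensor C) hsq
  rw [LinearMap.lTensor_comp, LinearMap.lTensor_comp] at h1
  have h2 : (mapBaseChange Z k A).lTensor C =
      (pA.symm.lTensor C).toLinearMap.comp (((mapBaseChange P k A).lTensor C).comp (pk.lTensor C).toLinearMap) := by
    have : (pA.lTensor C).toLinearMap.comp ((mapBaseChange Z k A).lTensor C) =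
        ((mapBaseChange P k A).lTensor C).comp (pk.lTensor C).toLinearMap := h1.symm
    rw [← this]
    ext x
    simp
  rw [h2]
  simp only [LinearMap.coe_comp, LinearEquiv.coe_coe, EquivLike.comp_injective, EquivLike.injective_comp]

/-- Every field has a perfect formally unramified prime field. -/
theorem exists_primeField (k : Type u) [Field k] :
    ∃ (P : Type u) (_ : Field P) (_ : Algebra P k), PerfectField P ∧ Algebra.FormallyUnramified ℤ P := by
  rcases CharP.exists' k with h0 | ⟨p, hp, hk⟩
  · let P := ULift.{u} ℚ
    letI : Algebra P k := ((algebraMap ℚ k).comp (ULift.ringEquiv (R := ℚ)).toRingHom).toAlgebra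
    haveI : CharZero P := charZero_of_injective_ringHom (f := (ULift.ringEquiv (R := ℚ)).symm.toRingHom)
      (ULift.ringEquiv (R := ℚ)).symm.injective
    haveI : Algebra.FormallyUnramified ℤ ℚ := Algebra.FormallyUnramified.of_isLocalization (nonZeroDivisors ℤ)
    refine ⟨P, inferInstance, inferInstance, inferInstance, ?_⟩
    let e : ℚ ≃ₐ[ℤ] P := AlgEquiv.ofRingEquiv (f := (ULift.ringEquiv (R := ℚ)).symm) fun z => by simp
    convert! Algebra.FormallyUnramified.of_equiv e
  · haveI := hp
    let P := ULift.{u} (ZMod p)
    haveI : Finite P := Finite.of_equiv _ Equiv.ulift.symm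
    haveI : PerfectField P := PerfectField.ofFinite
    letI : Algebra P k := ((ZMod.castHom dvd_rfl k).comp (ULift.ringEquiv (R := ZMod p)).toRingHom).toAlgebra
    refine ⟨P, inferInstance, inferInstance, inferInstance, ?_⟩
    convert!
      Algebra.FormallyUnramified.of_surjective (Algebra.ofId ℤ P) fun z => ⟨((z.down.val : ℕ) : ℤ), by
        apply ULift.ext
        rw [map_natCast, ULift.down_natCast, ZMod.natCast_zmod_val]⟩

end Groth.Agent.RegFS6
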