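import Groth.Agent.CoeffField.Smooth
import Groth.Agent.S2462
import Groth.Agent.S4537

/-!
# Uniqueness of sections of the residue map
-/

set_option linter.style.haveILetI false

namespace Groth.Agent.RegFS6

universe u

open IsLocalRing

/-- The residue map has one section exactly when the residue field has no differentials. -/
theorem section_unique_iff {C K : Type u} [CommRing C] [IsLocalRing C] [IsNoetherianRing C]
    [IsAdicComplete (maximalIdeal C) C] [Field K] (π : C →+* K) (hker : ∀ x, π x = 0 ↔ x ∈ maximalIdeal C)
    (hm : maximalIdeal C ≠ ⊥) (u : K →+* C) (hu : ∀ x, π (u x) = x) :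
    (∀ v : K →+* C, (∀ x, π (v x) = x) → v = u) ↔ Subsingleton (Ω[K⁄ℤ]) := by
  constructor
  · intro huniq
    have hfs : ∀ (P : Type u) [Field P] [PerfectField P] [Algebra P (K)],
        ∀ D : Derivation ℤ (K) (K),
          (∀ q : P, D (algebraMap P (K) q) = 0) → D = 0 := by
      intro P _ _ _ D hD
      haveI := CoeffField.formallySmooth_of_perfectField P (K)
      letI : Algebra P C := (u.comp (algebraMap P (K))).toAlgebra
      have hne : maximalIdeal C ^ 2 ≠ ⊤ :=
        ne_top_of_le_ne_top (maximalIdeal.isMaximal C).ne_top (Ideal.pow_le_self two_ne_zero)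
      obtain ⟨T, hT, hT2⟩ : ∃ T ∈ maximalIdeal C, T ∉ maximalIdeal C ^ 2 := by
        by_contra hall
        simp only [not_exists, not_and, not_not] at hall
        refine hm (Submodule.eq_bot_of_le_smul_of_le_jacobson_bot (maximalIdeal C) _ (IsNoetherian.noetherian _) ?_
          (IsLocalRing.maximalIdeal_le_jacobson _))
        rw [smul_eq_mul, ← sq]
        exact hall
      let q := Ideal.Quotient.mk (maximalIdeal C ^ 2)
      have hqT : q T * q T = 0 := by
        rw [← map_mul, Ideal.Quotient.eq_zero_iff_mem, sq]
        exact Ideal.mul_mem_mul hT hT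
      let w : K →+* C ⧸ maximalIdeal C ^ 2 :=
        { toFun := fun x => q (u x) + q (u (D x)) * q T
          map_one' := by simp
          map_mul' := fun x y => by
            simp only [map_mul, Derivation.leibniz, smul_eq_mul, map_add]
            linear_combination -(q (u (D x)) * q (u (D y))) * hqT
          map_zero' := by simp
          map_add' := fun x y => by simp only [map_add]; ring }
      have hw : ∀ a : P, w (algebraMap P (K) a) = algebraMap P (C ⧸ maximalIdeal C ^ 2) a := fun a => by
        show q _ + q (u (D _)) * q T = _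
        rw [hD, map_zero, map_zero, zero_mul, add_zero]
        rfl
      let w' : K →ₐ[P] C ⧸ maximalIdeal C ^ 2 := { w with commutes' := hw }
      have hfs : CAlgX.IsAdicFormallySmooth P (K) (⊥ : Ideal (K)) :=
        fun E _ _ J hJ ψ _ => Algebra.FormallySmooth.exists_lift (R := P) J ⟨2, by rw [hJ, Ideal.zero_eq_bot]⟩ ψ
      obtain ⟨v, -, hv⟩ := S2462.result ⊥ ⊥ ((S4537.result _).mp hfs) (by rw [Ideal.map_bot]; exact bot_le)
        (maximalIdeal C ^ 2) hne w' (by rw [Ideal.map_bot]; exact bot_le)
      have hvq : ∀ x, q (v x) = w x := fun x => AlgHom.congr_fun hv x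
      have hsec : ∀ x, π (v x) = x := fun x => by
        have h1 : v x - (u x + u (D x) * T) ∈ maximalIdeal C ^ 2 := Ideal.Quotient.eq.mp ((hvq x).trans (by
          show q (u x) + q (u (D x)) * q T = _
          rw [← map_mul, ← map_add]))
        have h2 := (hker _).mpr (Ideal.pow_le_self two_ne_zero h1)
        rwa [map_sub, map_add, map_mul, (hker T).mpr hT, mul_zero, add_zero, hu, sub_eq_zero] at h2
      have heq : v.toRingHom = u := huniq v.toRingHom hsec
      refine Derivation.ext fun x => ?_
      by_contra hx
      change D x ≠ 0 at hx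
      refine hT2 ((Ideal.unit_mul_mem_iff_mem _ ((isUnit_iff_ne_zero.mpr hx).map u)).mp
        (Ideal.Quotient.eq_zero_iff_mem.mp ?_))
      have h1 := hvq x
      rw [show v x = u x from RingHom.congr_fun heq x] at h1
      change q (u x) = q (u x) + q (u (D x)) * q T at h1
      rw [← map_mul] at h1
      exact (left_eq_add.mp h1)
    have hD0 : ∀ D : Derivation ℤ (K) (K), D = 0 := by
      intro D
      rcases CharP.exists' (K) with h0 | ⟨p, hp, hk⟩
      · let P := ULift.{u} ℚ
        letI : Algebra P (K) :=
          ((algebraMap ℚ (K)).comp (ULift.ringEquiv (R := ℚ)).toRingHom).toAlgebra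
        haveI : CharZero P := charZero_of_injective_ringHom (f := (ULift.ringEquiv (R := ℚ)).symm.toRingHom) (ULift.ringEquiv (R := ℚ)).symm.injective
        refine hfs P D fun a => ?_
        show D (algebraMap ℚ (K) a.down) = 0
        have h1 := congrArg (fun t : ℚ => D (algebraMap ℚ (K) t)) (Rat.mul_den_eq_num a.down)
        simp only [map_mul, map_natCast, map_intCast, Derivation.leibniz, Derivation.map_natCast,
          Derivation.map_intCast, smul_zero, zero_add, smul_eq_mul] at h1
        rw [mul_zero, zero_add] at h1
        exact (mul_eq_zero.mp h1).resolve_left (Nat.cast_ne_zero.mpr a.down.den_nz)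
      · haveI := hp
        let P := ULift.{u} (ZMod p)
        haveI : Finite P := Finite.of_equiv _ Equiv.ulift.symm
        haveI : PerfectField P := PerfectField.ofFinite
        letI : Algebra P (K) :=
          ((ZMod.castHom dvd_rfl (K)).comp (ULift.ringEquiv (R := ZMod p)).toRingHom).toAlgebra
        refine hfs P D fun a => ?_
        show D (ZMod.castHom dvd_rfl (K) a.down) = 0
        rw [← ZMod.natCast_zmod_val a.down, map_natCast, Derivation.map_natCast]
    refine subsingleton_of_forall_eq 0 fun ω => ?_
    rw [← Module.forall_dual_apply_eq_zero_iff (K)]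
    intro φ
    have hω : ω ∈ Submodule.span (K) (Set.range (KaehlerDifferential.D ℤ (K))) :=
      (KaehlerDifferential.span_range_derivation ℤ (K)).ge trivial
    induction hω using Submodule.span_induction with
    | mem y hy =>
      obtain ⟨a, rfl⟩ := hy
      exact Derivation.congr_fun (hD0 (φ.compDer (KaehlerDifferential.D ℤ (K)))) a
    | zero => exact map_zero _
    | add a b _ _ ha hb => rw [map_add, ha, hb, add_zero]
    | smul r a _ ha => rw [map_smul, ha, smul_zero]
  · intro hΩ v hv
    haveI : Algebra.FormallyUnramified ℤ (K) := ⟨hΩ⟩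
    refine RingHom.ext fun x => sub_eq_zero.mp (IsHausdorff.haus (I := maximalIdeal C) (M := C) inferInstance _ fun n => ?_)
    rw [SModEq.zero, smul_eq_mul, Ideal.mul_top, ← Ideal.Quotient.eq]
    let qn := Ideal.Quotient.mk (maximalIdeal C ^ n)
    let J : Ideal (C ⧸ maximalIdeal C ^ n) := (maximalIdeal C).map qn
    have hJ : IsNilpotent J := ⟨n, by rw [← Ideal.map_pow, Ideal.map_quotient_self, Ideal.zero_eq_bot]⟩
    have hext := Algebra.FormallyUnramified.ext (R := ℤ) J hJ (g₁ := (qn.comp v).toIntAlgHom)
      (g₂ := (qn.comp u).toIntAlgHom) fun y => by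
        show Ideal.Quotient.mk J (qn (v y)) = Ideal.Quotient.mk J (qn (u y))
        rw [Ideal.Quotient.eq, ← map_sub]
        refine Ideal.mem_map_of_mem qn ((hker _).mp ?_)
        rw [map_sub, hv, hu, sub_self]
    exact AlgHom.congr_fun hext x


end Groth.Agent.RegFS6
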