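import Groth.Agent.RegFS6.FlatConv
import Groth.Agent.EGA41Lib.FieldFS

/-!
# Formal smoothness when the maximal ideal generates
-/

set_option linter.style.haveILetI false

namespace Groth.Agent.RegFS6

universe u

open IsLocalRing

variable {A B : Type u} [CommRing A] [CommRing B] [IsLocalRing A] [IsLocalRing B] [Algebra A B]
  [IsLocalHom (algebraMap A B)]

/-- Flat with unramified closed fibre and separable residue field: formally smooth. -/
theorem fs_of_map_max [IsNoetherianRing B] [Module.Flat A B]
    (hm : (maximalIdeal A).map (algebraMap A B) = maximalIdeal B)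
    [Algebra.IsGeometricallyReduced (ResidueField A) (ResidueField B)] :
    CAlgX.IsAdicFormallySmooth A B (maximalIdeal B) := by
  haveI : IsRegularLocalRing (B ⧸ (maximalIdeal A).map (algebraMap A B)) := by
    rw [hm]
    letI := Ideal.Quotient.field (maximalIdeal B)
    infer_instance
  refine RegFS6.fs_of_flat fun E _ _ hE J hJ ψ hψ => ?_
  haveI := EGA41Lib.FieldFS.formallySmooth_of_isGeometricallyReduced (ResidueField A) (ResidueField B)
  let f : ResidueField A →+* E := Ideal.Quotient.lift _ (algebraMap A E) hE
  letI : Algebra (ResidueField A) E := f.toAlgebra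
  haveI : IsScalarTower A (ResidueField A) E := IsScalarTower.of_algebraMap_eq fun _ => rfl
  let ψ₀ : ResidueField B →+* E ⧸ J := Ideal.Quotient.lift _ ψ.toRingHom hψ
  have hc : ∀ z, ψ₀ (algebraMap (ResidueField A) (ResidueField B) z) = algebraMap (ResidueField A) (E ⧸ J) z := fun z => by
    obtain ⟨a, rfl⟩ := residue_surjective z
    show ψ (algebraMap A B a) = _
    rw [AlgHom.commutes]
    exact (IsScalarTower.algebraMap_apply A (ResidueField A) (E ⧸ J) a)
  obtain ⟨χ, hχ⟩ := Algebra.FormallySmooth.exists_lift (R := ResidueField A) J ⟨2, by rw [hJ, Ideal.zero_eq_bot]⟩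
    ({ ψ₀ with commutes' := hc } : ResidueField B →ₐ[ResidueField A] E ⧸ J)
  have hc2 : ∀ a, χ (residue B (algebraMap A B a)) = algebraMap A E a := fun a => by
    rw [← ResidueField.algebraMap_eq, ← IsScalarTower.algebraMap_apply A B (ResidueField B),
      IsScalarTower.algebraMap_apply A (ResidueField A) (ResidueField B), AlgHom.commutes,
      ← IsScalarTower.algebraMap_apply]
  exact ⟨{ χ.toRingHom.comp (residue B) with commutes' := hc2 }, AlgHom.ext fun b => AlgHom.congr_fun hχ (residue B b)⟩

/-- The residue extension of a formally smooth map with unramified closed fibre is formally smooth. -/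
theorem formallySmooth_residue_of_fs (hm : (maximalIdeal A).map (algebraMap A B) = maximalIdeal B)
    (hfs : CAlgX.IsAdicFormallySmooth A B (maximalIdeal B)) :
    Algebra.FormallySmooth (ResidueField A) (ResidueField B) := by
  refine Algebra.FormallySmooth.iff_comp_surjective.mpr fun E _ _ J hJ ψ => ?_
  letI : Algebra A E := ((algebraMap (ResidueField A) E).comp (algebraMap A (ResidueField A))).toAlgebra
  haveI : IsScalarTower A (ResidueField A) E := IsScalarTower.of_algebraMap_eq fun _ => rfl
  obtain ⟨w, hw⟩ := hfs E J hJ ((ψ.restrictScalars A).comp (IsScalarTower.toAlgHom A B (ResidueField B)))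
    ⟨1, fun b hb => by
      rw [pow_one] at hb
      show ψ (residue B b) = 0
      rw [(residue_eq_zero_iff b).mpr hb, map_zero]⟩
  have hw0 : ∀ b ∈ maximalIdeal B, w b = 0 := by
    intro b hb
    rw [← hm] at hb
    induction hb using Submodule.span_induction with
    | mem y hy =>
      obtain ⟨a, ha, rfl⟩ := hy
      rw [AlgHom.commutes, IsScalarTower.algebraMap_apply A (ResidueField A) E, ResidueField.algebraMap_eq,
        (residue_eq_zero_iff a).mpr ha, map_zero]
    | zero => exact map_zero _
    | add y z _ _ hy hz => rw [map_add, hy, hz, add_zero]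
    | smul r y _ hy => rw [smul_eq_mul, map_mul, hy, mul_zero]
  let w₀ : ResidueField B →+* E := Ideal.Quotient.lift _ w.toRingHom hw0
  have hc : ∀ z, w₀ (algebraMap (ResidueField A) (ResidueField B) z) = algebraMap (ResidueField A) E z := fun z => by
    obtain ⟨a, rfl⟩ := residue_surjective z
    show w (algebraMap A B a) = _
    rw [AlgHom.commutes]
    rfl
  refine ⟨{ w₀ with commutes' := hc }, AlgHom.ext fun z => ?_⟩
  obtain ⟨b, rfl⟩ := residue_surjective z
  exact AlgHom.congr_fun hw b

end Groth.Agent.RegFS6
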